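import Cfsg.Agent.Z6.Ch
import Cfsg.Agent.Z6.LA
import Cfsg.Agent.Z6.LB

/-! The group of order 5616. -/

set_option autoImplicit false
set_option linter.unusedVariables false
set_option linter.unusedSectionVars false

namespace Z6

open Cfsg Subgroup FT H4 H5 GW P H8
open H9 (glI glJ glU glT card_GL23 gl_rel mem_zpowers_three)

universe u

variable {G : Type u} [Group G] [Finite G]

theorem Hy.npc {z w : G} (h : Hy z w) : H7.NPC 2 (Cen1 w) := by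
  rw [← H7.npc_top_iff]
  refine H7.FrobHyp.npc (fun U hU g hg _ u hu => ?_) ⊤
  by_cases e : u = 1
  · simp [e]
  have h1 := cmem hg hu
  refine (mul_inv_eq_iff_eq_mul.1 (Subtype.ext ?_)).symm
  exact h.fix_uniq h.hw (hU.map (Cen1 w).subtype) (mem_map_of_mem _ h1) (mem_map_of_mem _ hu)
    (g * u * g⁻¹).2 u.2 (fun e' => e (by simpa using e')) fun e' => e (Subtype.ext e')

theorem Hy.exists_fix {z w u : G} (h : Hy z w) (c48 : ∀ u : G, orderOf u = 2 → Nat.card (Cen1 u) = 48)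
    (cj : ∀ u y : G, orderOf u = 2 → y ∈ Cen1 u → Odd (orderOf y) → y ≠ 1 → IsConj w y)
    (h27 : 27 ∣ Nat.card G) (f : F4 z u) (uw : u * w * u⁻¹ = w⁻¹) :
    ∃ y ∈ Cen1 w, y ∈ Cen1 u ∧ Odd (orderOf y) ∧ y ≠ 1 ∧ z * y * z⁻¹ = y⁻¹ := by
  have := Fact.mk Nat.prime_three
  have ow : Odd (orderOf w) := by rw [h.hw]; decide
  have mB : ∀ y ∈ Cen1 w, Odd (orderOf y) → y ∈ Uo w := fun y hy o =>
    h.npc.mem_of_coprime hy (odd_iff_cop.1 o)
  have oB := odd_Oo (Cen1 w)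
  have zB : z ∈ Nor (Uo w) := nUo w (c1s.1 h.c)
  have uB : u ∈ Nor (Uo w) := nOo _ (mem_normalizer_iff_conjS.2 (by
    rw [conj_c1, uw]; ext g; rw [c1s, inv_mem_iff, c1s]))
  have b3 : Uo w ⊓ Cen1 z ≤ zpowers w := fun y hy => by
    obtain ⟨v, hv, a, ha, rfl⟩ := h.dec hy.2 (Uo_le w hy.1)
    rcases (mzi h.hz).1 ha with rfl | rfl
    · simpa using hv
    · exact absurd ((mul_mem_cancel_left (zpowers_le.2 (mB w (c1.2 rfl) ow) hv)).1 hy.1)
        (not_mem_odd oB h.hz)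
  have w1 : w ≠ 1 := fun e => by simpa [e] using h.hw
  have wi : w⁻¹ ≠ w := fun e => w1 (eq_one_of_odd_sq ow (mul_eq_one_iff_inv_eq.2 e))
  by_cases hn : Uo w ⊓ Cen1 u ≤ ⊥
  swap
  · obtain ⟨y, hy, y1⟩ := SetLike.not_le_iff_exists.1 hn
    have h1 : y * (z * y * z⁻¹)⁻¹ ∈ Uo w := mul_mem hy.1 (inv_mem (cmem zB hy.1))
    refine ⟨_, Uo_le w h1, mul_mem hy.2 (inv_mem (cmem (mc1 f.tH) hy.2)), odd_ord oB h1, fun e => ?_, ?_⟩
    · have e1 := b3 ⟨hy.1, c1s.1 (c1.2 (mul_inv_eq_iff_eq_mul.1 (mul_inv_eq_one.1 e).symm))⟩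
      have e2 : u * y * u⁻¹ = y := mul_inv_eq_iff_eq_mul.2 (c1.1 hy.2).symm
      rcases (mem_zpowers_three h.hw).1 e1 with rfl | rfl | rfl
      · exact y1 (one_mem _)
      · exact wi (uw.symm.trans e2)
      · rw [← conj_inv, uw] at e2; exact wi (inv_injective e2)
    · rw [show z * (y * (z * y * z⁻¹)⁻¹) * z⁻¹ = z * y * z⁻¹ * (z * z * y⁻¹ * (z * z)⁻¹) by group,
        ii h.hz]
      group
  exfalso
  have hB : Uo w ≤ Uo w ⊓ Cen1 (z * u) ⊔ zpowers w :=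
    f.gen zB uB oB (b3.trans le_sup_right) (hn.trans bot_le) le_sup_left
  have hY : Nat.card ↥(Uo w ⊓ Cen1 (z * u)) ∣ 3 := by
    have h1 : Nat.card ↥(Uo w ⊓ Cen1 (z * u)) ∣ 3 * 2 ^ 4 :=
      (card_dvd_of_le inf_le_right).trans (by rw [c48 _ f.hta]; norm_num)
    exact ((odd_iff_cop.1 (odd_of_le inf_le_left oB)).pow_right 4).dvd_of_dvd_mul_right h1
  have wY : w ∈ Nor (Uo w ⊓ Cen1 (z * u)) := mcnor (GW.cen.2 fun y hy => (c1.1 (Uo_le w hy.1)).symm)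
  have c9 : Nat.card (Uo w) ≤ 9 :=
    (card_le_of_le hB).trans ((H9.card_sup_zpowers_le 3 wY (by rw [h.w3]; exact one_mem _)).trans
      (by have := Nat.le_of_dvd three_pos hY; omega))
  obtain ⟨P, hP, wP⟩ := exists_isSylowOf_ge (q := 3) (K := ⊤) (isPGroup_zpowers_of_orderOf h.hw) le_top
  replace wP := wP (mem_zpowers w)
  have oP : ∀ g ∈ P, Odd (orderOf g) := fun g hg => by
    obtain ⟨k, hk⟩ := exists_pow_pow_of_mem hP.isPGroup hg
    exact (Odd.pow (by decide)).of_dvd_nat (orderOf_dvd_of_pow_eq_one hk)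
  have cP : 27 ∣ Nat.card P := by
    have e1 := H5.card_inf_mul_relIndex P ⊤
    rw [inf_top_eq, card_top] at e1
    exact ((Nat.prime_three.coprime_iff_not_dvd.2 hP.not_dvd).pow_left 3).dvd_of_dvd_mul_right
      (e1 ▸ h27)
  have nc : ∀ v, P ≤ Cen1 v → ¬ IsConj w v := fun v hv e => by
    obtain ⟨c, rfl⟩ := isConj_iff.1 e
    have h1 : P ≤ conjS c (Uo w) := fun g hg => by
      rw [mem_conjS]
      exact mB _ (by rw [← mem_conjS, conj_c1]; exact hv hg)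
        (by rw [← inv_inv c, inv_inv c⁻¹, oconj]; exact oP g hg)
    have h2 := card_le_of_le h1
    rw [card_conjS] at h2
    have := Nat.le_of_dvd Nat.card_pos cP
    omega
  have iw : IsConj w w⁻¹ := isConj_iff.2 ⟨u, uw⟩
  have dc : ∀ v ∈ Uo w, ∃ y ∈ Uo w ⊓ Cen1 (z * u), v = y ∨ v = y * w ∨ v = y * w⁻¹ := fun v hv => by
    obtain ⟨y, hy, a, ha, rfl⟩ := (H7.mem_sup_of_le_normalizer_left (zpowers_le.2 wY)).1 (hB hv)
    refine ⟨y, hy, ?_⟩
    rcases (mem_zpowers_three h.hw).1 ha with rfl | rfl | rfl <;> simp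
  have cY : ∀ y ∈ Uo w ⊓ Cen1 (z * u), y ≠ 1 → IsConj w y := fun y hy y1 =>
    cj _ y f.hta hy.2 (odd_ord oB hy.1) y1
  obtain ⟨y, hy, y1, hv, hc⟩ : ∃ y ∈ Uo w ⊓ Cen1 (z * u), y ≠ 1 ∧ y * w ∈ P ∧ P ≤ Cen1 (y * w) := by
    obtain ⟨v, hv, ov, hc⟩ := H9.exists_central hP.isPGroup (fun e => w1 (by simpa [e] using wP))
    have v1 : v ≠ 1 := fun e => by simp [e] at ov
    have hc' : P ≤ Cen1 v := fun g hg => c1.2 (hc g hg).symm
    obtain ⟨y, hy, rfl | rfl | rfl⟩ := dc v (mB v (c1.2 (hc w wP)) (oP v hv))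
    · exact absurd (cY _ hy v1) (nc _ hc')
    · exact ⟨y, hy, fun e => nc _ hc' (by rw [e, one_mul]), hv, hc'⟩
    · have e : y⁻¹ * w = (y * w⁻¹)⁻¹ := by
        rw [mul_inv_rev, inv_inv, c1.1 (inv_mem (Uo_le w hy.1))]
      refine ⟨y⁻¹, inv_mem hy, fun e => nc _ hc' (by simpa [inv_eq_one.1 e] using iw), e ▸ inv_mem hv,
        fun g hg => e ▸ c1s.1 (inv_mem (c1s.1 (hc' hg)))⟩
  have cw := cY y hy y1
  have oy : orderOf y = 3 := by
    obtain ⟨c, rfl⟩ := isConj_iff.1 cw; rw [oconj, h.hw]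
  have eY : zpowers y = Uo w ⊓ Cen1 (z * u) := eq_of_le_of_card_ge (zpowers_le.2 hy) (by
    rw [Nat.card_zpowers, oy]; exact Nat.le_of_dvd three_pos hY)
  have zy : z * y * z⁻¹ = y⁻¹ := by
    rcases (mem_zpowers_three oy).1 (eY.ge ⟨cmem zB hy.1, cmem (mc1 f.mul.tH) hy.2⟩) with e | e | e
    · exact absurd (by simpa using e) y1
    · exact absurd (hn ⟨hy.1, f.cen_a (c1s.1 (c1.2 (mul_inv_eq_iff_eq_mul.1 e))) hy.2⟩) y1
    · exact e
  have zw : z * w * z⁻¹ = w := mul_inv_eq_iff_eq_mul.2 (c1.1 h.c).symm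
  have uw' : z * u * w * (z * u)⁻¹ = w⁻¹ := by
    rw [show z * u * w * (z * u)⁻¹ = z * (u * w * u⁻¹) * z⁻¹ by group, uw, ← conj_inv, zw]
  have uy : z * u * y * (z * u)⁻¹ = y := mul_inv_eq_iff_eq_mul.2 (c1.1 hy.2).symm
  have n1 := nc _ hc
  have n2 : ¬ IsConj w (y⁻¹ * w) := fun e => n1 (e.trans (isConj_iff.2 ⟨z, by
    rw [← conj_mul, ← conj_inv, zy, zw, inv_inv]⟩))
  have n3 : ¬ IsConj w (y * w⁻¹) := fun e => n1 (e.trans (isConj_iff.2 ⟨z * u, by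
    rw [← conj_mul, ← conj_inv, uy, uw', inv_inv]⟩))
  have n4 : ¬ IsConj w (y⁻¹ * w⁻¹) := fun e => n2 (e.trans (isConj_iff.2 ⟨z * u, by
    rw [← conj_mul, ← conj_inv, ← conj_inv, uy, uw', inv_inv]⟩))
  have BP : Uo w ≤ P := hB.trans (sup_le (eY.ge.trans (zpowers_le.2
    ((mul_mem_cancel_right wP).1 hv))) (zpowers_le.2 wP))
  obtain ⟨g, hg, gB⟩ := SetLike.exists_of_lt (lt_inf_normalizer_of_isPGroup hP.isPGroup
    (lt_of_le_of_ne BP fun e => by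
      have := Nat.le_of_dvd Nat.card_pos cP
      rw [← e] at this; omega))
  have g1 : g * w * g⁻¹ ≠ w := fun e => gB (mB g (c1.2 (mul_inv_eq_iff_eq_mul.1 e)) (oP g hg.1))
  have g2 : g * (g * w * g⁻¹) * g⁻¹ ≠ w := fun e => gB (mB g (GW.mem_of_sq_mem (oP g hg.1)
    (c1.2 (mul_inv_eq_iff_eq_mul.1 (Eq.trans (by group) e)))) (oP g hg.1))
  have g3 : g * y * g⁻¹ = y * w * (g * w * g⁻¹)⁻¹ := by
    rw [eq_mul_inv_iff_mul_eq, conj_mul, c1.1 (hc hg.1), mul_inv_cancel_right]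
  have g4 : IsConj w (g * w * g⁻¹) := isConj_iff.2 ⟨g, rfl⟩
  have g5 : IsConj w (g * y * g⁻¹) := cw.trans (isConj_iff.2 ⟨g, rfl⟩)
  have yw : y * w = w * y := c1.1 (Uo_le w hy.1)
  obtain ⟨a, ha, e⟩ := dc _ (cmem hg.2 (mB w (c1.2 rfl) ow))
  rcases (mem_zpowers_three oy).1 (eY.ge ha) with rfl | rfl | rfl <;> rcases e with e | e | e
  · exact w1 (by simpa using e)
  · exact g1 (by rw [e, one_mul])
  · exact g2 (by rw [e, one_mul, ← conj_inv, e, one_mul, inv_inv])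
  · exact g2 (by rw [e, g3, e, yw, mul_inv_cancel_right])
  · exact n1 (e ▸ g4)
  · exact n3 (e ▸ g4)
  · refine n2 ?_
    rwa [g3, e, inv_inv, mul_assoc, ← yw, ← mul_assoc,
      eq_inv_of_mul_eq_one_left (a := y * y) (b := y) (by rw [← pow_orderOf_eq_one y, oy, pow_three'])] at g5
  · exact n2 (e ▸ g4)
  · exact n4 (e ▸ g4)

theorem x_cen : ∀ p, wd p * glT = glT * wd p →
    wd p = 1 ∨ wd p = glI ^ 2 ∨ wd p = glT ∨ wd p = glI ^ 2 * glT := by decide +kernel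

theorem x_inv : ∀ p, wd p * wd p = 1 → wd p = 1 ∨ wd p = glI ^ 2 ∨
    ∃ q, wd q * glT = wd p * wd q := by decide +kernel

theorem x_three : ∀ p, wd p ^ 3 = 1 → wd p * glT * wd p = glT → wd p = 1 ∨ wd p = glU ∨
    wd p = glU⁻¹ ∨ wd p = glI * glU * glI⁻¹ ∨ wd p = (glI * glU * glI⁻¹)⁻¹ := by decide +kernel

/-- the relations of the amalgam -/
structure RL {Γ : Type*} [Group Γ] (i j w t x : Γ) : Prop where
  r1 : i ^ 4 = 1
  r2 : j * i * j⁻¹ = i⁻¹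
  r3 : j ^ 2 = i ^ 2
  r4 : w * i * w⁻¹ = j
  r5 : w * j * w⁻¹ = i * j
  r6 : w ^ 3 = 1
  r7 : t * i * t⁻¹ = i⁻¹
  r8 : t * w * t⁻¹ = w⁻¹
  r9 : t ^ 2 = 1
  x1 : x ^ 3 = 1
  x2 : x * i ^ 2 * x⁻¹ = t
  x3 : x * t * x⁻¹ = i ^ 2 * t
  x4 : (i * t * x) ^ 2 = 1

/-- the letters -/
def gn {Γ : Type*} [Group Γ] (i j w t x : Γ) : ℕ → Γ
  | 1 => i
  | 2 => i⁻¹
  | 3 => j
  | 4 => j⁻¹
  | 5 => w
  | 6 => w⁻¹
  | 7 => t
  | 8 => x
  | 9 => x⁻¹
  | _ => 1

namespace RL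

open H1.TC

variable {Γ : Type*} [Group Γ] {i j w t x : Γ} (r : RL i j w t x)
include r

theorem ti : t⁻¹ = t := inv_eq_of_mul_eq_one_right (by rw [← sq, r.r9])

theorem inv : ∀ y < 32, gn i j w t x (ivl 291616672842816 y) = (gn i j w t x y)⁻¹ := by
  intro y hy
  by_cases a : y < 10
  · interval_cases y
    exacts [inv_one.symm, rfl, (inv_inv _).symm, rfl, (inv_inv _).symm, rfl, (inv_inv _).symm,
      r.ti.symm, rfl, (inv_inv _).symm]
  · rw [(show ∀ y < 32, ¬ y < 10 → ivl 291616672842816 y = 0 by decide) _ hy a]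
    obtain ⟨k, rfl⟩ : ∃ k, y = k + 10 := ⟨y - 10, by omega⟩
    exact inv_one.symm

theorem base : ∀ l ∈ LA.rels.take 12, evL (gn i j w t x) l 1 = 1 := by
  have ti := r.ti
  obtain ⟨r1, r2, r3, r4, r5, r6, r7, r8, r9, x1, x2, x3, x4⟩ := r
  rw [ti] at r7 r8
  simp only [LA.rels, List.take, List.forall_mem_cons, List.not_mem_nil, IsEmpty.forall_iff,
    implies_true, and_true, evL, List.foldl, gn, mul_one, ← mul_assoc]
  refine ⟨by rw [← r1, pow_succ, pow_three'], by rw [r2]; group, by rw [← sq, r3]; group,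
    by rw [r4]; group, by rw [r5]; group, by rw [← r6, pow_three'], by rw [r7]; group,
    by rw [r8]; group, by rw [← x1, pow_three'], by rw [mul_assoc x, ← sq, x2, ← sq, r9],
    by rw [x3, mul_assoc _ t t, ← sq t, r9]; group, by rw [← x4, sq]; group⟩

omit r in
theorem sub {S : Subgroup Γ} (h1 : i ∈ S) (h2 : j ∈ S) (h3 : w ∈ S) (h4 : t ∈ S) :
    ∀ y < 32, Nat.land (Nat.shiftRight 255 y) 1 = 1 →
      gn i j w t x y • ((1 : Γ) : Γ ⧸ S) = ((1 : Γ) : Γ ⧸ S) := fun y hy e => by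
  rw [MulAction.Quotient.smul_coe, smul_eq_mul, mul_one, QuotientGroup.eq, mul_one, inv_mem_iff]
  have := (show ∀ y < 32, Nat.land (Nat.shiftRight 255 y) 1 = 1 → y < 8 by decide) y hy e
  interval_cases y
  exacts [one_mem _, h1, inv_mem h1, h2, inv_mem h2, h3, inv_mem h3, h4]

theorem collapse (e : x * w * x⁻¹ ∈ Cen1 w) {S : Subgroup Γ} (h1 : i ∈ S) (h2 : j ∈ S) (h3 : w ∈ S)
    (h4 : t ∈ S) : x ∈ S := by
  have := LA.fix (LA.hyp rfl r.inv (fun l hl => ?_) (sub h1 h2 h3 h4))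
  · rw [MulAction.Quotient.smul_coe, smul_eq_mul, mul_one, QuotientGroup.eq, mul_one] at this
    simpa [gn] using this
  rw [← List.take_append_drop 12 LA.rels, List.mem_append] at hl
  rcases hl with hl | hl
  · exact r.base l hl
  obtain rfl : l = [9, 6, 8, 6, 9, 5, 8, 5] := by simpa [LA.rels] using hl
  simp only [evL, List.foldl, gn, mul_one]
  rw [show w * (x * (w * (x⁻¹ * (w⁻¹ * (x * (w⁻¹ * x⁻¹)))))) =
    w * (x * w * x⁻¹) * (x * w * x⁻¹ * w)⁻¹ by group, c1.1 e, mul_inv_cancel]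

theorem card [Finite Γ] (e1 : x * (i * w * i⁻¹) * x⁻¹ ∈ Cen1 w) (e2 : x⁻¹ * (i * w * i⁻¹) * x ∈ Cen1 w) :
    Nat.card (closure (gn i j w t x '' {y | y ≤ 9})) ≤ 5616 := by
  have := LB.card (LB.hyp rfl r.inv (fun l hl => ?_)
    (sub (S := zpowers i ⊔ zpowers j ⊔ zpowers w ⊔ zpowers t)
      (mem_sup_left (mem_sup_left (mem_sup_left (mem_zpowers _))))
      (mem_sup_left (mem_sup_left (mem_sup_right (mem_zpowers _))))
      (mem_sup_left (mem_sup_right (mem_zpowers _))) (mem_sup_right (mem_zpowers _))))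
  · have := H9.card_le_48 r.r1 r.r2 r.r3 r.r4 r.r5 r.r6 r.r7 r.r8 r.r9
    omega
  rw [show LB.rels = LA.rels.take 12 ++ [[9, 2, 6, 1, 8, 6, 9, 2, 5, 1, 8, 5],
    [8, 2, 6, 1, 9, 6, 8, 2, 5, 1, 9, 5]] from rfl, List.mem_append] at hl
  rcases hl with hl | hl
  · exact r.base l hl
  simp only [List.mem_cons, List.not_mem_nil, or_false] at hl
  rcases hl with rfl | rfl <;> simp only [evL, List.foldl, gn, mul_one]
  · rw [← mul_inv_cancel (x * (i * w * i⁻¹) * x⁻¹ * w)]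
    conv_rhs => rw [c1.1 e1]; arg 2; rw [← c1.1 e1]
    group
  · rw [← mul_inv_cancel (x⁻¹ * (i * w * i⁻¹) * x * w)]
    conv_rhs => rw [c1.1 e2]; arg 2; rw [← c1.1 e2]
    group

end RL

/-- generators of `SL₃(3)` -/
def mI : SL33 := ⟨!![0, 2, 0; 1, 0, 0; 0, 0, 1], by decide⟩
/-- generators of `SL₃(3)` -/
def mJ : SL33 := ⟨!![1, 1, 0; 1, 2, 0; 0, 0, 1], by decide⟩
/-- generators of `SL₃(3)` -/
def mW : SL33 := ⟨!![1, 1, 0; 0, 1, 0; 0, 0, 1], by decide⟩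
/-- generators of `SL₃(3)` -/
def mT : SL33 := ⟨!![1, 0, 0; 0, 2, 0; 0, 0, 2], by decide⟩
/-- generators of `SL₃(3)` -/
def mX : SL33 := ⟨!![0, 0, 2; 2, 0, 0; 0, 1, 0], by decide⟩

theorem m_rel : RL mI mJ mW mT mX := by
  constructor <;> decide +kernel

theorem m_cen : mX * (mI * mW * mI⁻¹) * mX⁻¹ * mW = mW * (mX * (mI * mW * mI⁻¹) * mX⁻¹) ∧
    mX⁻¹ * (mI * mW * mI⁻¹) * mX * mW = mW * (mX⁻¹ * (mI * mW * mI⁻¹) * mX) := by
  constructor <;> decide +kernel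

theorem m_tr : ∀ (a b : Fin 3) (h : a ≠ b) (c : ZMod 3), ∃ (k l : Fin 3) (m : Fin 2),
    Matrix.SpecialLinearGroup.transvection h c * (mX ^ k.1 * mI ^ m.1) =
      mX ^ k.1 * mI ^ m.1 * mW ^ l.1 := by
  decide +kernel

theorem m_gen {S : Subgroup SL33} (h1 : mI ∈ S) (h2 : mW ∈ S) (h3 : mX ∈ S) : S = ⊤ :=
  eq_top_iff.2 fun g _ => sl_induction (· ∈ S) (fun a b h c => by
    obtain ⟨k, l, m, e⟩ := m_tr a b h c
    have := mul_mem (pow_mem h3 k.1) (pow_mem h1 m.1)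
    rw [eq_mul_inv_of_mul_eq e]
    exact mul_mem (mul_mem this (pow_mem h2 _)) (inv_mem this)) (fun _ _ => mul_mem) g

/-- `SL₃(3) = PSL₃(3)` -/
noncomputable def eSL : SL33 ≃* Matrix.ProjectiveSpecialLinearGroup (Fin 3) (ZMod 3) :=
  (QuotientGroup.quotientBot).symm.trans (QuotientGroup.quotientMulEquivOfEq center_SL33.symm)

theorem iso_of_RL {i j w t x : G} (r : RL i j w t x) (e1 : x * (i * w * i⁻¹) * x⁻¹ ∈ Cen1 w)
    (e2 : x⁻¹ * (i * w * i⁻¹) * x ∈ Cen1 w) (i1 : i ≠ 1) (hc : Nat.card G = 5616) :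
    Nonempty (G ≃* Matrix.ProjectiveSpecialLinearGroup (Fin 3) (ZMod 3)) := by
  have m := m_rel
  have r' : RL (i, mI) (j, mJ) (w, mW) (t, mT) (x, mX) :=
    ⟨Prod.ext r.r1 m.r1, Prod.ext r.r2 m.r2, Prod.ext r.r3 m.r3, Prod.ext r.r4 m.r4,
      Prod.ext r.r5 m.r5, Prod.ext r.r6 m.r6, Prod.ext r.r7 m.r7, Prod.ext r.r8 m.r8,
      Prod.ext r.r9 m.r9, Prod.ext r.x1 m.x1, Prod.ext r.x2 m.x2, Prod.ext r.x3 m.x3,
      Prod.ext r.x4 m.x4⟩
  have b := r'.card (c1.2 (Prod.ext (c1.1 e1) m_cen.1)) (c1.2 (Prod.ext (c1.1 e2) m_cen.2))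
  have a1 : (i, mI) ∈ closure (gn (i, mI) (j, mJ) (w, mW) (t, mT) (x, mX) '' {y | y ≤ 9}) :=
    subset_closure ⟨1, by decide, rfl⟩
  have a2 : (w, mW) ∈ closure (gn (i, mI) (j, mJ) (w, mW) (t, mT) (x, mX) '' {y | y ≤ 9}) :=
    subset_closure ⟨5, by decide, rfl⟩
  have a3 : (x, mX) ∈ closure (gn (i, mI) (j, mJ) (w, mW) (t, mT) (x, mX) '' {y | y ≤ 9}) :=
    subset_closure ⟨8, by decide, rfl⟩
  generalize closure (gn (i, mI) (j, mJ) (w, mW) (t, mT) (x, mX) '' {y | y ≤ 9}) = Γ at b a1 a2 a3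
  let q := (MonoidHom.snd G SL33).comp Γ.subtype
  have qr : q.range = ⊤ := m_gen ⟨⟨_, a1⟩, rfl⟩ ⟨⟨_, a2⟩, rfl⟩ ⟨⟨_, a3⟩, rfl⟩
  have qb : Function.Bijective q :=
    (MonoidHom.range_eq_top.mp qr).bijective_of_nat_card_le (card_SL33 ▸ b)
  let e := MulEquiv.ofBijective q qb
  let φ := ((MonoidHom.fst G SL33).comp Γ.subtype).comp e.symm.toMonoidHom
  have hφ : φ mI = i := by
    have : e.symm mI = ⟨_, a1⟩ := e.symm_apply_eq.2 rfl
    change (e.symm mI).1.1 = _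
    rw [this]
  have : IsSimpleGroup (Matrix.ProjectiveSpecialLinearGroup (Fin 3) (ZMod 3)) :=
    psl_simple (Or.inl (by simp))
  have : IsSimpleGroup SL33 := eSL.isSimpleGroup
  have inj : Function.Injective φ := by
    rw [← MonoidHom.ker_eq_bot_iff]
    refine (IsSimpleGroup.eq_bot_or_eq_top_of_normal _ inferInstance).resolve_right fun h => i1 ?_
    rw [← hφ, ← MonoidHom.mem_ker, h]; trivial
  exact ⟨(MulEquiv.ofBijective φ (inj.bijective_of_nat_card_le (by rw [hc, card_SL33]))).symm.trans eSL⟩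

theorem GS.l3 [Fintype G] {z w0 : G} {ψ : GL23 →* G} (h : GS z ψ ⊥) (hy : Hy z w0)
    (hc : Nat.card G = 5616) :
    Nonempty (G ≃* Matrix.ProjectiveSpecialLinearGroup (Fin 3) (ZMod 3)) := by
  obtain ⟨g1, g2, g3, g4, g5, g6, g7, g8, g9, g10⟩ := gl_rel
  have hz := h.oz
  have dec : ∀ g ∈ Cen1 z, ∃ p, ψ (wd p) = g := fun g hg => by
    obtain ⟨x, o, ho, e⟩ := h.dec g hg
    obtain ⟨p, rfl⟩ := wd_surj x
    exact ⟨p, by rw [e, mem_bot.1 ho, mul_one]⟩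
  have ow : orderOf (ψ glU) = 3 := by
    rw [orderOf_injective ψ h.inj]
    exact orderOf_eq_prime g6 (by decide +kernel)
  have ot : orderOf (ψ glT) = 2 := by
    rw [orderOf_injective ψ h.inj]
    exact orderOf_eq_prime g9 (by decide +kernel)
  have f : F4 z (ψ glT) := ⟨hz, ot, (c1.1 (h.mem _)).symm, fun e => by
    rw [← h.hz] at e; exact absurd (h.inj e) (by decide +kernel)⟩
  have hy := hy.other (h.mem glU) ow
  have tw : ψ glT * ψ glU * (ψ glT)⁻¹ = (ψ glU)⁻¹ := by rw [← map_inv, ← map_inv, ← g8]; simp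
  have ti : ψ glT * ψ glI * (ψ glT)⁻¹ = (ψ glI)⁻¹ := by rw [← map_inv, ← map_inv, ← g7]; simp
  have i2 : ψ glI ^ 2 = z := by rw [← map_pow, h.hz]
  have p3 : ∀ y ∈ Cen1 z, Odd (orderOf y) → ∃ p, ψ (wd p) = y ∧ wd p ^ 3 = 1 := fun y hy o => by
    obtain ⟨p, rfl⟩ := dec y hy
    rw [orderOf_injective ψ h.inj] at o
    exact ⟨p, rfl, (reg_iff _).1 (odd_iff_cop.1 o)⟩
  have key := fun u => hy.exists_fix (u := u) (fun u hu => by
    obtain ⟨c, rfl⟩ := isConj_iff.1 (h.one u hu)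
    rw [← conj_c1, card_conjS, h.cardH, card_bot]) (fun u y hu hy o y1 => by
    obtain ⟨c, rfl⟩ := isConj_iff.1 (h.one u hu)
    rw [← conj_c1, mem_conjS] at hy
    obtain ⟨p, e, e3⟩ := p3 _ hy (by rwa [← inv_inv c, inv_inv c⁻¹, oconj])
    rcases wd3 p e3 with e4 | ⟨q, e4⟩
    · rw [e4, map_one] at e
      exact absurd (by simpa [mul_assoc] using congrArg (fun a => c * a * c⁻¹) e.symm) y1
    · refine isConj_iff.2 ⟨c * ψ (wd q), ?_⟩
      rw [mul_assoc c, ← map_mul, e4, map_mul, e]; group) (by rw [hc]; norm_num)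
  have cV : ∀ g ∈ Cen1 z, g ∈ Cen1 (ψ glT) → g = 1 ∨ g = z ∨ g = ψ glT ∨ g = z * ψ glT :=
    fun g h1 h2 => by
      obtain ⟨p, rfl⟩ := dec g h1
      rcases x_cen p (h.inj (by rw [map_mul, map_mul, c1.1 h2])) with e | e | e | e <;>
        simp [e, ← h.hz]
  obtain ⟨g, gz, gt, gg⟩ : ∃ g, g * z * g⁻¹ = ψ glT ∧ g * ψ glT * g⁻¹ = z ∧ g * g = 1 := by
    obtain ⟨c, hc⟩ := isConj_iff.1 (h.one _ ot)
    obtain ⟨p, hp⟩ := dec (c⁻¹ * z * c) (by rw [← mem_conjS, conj_c1, hc]; exact f.tH)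
    have e0 : orderOf (c⁻¹ * z * c) = 2 := by simpa using iconj hz c⁻¹
    obtain ⟨g, gz, gt⟩ : ∃ g, g * z * g⁻¹ = ψ glT ∧ g * ψ glT * g⁻¹ = z := by
      rcases x_inv p (h.inj (by rw [map_mul, hp, ii e0, map_one])) with e | e | ⟨q, e⟩
      · exact absurd (by rw [← hp, e, map_one]) (ine e0)
      · rw [e, h.hz] at hp
        exact absurd (by rw [← hc]; conv_lhs => rw [hp]
                         group) f.ne
      · refine ⟨c * ψ (wd q), ?_, ?_⟩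
        · rw [mul_assoc c, c1.1 (h.mem _), ← hc]; group
        · rw [mul_assoc c, ← map_mul, e, map_mul, hp]; group
    have a0 : ∀ y, g * g * y * (g * g)⁻¹ = g * (g * y * g⁻¹) * g⁻¹ := fun y => by group
    have a1 : g * (g * g) * g⁻¹ = g * g := by group
    rcases cV (g * g) (c1.2 (mul_inv_eq_iff_eq_mul.1 (by rw [a0, gz, gt])))
      (c1.2 (mul_inv_eq_iff_eq_mul.1 (by rw [a0, gt, gz]))) with e | e | e | e
    · exact ⟨g, gz, gt, e⟩
    · rw [e, gz] at a1; exact absurd a1 f.ne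
    · rw [e, gt] at a1; exact absurd a1.symm f.ne
    · refine ⟨g * z, by rw [← gz]; group, by rw [mul_assoc g, f.c, ← gt]; group, ?_⟩
      rw [show g * z * (g * z) = g * z * g⁻¹ * (g * g) * z by group, gz, e, ← f.symm.sq]
      group
  have ss : ψ glI * ψ glT * (ψ glI * ψ glT) = 1 := by
    rw [← map_mul, ← map_mul, show glI * glT * (glI * glT) = 1 by decide +kernel, map_one]
  have sz : ψ glI * ψ glT * z * (ψ glI * ψ glT)⁻¹ = z := by
    rw [← map_mul, c1.1 (h.mem _), mul_inv_cancel_right]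
  have st : ψ glI * ψ glT * ψ glT * (ψ glI * ψ glT)⁻¹ = z * ψ glT := by
    rw [← h.hz, ← map_mul, ← map_mul, ← map_inv, ← map_mul, ← map_mul]
    exact congrArg ψ (by decide +kernel)
  obtain ⟨x, xz, xt, xs⟩ : ∃ x, x * z * x⁻¹ = ψ glT ∧ x * ψ glT * x⁻¹ = z * ψ glT ∧
      (ψ glI * ψ glT * x) ^ 2 = 1 := by
    generalize ψ glI * ψ glT = s at ss sz st
    have a0 : ∀ y, g * s * y * (g * s)⁻¹ = g * (s * y * s⁻¹) * g⁻¹ := fun y => by group
    exact ⟨g * s, by rw [a0, sz, gz], by rw [a0, st, ← conj_mul, gz, gt, f.c], by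
      rw [sq, show s * (g * s) * (s * (g * s)) = s * g * (s * s) * g * s by group, ss, mul_one,
        mul_assoc s, gg, mul_one, ss]⟩
  have xu : x * (z * ψ glT) * x⁻¹ = z := by rw [← conj_mul, xz, xt, f.ata]
  have x3 : x ^ 3 = 1 := by
    have a0 : ∀ y, x ^ 3 * y * (x ^ 3)⁻¹ = x * (x * (x * y * x⁻¹) * x⁻¹) * x⁻¹ := fun y => by
      rw [pow_three']; group
    have a1 : x * x ^ 3 * x⁻¹ = x ^ 3 := by group
    rcases cV (x ^ 3) (c1.2 (mul_inv_eq_iff_eq_mul.1 (by rw [a0, xz, xt, xu])))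
      (c1.2 (mul_inv_eq_iff_eq_mul.1 (by rw [a0, xt, xu, xz]))) with e | e | e | e
    · exact e
    · rw [e, xz] at a1; exact absurd a1 f.ne
    · rw [e, xt] at a1; exact absurd (by simpa using a1) (ine hz)
    · rw [e, xu] at a1; exact absurd (by simpa using a1) (ine ot)
  have r : RL (ψ glI) (ψ glJ) (ψ glU) (ψ glT) x :=
    ⟨by rw [← map_pow, g1, map_one], by rw [← map_inv, ← map_inv, ← g2]; simp,
      by rw [← map_pow, g3, map_pow], by rw [← g4]; simp, by rw [← map_mul _ glI, ← g5]; simp,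
      by rw [← map_pow, g6, map_one], ti, tw, by rw [← map_pow, g9, map_one], x3, i2 ▸ xz, i2 ▸ xt, xs⟩
  have nc : x * ψ glU * x⁻¹ ∉ Cen1 (ψ glU) := fun e => f.ne (by
    rw [← xz, c1.1 (r.collapse e (h.mem _) (h.mem _) (h.mem _) (h.mem _)), mul_inv_cancel_right])
  have three : ∀ y ∈ Cen1 z, Odd (orderOf y) → y ≠ 1 → ψ glT * y * (ψ glT)⁻¹ = y⁻¹ →
      ∀ S : Subgroup G, y ∈ S → ψ glU ∈ S ∨ ψ glI * ψ glU * (ψ glI)⁻¹ ∈ S := fun y hy o y1 e S hS => by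
    obtain ⟨p, rfl, e3⟩ := p3 y hy o
    rcases x_three p e3 (h.inj (by
      rw [map_mul, map_mul, mul_assoc, mul_inv_eq_iff_eq_mul.1 e, mul_inv_cancel_left])) with
      a | a | a | a | a <;> rw [a] at hS y1
    · exact absurd (map_one ψ) y1
    · exact Or.inl hS
    · exact Or.inl (by simpa using hS)
    · exact Or.inr (by simpa using hS)
    · exact Or.inr (by rw [map_inv, inv_mem_iff] at hS; simpa using hS)
  refine iso_of_RL r ?_ ?_ (fun e => ine hz (by rw [← i2, e, one_pow])) hc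
  · obtain ⟨y, h1, h2, h3, h4, h5⟩ := key _ f tw
    have a1 : x⁻¹ * y * x ∈ Cen1 z := by rwa [← mem_conjS, conj_c1, xz]
    have := three _ a1 (by rwa [← inv_inv x, inv_inv x⁻¹, oconj]) (fun e => h4 (by
      simpa [mul_assoc] using congrArg (fun a => x * a * x⁻¹) e)) (by
        have a2 : ψ glT = z * (x⁻¹ * z * x) := by
          rw [← f.tta]; congr 1; conv_rhs => rw [← xu]
          group
        rw [a2, show z * (x⁻¹ * z * x) * (x⁻¹ * y * x) * (z * (x⁻¹ * z * x))⁻¹ =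
          z * (x⁻¹ * (z * y * z⁻¹) * x) * z⁻¹ by group, h5,
          show x⁻¹ * y⁻¹ * x = (x⁻¹ * y * x)⁻¹ by group, ← c1.1 (inv_mem a1), mul_inv_cancel_right])
      (conjS x⁻¹ (Cen1 (ψ glU))) (by rw [mem_conjS]; simpa [mul_assoc] using h1)
    simp only [mem_conjS, inv_inv] at this
    exact this.resolve_left nc
  · obtain ⟨y, h1, h2, h3, h4, h5⟩ := key _ f.mul (by
      rw [show z * ψ glT * ψ glU * (z * ψ glT)⁻¹ = z * (ψ glT * ψ glU * (ψ glT)⁻¹) * z⁻¹ by group, tw,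
        ← c1.1 (inv_mem hy.c), mul_inv_cancel_right])
    have := three (x * y * x⁻¹) (by rw [← xu, ← conj_c1]; exact conj_mem_conjS h2)
      (by rwa [oconj]) (fun e => h4 (by simpa using e)) (by
        rw [← xz, conj_inv, conj_mul, conj_mul, h5, conj_inv])
      (conjS x (Cen1 (ψ glU))) (conj_mem_conjS h1)
    simp only [mem_conjS] at this
    refine this.resolve_left fun e => nc ?_
    rw [c1s, ← conj_c1, mem_conjS]
    exact e

end Z6
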