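import Cfsg.Agent.Z6.Cs
import Cfsg.Agent.T2.Gwn

/-! The case of Sylow 2-subgroups of order four. -/

set_option autoImplicit false
set_option linter.unusedVariables false
set_option linter.unusedSectionVars false

namespace Z6

open Cfsg Subgroup FT H4 H5 GW P
open scoped MatrixGroups

universe u

variable {G : Type u} [Group G] [Finite G]

theorem hy_of (h1 : ∀ x y : G, orderOf x = 2 → orderOf y = 2 → IsConj x y) {t : G}
    (ht : orderOf t = 6) (hC : centralizer ({t} : Set G) = zpowers t) : Hy (t ^ 3) (t ^ 2) := by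
  have e1 : orderOf (t ^ 3) = 2 := by rw [orderOf_pow_of_dvd (by norm_num) (by rw [ht]; norm_num), ht]
  have e2 : orderOf (t ^ 2) = 3 := by rw [orderOf_pow_of_dvd (by norm_num) (by rw [ht]; norm_num), ht]
  have e3 : t ^ 3 * (t ^ 2)⁻¹ = t := by group
  refine ⟨e1, e2, c1.2 (by group), fun g hg => ?_, fun a ha => h1 _ _ e1 ha⟩
  have : g ∈ zpowers t := by
    rw [← hC, ← e3]
    exact c1s.1 (mul_mem (c1s.1 hg.1) (inv_mem (c1s.1 hg.2)))
  refine (zpowers_le.2 ?_ : zpowers t ≤ _) this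
  rw [← e3]
  exact mul_mem (mem_sup_right (by rw [e3]; exact mem_zpowers _))
    (inv_mem (mem_sup_left (by rw [e3]; exact mem_zpowers _)))

theorem Hy.l2 [IsSimpleGroup G] (hG : ¬ IsMulCommutative G) {z w : G} (h : Hy z w)
    {S : Subgroup G} (hS : IsSylowOf 2 S (Cen1 z)) (h4 : Nat.card S = 4) :
    ∃ (F : Type) (_ : Field F) (_ : Fintype F), (Fintype.card F = 11 ∨ Fintype.card F = 13) ∧
      Nonempty (G ≃* Matrix.ProjectiveSpecialLinearGroup (Fin 2) F) := by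
  have hS' := h.syl_cen hS
  obtain ⟨a, ha, oa, az⟩ := exists_other hG hS' h.hz hS.le
  have zS : z ∈ S := Qz_le_syl hS (z_Qz h.hz (mem_zpowers z))
  have f : F4 z a := ⟨h.hz, oa, (c1.1 (hS.le ha)).symm, az⟩
  have e : V4 z a = S := eq_of_le_of_card_ge (V_le zS ha) (by rw [h4, f.card_V])
  have hZ : S ≤ ZS S := fun y hy => by
    refine ⟨hy, ?_, fun g hg => ?_⟩
    · rw [← e] at hy
      rcases f.mem_V.1 hy with rfl | rfl | rfl | rfl
      exacts [mul_one _, ii f.ht, ii f.ha, f.sq]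
    · rw [← e] at hy hg
      exact c1.2 (congrArg Subtype.val (f.comm_V.1.1 ⟨g, hg⟩ ⟨y, hy⟩))
  obtain ⟨F, _, _, h1, h2, ⟨φ⟩⟩ := W.l2_four hG (as_of hS' hZ) h4
  refine ⟨F, inferInstance, inferInstance, ?_, ⟨φ⟩⟩
  have h8 : ¬ 8 ∣ Nat.card G := by
    have e1 := H5.card_inf_mul_relIndex S ⊤
    rw [inf_top_eq, h4, card_top] at e1
    have := hS'.not_dvd
    omega
  have hD := T2.D2_of_F4 f h8
  have hC : Cen (⊤ : Subgroup G) = ⊥ :=
    (IsSimpleGroup.eq_bot_or_eq_top_of_normal _ inferInstance).resolve_right fun e =>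
      hG ⟨⟨fun a b => GW.cen.1 (e.ge (mem_top a)) b trivial⟩⟩
  obtain ⟨π, c⟩ := Dg.exists_ctx (L := ⊤) hC (F := F) (by rw [Nat.odd_iff]; omega)
    (topEquiv.trans φ)
  obtain ⟨τ, σ, hn⟩ := Dg.exists_num c.two
  obtain ⟨T, hT⟩ := hS'.exists_sylow_top
  have e1 := c.card_in hn hD h.hz (fun b _ => mem_top b) T
  have cy := c.cyc hD h.hz
  have od := Dg.odd_Kt hD ⊤ h.hz
  have e2 : Kt ⊤ z = zpowers w := by
    have hw : w ∈ Kt ⊤ z :=
      subset_closure ⟨mem_top w, c1.1 h.c, by rw [h.hw]; decide⟩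
    refine le_antisymm (fun g hg => ?_) (zpowers_le.2 hw)
    have g1 : g ∈ Cen1 z := by
      rw [Dg.Kt_eq hD ⊤ h.hz] at hg
      exact pPrimeCoreIn_le _ _ hg.1
    have g2 : g ∈ Cen1 w := by
      have := cy.isMulCommutative
      exact c1.2 (congrArg Subtype.val (this.1.1 ⟨g, hg⟩ ⟨w, hw⟩))
    obtain ⟨v, hv, b, hb, rfl⟩ := h.dec g1 g2
    rcases (mzi h.hz).1 hb with rfl | rfl
    · simpa using hv
    · exact absurd ((mul_mem_cancel_left (zpowers_le.2 hw hv)).1 hg) (not_mem_odd od h.hz)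
  rw [e2, Nat.card_zpowers, h.hw, hT, h4] at e1
  rcases hn.2 with ⟨-, e3, -⟩ | ⟨-, e3, -⟩ <;> omega

end Z6
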