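import Cfsg.Agent.Z6.Eg
import Cfsg.Agent.H7.PBasic
import Cfsg.Agent.H8.GL23Pat

/-! The subgroup `GL₂(3)` of `C(z)`. -/

set_option autoImplicit false
set_option linter.unusedVariables false
set_option linter.unusedSectionVars false

namespace Z6

open Cfsg Subgroup FT H4 H5 GW P
open scoped commutatorElement

universe u

variable {G : Type u} [Group G]

/-- relations of the quaternion group -/
structure QR (z i j : G) : Prop where
  zz : z * z = 1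
  z1 : z ≠ 1
  ii : i * i = z
  jj : j * j = z
  ji : j * i = z * (i * j)

namespace QR

variable {z i j : G} (h : QR z i j)
include h

theorem iz : i * z = z * i := by rw [← h.ii, mul_assoc]
theorem jz : j * z = z * j := by rw [← h.jj, mul_assoc]

theorem nf : (∀ x, z * (z * x) = x) ∧ (∀ x, i * (i * x) = z * x) ∧ (∀ x, j * (j * x) = z * x) ∧
    (∀ x, j * (i * x) = z * (i * (j * x))) ∧ (∀ x, i * (z * x) = z * (i * x)) ∧
    (∀ x, j * (z * x) = z * (j * x)) ∧ z * z = 1 ∧ i * i = z ∧ j * j = z ∧ j * i = z * (i * j) ∧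
    i * z = z * i ∧ j * z = z * j ∧ z⁻¹ = z ∧ i⁻¹ = z * i ∧ j⁻¹ = z * j :=
  ⟨fun x => by rw [← mul_assoc, h.zz, one_mul], fun x => by rw [← mul_assoc, h.ii],
    fun x => by rw [← mul_assoc, h.jj], fun x => by rw [← mul_assoc, h.ji]; group,
    fun x => by rw [← mul_assoc, h.iz, mul_assoc], fun x => by rw [← mul_assoc, h.jz, mul_assoc],
    h.zz, h.ii, h.jj, h.ji, h.iz, h.jz, inv_eq_of_mul_eq_one_right h.zz,
    inv_eq_of_mul_eq_one_left (by rw [mul_assoc, h.ii, h.zz]),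
    inv_eq_of_mul_eq_one_left (by rw [mul_assoc, h.jj, h.zz])⟩

theorem i_ne {x : G} (e : x * x = 1) : i ≠ x := fun e' => h.z1 (by rw [← h.ii, e', e])
theorem nc : j * i ≠ i * j := fun e => h.z1 (by simpa [h.ji] using e)

end QR

variable [Finite G]

theorem T3.mulw {z w s v : G} (h : T3 z w s) (hv : v ∈ zpowers w) : T3 z w (v * s) := by
  have c : v * w⁻¹ * v⁻¹ = w⁻¹ := by
    obtain ⟨k, rfl⟩ := hv
    group
  refine ⟨h.toHy, mul_mem (zpowers_le.2 h.c hv) h.sz, ?_, fun g hg => (h.dc g hg).imp_right fun e => ?_⟩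
  · rw [← c, ← h.sw]; group
  · rw [mul_inv_rev, ← mul_assoc]; exact mul_mem e (inv_mem (mem_sup_right hv))

theorem Hy.exists_QR {z w : G} (h : Hy z w) (hu : ∀ a ∈ Qz z, orderOf a = 2 → a = z)
    (nt : ¬ Qz z ≤ zpowers z) : ∃ i j, QR z i j ∧ i ∈ Qz z ∧ w * i * w⁻¹ = j ∧
      w * j * w⁻¹ = i * j ∧ ∀ q ∈ Qz z, q = 1 ∨ q = z ∨ q = i ∨ q = z * i ∨ q = j ∨ q = z * j ∨
        q = i * j ∨ q = z * (i * j) := by
  have f := h.fpQ
  have hz := h.hz
  have m1 : ∀ a ∈ Qz z, a * a = 1 → a ∈ zpowers z := fun a ha e => (mzi hz).2 (by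
    by_cases e1 : a = 1
    · exact Or.inl e1
    · exact Or.inr (hu a ha (o2 e e1)))
  have m2 : ∀ a ∈ Qz z, a ∉ zpowers z → a ^ 2 ∈ zpowers z → a * a = z := fun a ha h1 h2 =>
    ((mzi hz).1 h2).elim (fun e => absurd (m1 a ha (by rw [← sq, e])) h1) fun e => by rw [← sq, e]
  have key : ∀ i ∈ Qz z, i * i = z → QR z i (w * i * w⁻¹) := fun i hi e => by
    have e2 : w * i * w⁻¹ * (w * i * w⁻¹) = z := by
      rw [conj_mul, e, c1.1 h.c, mul_inv_cancel_right]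
    have iz : i * z = z * i := by rw [← e, mul_assoc]
    refine ⟨ii hz, ine hz, e, e2, ?_⟩
    have hj := cmem f.nK hi
    have e1 := Stb_cases hz (f.comm_w hi)
    have e0 : w * i * w⁻¹ * i⁻¹ ∈ zpowers z → i ∈ zpowers z := fun e => f.fixm hi ⟨f.nN, e⟩
    generalize w * i * w⁻¹ = j at e0 e1 e2 hj
    rcases e1 with e1 | e1
    · exfalso
      have e3 := mul_inv_eq_iff_eq_mul.1 e1
      have e4 := m1 _ (mul_mem hj hi) (by
        rw [mul_assoc j, ← mul_assoc i, e3, mul_assoc j i, e, ← mul_assoc, e2, ii hz])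
      have e5 : i ∈ zpowers z := e0 (mem_of_eq (mul_mem e4 (mem_zpowers z)) (by
        rw [mul_assoc _ i, eq_inv_of_mul_eq_one_left (a := i * z) (b := i)
          (by rw [iz, mul_assoc, e, ii hz])]))
      rcases (mzi hz).1 e5 with e6 | e6
      · exact ine hz (by rw [← e, e6, mul_one])
      · exact ine hz (by rw [← e, e6, ii hz])
    · rw [mul_inv_eq_iff_eq_mul.1 e1, mul_assoc z, ← mul_assoc z z, ii hz, one_mul]
  obtain ⟨x, hx, x1, x2, x3⟩ := H7.exists_central_mod (two_Qz z) le_rfl le_normalizer nt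
  have hS : ∀ g ∈ Qz z, g ∈ Stb (zpowers z) x := fun g hg =>
    Stb_symm ⟨f.kN hx, x2 g hg⟩ (f.kN hg)
  have xx := m2 x hx x1 x3
  have r := key x hx xx
  have w3 : w * (w * x * w⁻¹) * w⁻¹ = w⁻¹ * x * w := by
    rw [show w * (w * x * w⁻¹) * w⁻¹ = w * w * x * (w * w)⁻¹ by group, f.ww, inv_inv]
  have zQ : z ∈ Qz z := f.le (mem_zpowers z)
  have wz : ∀ y, w * (z * y) * w⁻¹ = z * (w * y * w⁻¹) := fun y => by
    rw [← mul_assoc, c1.1 h.c]; group
  obtain ⟨i, hi, r, h1, h2⟩ : ∃ i ∈ Qz z, QR z i (w * i * w⁻¹) ∧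
      w * (w * i * w⁻¹) * w⁻¹ = i * (w * i * w⁻¹) ∧ ∀ g ∈ Qz z, g ∈ Stb (zpowers z) i := by
    have t := f.tri hx
    rw [← w3] at t
    generalize hk : w * (w * x * w⁻¹) * w⁻¹ = k at t
    have e' : k = (w * x * w⁻¹)⁻¹ * (w * x * w⁻¹ * k * x) * x⁻¹ := by group
    rcases (mzi hz).1 t with e | e <;> rw [e] at e'
    · refine ⟨z * x, mul_mem zQ hx, key _ (mul_mem zQ hx) (by simp only [mul_assoc, r.nf, mul_one]), ?_,
        fun g hg => Stb_mul (Stb_of_mem (f.kN hg) (mem_zpowers z)) (hS g hg) (f.kN zQ)⟩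
      rw [wz, wz, hk, e']
      generalize w * x * w⁻¹ = j at r
      simp only [mul_assoc, r.nf, one_mul]
    · refine ⟨x, hx, r, ?_, hS⟩
      rw [hk, e']
      generalize w * x * w⁻¹ = j at r
      simp only [mul_assoc, r.nf]
  have h3 : ∀ g ∈ Qz z, g ∈ Stb (zpowers z) (w * i * w⁻¹) := fun g hg =>
    mem_of_eq (Stb_conj (h2 _ (cmem' f.nK hg)) f.nN) (by group)
  have hj := cmem f.nK hi
  generalize hk : w * i * w⁻¹ = j at h1 h3 hj r
  refine ⟨i, j, r, hi, hk, h1, ?_⟩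
  have hC : Qz z ⊓ Cen1 i ⊓ Cen1 j ≤ zpowers z := by
    by_contra hn
    obtain ⟨c, hc, c1', -, c3⟩ := H7.exists_central_mod
      ((two_Qz z).to_le (inf_le_left.trans inf_le_left)) le_rfl le_normalizer hn
    have cc := m2 c hc.1.1 c1' c3
    have e4 := m1 _ (mul_mem hc.1.1 hi) (by
      rw [mul_assoc c, ← mul_assoc i, ← c1.1 hc.1.2, mul_assoc c i, r.ii, ← mul_assoc, cc, r.zz])
    have e5 : zpowers z ≤ Cen1 j := zpowers_le.2 (c1.2 r.jz.symm)
    exact r.nc (c1.1 ((mul_mem_cancel_left (show c ∈ Cen1 j from hc.2)).1 (e5 e4))).symm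
  have fin : ∀ q ∈ Qz z, ∀ e ∈ Qz z, q * e * i * (q * e)⁻¹ = i → q * e * j * (q * e)⁻¹ = j →
      q = e⁻¹ ∨ q = z * e⁻¹ := fun q hq e he e1 e2 =>
    ((mzi hz).1 (hC ⟨⟨mul_mem hq he, c1.2 (mul_inv_eq_iff_eq_mul.1 e1)⟩,
      c1.2 (mul_inv_eq_iff_eq_mul.1 e2)⟩)).imp eq_inv_of_mul_eq_one_left eq_mul_inv_of_mul_eq
  intro q hq
  have qz : ∀ y, q * (z * y) * q⁻¹ = z * (q * y * q⁻¹) := fun y => by
    rw [← mul_assoc, c1.1 (Qz_le z hq)]; group
  have cj : ∀ e y, q * e * y * (q * e)⁻¹ = q * (e * y * e⁻¹) * q⁻¹ := fun e y => by group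
  have a1 : i * i * i⁻¹ = i := by group
  have a2 : j * j * j⁻¹ = j := by group
  have a3 : i * j * i⁻¹ = z * j := by simp only [mul_assoc, r.nf]
  have a4 : j * i * j⁻¹ = z * i := by simp only [mul_assoc, r.nf, mul_one]
  have a5 : i * j * i * (i * j)⁻¹ = z * i := by simp only [mul_assoc, mul_inv_rev, r.nf]
  have a6 : i * j * j * (i * j)⁻¹ = z * j := by simp only [mul_assoc, mul_inv_rev, r.nf]
  rcases Stb_cases hz (h2 q hq) with e1 | e1 <;> rcases Stb_cases hz (h3 q hq) with e2 | e2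
  · have := fin q hq 1 (one_mem _) (by rwa [mul_one]) (by rwa [mul_one])
    simp only [inv_one, mul_one] at this
    tauto
  · have := fin q hq i hi (by rw [cj, a1, e1]) (by rw [cj, a3, qz, e2, r.nf.1])
    simp only [r.nf] at this
    tauto
  · have := fin q hq j hj (by rw [cj, a4, qz, e1, r.nf.1]) (by rw [cj, a2, e2])
    simp only [r.nf] at this
    tauto
  · have := fin q hq _ (mul_mem hi hj) (by rw [cj, a5, qz, e1, r.nf.1])
      (by rw [cj, a6, qz, e2, r.nf.1])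
    simp only [mul_inv_rev, mul_assoc, r.nf] at this
    tauto

open H8 H9 in
theorem exists_emb {i j u t : G} (h1 : i ^ 4 = 1) (h2 : j * i * j⁻¹ = i⁻¹)
    (h3 : j ^ 2 = i ^ 2) (h4 : u * i * u⁻¹ = j) (h5 : u * j * u⁻¹ = i * j) (h6 : u ^ 3 = 1)
    (h7 : t * i * t⁻¹ = i⁻¹) (h8 : t * u * t⁻¹ = u⁻¹) (h9 : t ^ 2 = 1) (h10 : i ^ 2 ≠ 1) :
    ∃ ψ : GL23 →* G, Function.Injective ψ ∧ ψ glI = i ∧ ψ glJ = j ∧ ψ glU = u ∧ ψ glT = t := by
  obtain ⟨g1, g2, g3, g4, g5, g6, g7, g8, g9, g10⟩ := gl_rel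
  have hc := card_le_48 (G := GL23 × G) (i := (glI, i)) (j := (glJ, j))
    (u := (glU, u)) (t := (glT, t)) (Prod.ext g1 h1) (Prod.ext g2 h2) (Prod.ext g3 h3)
    (Prod.ext g4 h4) (Prod.ext g5 h5) (Prod.ext g6 h6) (Prod.ext g7 h7) (Prod.ext g8 h8)
    (Prod.ext g9 h9)
  have hi : (glI, i) ∈ zpowers (glI, i) ⊔ zpowers (glJ, j) ⊔ zpowers (glU, u) ⊔ zpowers (glT, t) :=
    mem_sup_left (mem_sup_left (mem_sup_left (mem_zpowers _)))
  have hj : (glJ, j) ∈ zpowers (glI, i) ⊔ zpowers (glJ, j) ⊔ zpowers (glU, u) ⊔ zpowers (glT, t) :=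
    mem_sup_left (mem_sup_left (mem_sup_right (mem_zpowers _)))
  have hu : (glU, u) ∈ zpowers (glI, i) ⊔ zpowers (glJ, j) ⊔ zpowers (glU, u) ⊔ zpowers (glT, t) :=
    mem_sup_left (mem_sup_right (mem_zpowers _))
  have ht : (glT, t) ∈ zpowers (glI, i) ⊔ zpowers (glJ, j) ⊔ zpowers (glU, u) ⊔ zpowers (glT, t) :=
    mem_sup_right (mem_zpowers _)
  have hs : Function.Surjective ((MonoidHom.fst GL23 _).comp
      (zpowers (glI, i) ⊔ zpowers (glJ, j) ⊔ zpowers (glU, u) ⊔ zpowers (glT, t)).subtype) := by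
    rw [← MonoidHom.range_eq_top, MonoidHom.range_comp, range_subtype, Subgroup.map_sup,
      Subgroup.map_sup, Subgroup.map_sup]
    simp only [MonoidHom.map_zpowers]
    exact gl23_gen
  generalize zpowers (glI, i) ⊔ zpowers (glJ, j) ⊔ zpowers (glU, u) ⊔ zpowers (glT, t) = Γ
    at hc hi hj hu ht hs
  let e := MulEquiv.ofBijective _ (hs.bijective_of_nat_card_le (card_GL23 ▸ hc))
  let φ : GL23 →* G := ((MonoidHom.snd _ _).comp Γ.subtype).comp e.symm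
  have hφ : ∀ a b, (a, b) ∈ Γ → φ a = b := fun a b hi => by
    have : e.symm a = ⟨_, hi⟩ := e.symm_apply_eq.2 rfl
    change (e.symm a).1.2 = _
    rw [this]
  refine ⟨φ, ?_, hφ _ _ hi, hφ _ _ hj, hφ _ _ hu, hφ _ _ ht⟩
  rw [← MonoidHom.ker_eq_bot_iff]
  by_contra h
  have := gl23_normal _ inferInstance h
  rw [MonoidHom.mem_ker, map_pow, hφ _ _ hi] at this
  exact h10 this

open H8 H9 in
/-- `C(z) = GL₂(3) O` -/
structure GS (z : G) (ψ : GL23 →* G) (O : Subgroup G) : Prop where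
  inj : Function.Injective ψ
  hz : ψ (glI ^ 2) = z
  dec : ∀ h ∈ Cen1 z, ∃ x, ∃ o ∈ O, h = ψ x * o
  le : O ≤ Cen1 z
  nor : Cen1 z ≤ Nor O
  odd : Odd (Nat.card O)
  nd : ¬ 3 ∣ Nat.card O
  fpf : ∀ o ∈ O, o ∈ Cen1 (ψ glU) → o = 1
  one : ∀ a, orderOf a = 2 → IsConj z a

open H8 H9 in
theorem T3.exists_GS [IsSimpleGroup G] (hG : ¬ IsMulCommutative G) {z w s : G} (h : T3 z w s)
    {S : Subgroup G} (hS : IsSylowOf 2 S (Cen1 z)) (h4 : Nat.card S ≠ 4) :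
    ∃ ψ, GS z ψ (Oz z) := by
  have hu := fun a => h.uniq hS h4 (a := a)
  obtain ⟨i, j, r, hi, wi, wj, hq⟩ := h.toHy.exists_QR hu (h.nt hS h4)
  have hz := h.hz
  have ww := h.fpQ.ww
  have cz : ∀ g ∈ Cen1 z, ∀ y, g * (z * y) * g⁻¹ = z * (g * y * g⁻¹) := fun g hg y => by
    rw [← mul_assoc, c1.1 hg]; group
  have w1 : w⁻¹ * j * w = i := by rw [← wi]; group
  have w2 : w⁻¹ * i * w = i * j := by
    rw [← wj, ← wi, show w * (w * i * w⁻¹) * w⁻¹ = w * w * i * (w * w)⁻¹ by group, ww, inv_inv]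
  have w3 : w * (i * j) * w⁻¹ = i := by rw [← w2]; group
  obtain ⟨t, h, ti⟩ : ∃ t, T3 z w t ∧ (t * i * t⁻¹ = i ∨ t * i * t⁻¹ = z * i) := by
    have n : s * i * s⁻¹ * (s * i * s⁻¹) ≠ 1 := by
      rw [conj_mul, r.ii, c1.1 h.sz, mul_inv_cancel_right]; exact r.z1
    have c : ∀ v, v * s * i * (v * s)⁻¹ = v * (s * i * s⁻¹) * v⁻¹ := fun v => by group
    have a1 := h.mulw (inv_mem (mem_zpowers w))
    have a2 := h.mulw (mem_zpowers w)
    rcases hq _ (cmem (nQz z h.sz) hi) with e | e | e | e | e | e | e | e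
    · exact absurd (by rw [e, mul_one]) n
    · exact absurd (by rw [e, r.zz]) n
    · exact ⟨s, h, Or.inl e⟩
    · exact ⟨s, h, Or.inr e⟩
    · exact ⟨_, a1, Or.inl (by rw [c, e, inv_inv, w1])⟩
    · exact ⟨_, a1, Or.inr (by rw [c, e, cz _ (inv_mem h.c), inv_inv, w1])⟩
    · exact ⟨_, a2, Or.inl (by rw [c, e, w3])⟩
    · exact ⟨_, a2, Or.inr (by rw [c, e, cz _ h.c, w3])⟩
  have tj : t * j * t⁻¹ = w⁻¹ * (t * i * t⁻¹) * w := by
    rw [← wi, ← conj_mul, ← conj_mul, ← conj_inv, h.sw, inv_inv]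
  have t2 : t * (t * j * t⁻¹) * t⁻¹ = j := by
    have : zpowers z ≤ Cen1 j := zpowers_le.2 (c1.2 r.jz.symm)
    rw [show t * (t * j * t⁻¹) * t⁻¹ = t * t * j * (t * t)⁻¹ by group, c1.1 (this h.s2),
      mul_inv_cancel_right]
  rcases ti with ti | ti
  · exfalso
    rw [ti, w2] at tj
    rw [tj, ← conj_mul, ti, tj, r.nf.2.1] at t2
    exact r.z1 (by simpa using t2)
  have cw := cz _ (inv_mem h.c) i
  rw [inv_inv, w2] at cw
  rw [ti, cw] at tj
  have tt : t * t = 1 := by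
    refine ((mzi hz).1 h.s2).resolve_right fun tt => ?_
    obtain ⟨R, hR, h1⟩ := exists_isSylowOf_ge h.e2s.two (zpowers_le.2 h.sz)
    obtain ⟨a, ha, oa, az⟩ := exists_other hG (h.syl_cen hR) hz hR.le
    have h2 := h.idx' hR.isPGroup hR.le (h1 (mem_zpowers t)) ha
      (fun e => h.s_nmem (mem_sup_left (Qz_le_Kz z e)))
      fun e => az (hu a e oa)
    have h3 : t * (t * a) * t⁻¹ * (t * a) = z := by
      rw [← tt, show t * (t * a) * t⁻¹ * (t * a) = t * t * (a * a) by group, ii oa, mul_one]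
    have tz : t * z * t⁻¹ = z := by rw [c1.1 h.sz, mul_inv_cancel_right]
    have n1 := r.z1
    have n2 := r.i_ne r.zz
    have n3 := r.i_ne (mul_one 1)
    have tij : t * (i * j) * t⁻¹ = z * i * (z * (i * j)) := by rw [← conj_mul, ti, tj]
    rcases hq _ h2 with e | e | e | e | e | e | e | e <;> rw [e] at h3 <;>
      simp only [cz _ h.sz, ti, tj, tz, tij, mul_one, mul_inv_cancel] at h3 <;>
      simp [mul_assoc, r.nf, n2, n3, n1.symm] at h3
  obtain ⟨ψ, inj, p1, p2, p3, p4⟩ := exists_emb (i := i) (j := j) (u := w) (t := t)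
    (by rw [show i ^ 4 = i * i * (i * i) by simp only [pow_succ, pow_zero, one_mul, mul_assoc], r.ii, r.zz])
    (by simp only [mul_assoc, r.nf, mul_one]) (by rw [sq, sq, r.ii, r.jj]) wi wj h.w3
    (by rw [ti, r.nf.2.2.2.2.2.2.2.2.2.2.2.2.2.1]) h.sw (by rw [sq, tt]) (by rw [sq, r.ii]; exact r.z1)
  have pz : ψ (glI ^ 2) = z := by rw [map_pow, p1, sq, r.ii]
  have hQ : Qz z ≤ ψ.range := fun q h1 => by
    have a1 : i ∈ ψ.range := ⟨_, p1⟩
    have a2 : j ∈ ψ.range := ⟨_, p2⟩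
    have a3 : z ∈ ψ.range := ⟨_, pz⟩
    rcases hq q h1 with e | e | e | e | e | e | e | e <;> rw [e]
    exacts [one_mem _, a3, a1, mul_mem a3 a1, a2, mul_mem a3 a2, mul_mem a1 a2,
      mul_mem a3 (mul_mem a1 a2)]
  have d1 : ∀ g y, g * (ψ y)⁻¹ ∈ Kz z → ψ y ∈ Cen1 z → ∃ x, ∃ o ∈ Oz z, g = ψ x * o :=
    fun g y hg hy => by
      obtain ⟨q, h1, o, h2, e⟩ := h.decK hg
      obtain ⟨x, rfl⟩ := hQ h1
      exact ⟨x * y, _, cmem' (nOz z hy) h2, by
        rw [map_mul, eq_mul_of_mul_inv_eq e]; group⟩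
  have d2 : ∀ g y, g * (ψ y)⁻¹ ∈ Kz z ⊔ zpowers w → ψ y ∈ Cen1 z →
      ∃ x, ∃ o ∈ Oz z, g = ψ x * o := fun g y hg hy => by
    rcases h.memM hg with e | e | e
    · exact d1 g y e hy
    · exact d1 g (glU * y) (by rwa [map_mul, p3, mul_inv_rev, ← mul_assoc])
        (by rw [map_mul, p3]; exact mul_mem h.c hy)
    · exact d1 g (glU⁻¹ * y) (by rwa [map_mul, map_inv, p3, mul_inv_rev, inv_inv, ← mul_assoc])
        (by rw [map_mul, map_inv, p3]; exact mul_mem (inv_mem h.c) hy)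
  refine ⟨ψ, inj, pz, fun g hg => ?_, (Oz_le z).trans (Kz_le z), nOz z, odd_Oo _,
    fun e => nd_Kz z (e.trans (card_dvd_of_le (Oz_le z))), fun o ho e => ?_, h.one⟩
  · rcases h.dc g hg with e | e
    · exact d2 g 1 (by simpa using e) (by simp)
    · exact d2 g glT (by rwa [p4]) (p4 ▸ h.sz)
  · rcases (mzi hz).1 (h.fpK.fix o (Oz_le z ho) (p3 ▸ e)) with e | e
    · exact e
    · exact absurd (e ▸ ho) (not_mem_odd (odd_Oo _) hz)

end Z6
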