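import Cfsg.Agent.Z6.X
import Cfsg.Agent.Z6.Q8

/-! The principal 2-block on the sections of the non-trivial 2-elements. -/

set_option autoImplicit false
set_option linter.unusedVariables false
set_option linter.unusedSectionVars false

namespace Z6

open Cfsg Subgroup H8 L GW
open H9 (glI glJ glU glT card_GL23)
open FT (Cen1)
open scoped ComplexConjugate Classical

universe u

section General

variable {G : Type*} [Group G] [Fintype G] {p : ℕ} [hp : Fact p.Prime]

theorem P0_equiv {H : Type*} [Group H] [Fintype H] (e : G ≃* H) (θ : H → ℂ) (k : G) :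
    P0 p θ (e k) = P0 p (fun k => θ (e k)) k := by
  have r1 : ∀ g, regInd p (e g) = regInd p g := fun g =>
    if_congr (by rw [Reg, Reg, MulEquiv.orderOf_eq]) rfl rfl
  have r2 : ∀ g, regInd p (e.symm g) = regInd p g := fun g =>
    if_congr (by rw [Reg, Reg, MulEquiv.orderOf_eq]) rfl rfl
  refine Finset.sum_nbij' (fun ψ => ⟨fun k => ψ.1 (e k),
      H8.irr_comp_surjective ψ.2 e.toMonoidHom e.surjective⟩)
    (fun ψ => ⟨fun h => ψ.1 (e.symm h),
      H8.irr_comp_surjective ψ.2 e.symm.toMonoidHom e.symm.surjective⟩) ?_ ?_ ?_ ?_ ?_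
  · intro ψ hψ
    rw [mem_B0] at hψ ⊢
    rw [← Equiv.sum_comp e.toEquiv] at hψ
    simpa only [MulEquiv.toEquiv_eq_coe, MulEquiv.coe_toEquiv, r1, r2] using hψ
  · intro ψ hψ
    rw [mem_B0] at hψ ⊢
    rw [← Equiv.sum_comp e.symm.toEquiv] at hψ
    simpa only [MulEquiv.toEquiv_eq_coe, MulEquiv.coe_toEquiv, r1, r2] using hψ
  · intro ψ _; ext; simp
  · intro ψ _; ext; simp
  · intro ψ _
    simp only [classInner]
    rw [← Equiv.sum_comp e.toEquiv, Nat.card_congr e.toEquiv]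
    rfl

theorem P0_subgroup {θ : G → ℂ} (hθ : IsClassFunction G θ) (H : Subgroup G) {u y : G}
    (hu : PElt p u) (hy : Reg p y) (huy : Commute u y) (uH : u ∈ H)
    (hC : centralizer ({u} : Set G) ≤ H) (x : H) (hx : (x : G) = u * y) :
    P0 p θ (u * y) = P0 p (fun c : H => θ c) x := by
  have yC : y ∈ centralizer ({u} : Set G) := mem_centralizer_singleton_iff.2 huy.symm
  have uC : u ∈ centralizer ({u} : Set G) := mem_centralizer_singleton_iff.2 rfl
  let e : centralizer ({⟨u, uH⟩} : Set H) ≃* centralizer ({u} : Set G) :=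
    { toFun := fun c => ⟨c.1.1, mem_centralizer_singleton_iff.2
        (congrArg Subtype.val (mem_centralizer_singleton_iff.1 c.2))⟩
      invFun := fun c => ⟨⟨c.1, hC c.2⟩, mem_centralizer_singleton_iff.2
        (Subtype.ext (mem_centralizer_singleton_iff.1 c.2))⟩
      left_inv := fun c => rfl
      right_inv := fun c => rfl
      map_mul' := fun a b => rfl }
  have e1 : x = ⟨u, uH⟩ * ⟨y, hC yC⟩ := Subtype.ext hx
  rw [P0_res hθ hu hy huy (e (e.symm ⟨u * y, mul_mem uC yC⟩)) rfl, P0_equiv, e1,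
    P0_res (u := ⟨u, uH⟩) (y := ⟨y, hC yC⟩) (class_res hθ H) (PElt_coe.1 hu) (Reg_coe.1 hy)
      (Subtype.ext huy.eq)
      (e.symm ⟨u * y, mul_mem uC yC⟩) rfl]
  rfl

theorem P0_of_ker {N : Subgroup G} [hN : N.Normal] (hc : (Nat.card N).Coprime p)
    (h : ∀ χ : IrrCharacter G, (∀ n ∈ N, ∀ g, χ.1 (n * g) = χ.1 g) → χ ∈ B0 p G)
    {θ : G → ℂ} (hθ : IsClassFunction G θ) (g : G) :
    P0 p θ g = (Nat.card N : ℂ)⁻¹ * ∑ n : N, θ (g * n) := by
  have hN0 : (Nat.card N : ℂ) ≠ 0 := Nat.cast_ne_zero.mpr Nat.card_pos.ne'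
  let f : G → ℂ := fun x => if x ∈ N then 1 else 0
  have hf : IsClassFunction G f := by
    intro x k
    refine if_congr ⟨fun h => ?_, fun h => hN.conj_mem x h k⟩ rfl rfl
    simpa [mul_assoc] using hN.conj_mem _ h k⁻¹
  have hreg : ∀ φ : G → ℂ, ∑ x, f x * φ x = ∑ n : N, φ n := fun φ => by
    rw [sum_eq_sum_subgroup_add N, Finset.sum_eq_zero (s := Finset.univ) (f := fun g : G =>
      if g ∈ N then 0 else f g * φ g), add_zero]
    · exact Finset.sum_congr rfl fun n _ => by simp [f]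
    · intro x _
      split_ifs with hx
      · rfl
      · simp [f, hx]
  have h1 : e0 p G = (Nat.card N : ℂ)⁻¹ • om f := by
    funext χ
    simp only [e0, Pi.smul_apply, smul_eq_mul]
    split_ifs with hχ
    · rw [om, hreg]
      have : ∀ n : N, χ.1 n = χ.1 1 := fun n => by
        simpa using B0_mul_of_normal hc hχ n.2 1
      simp only [this, Finset.sum_const, Finset.card_univ, nsmul_eq_mul, ← Nat.card_eq_fintype_card]
      have := H8.irr_apply_one_ne_zero χ.2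
      field_simp
    · by_contra h0
      have h5 : om f χ ≠ 0 := fun e => h0 (by rw [e, mul_zero])
      refine hχ (h χ fun n hn g => mul_left_cancel₀ h5 ?_)
      rw [← sum_class_mul hf, ← sum_class_mul hf]
      refine Fintype.sum_equiv (Equiv.mulRight n) _ _ fun x => ?_
      simp only [Equiv.coe_mulRight, mul_assoc]
      congr 1
      exact if_congr (N.mul_mem_cancel_right hn).symm rfl rfl
  rw [P0_eq_sum_FF hθ, h1, FF_smul, FF_om hf, ← hreg (fun x => θ (g * x)), Finset.mul_sum]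
  exact Finset.sum_congr rfl fun x _ => by simp only [Pi.smul_apply, smul_eq_mul, mul_assoc]

theorem col_eq (g h : G) : ∑ χ : IrrCharacter G, conj (χ.1 h) * χ.1 g =
    ∑ c, if c * h = g * c then 1 else 0 := by
  rw [sum_conj_mul_eq, Finset.sum_boole]
  split_ifs with e
  · obtain ⟨k, rfl⟩ := isConj_iff.1 e
    rw [Nat.card_eq_fintype_card, Fintype.card_subtype]
    congr 1
    refine Finset.card_bij (fun c _ => k * c) (fun c hc => ?_) (fun a _ b _ e => mul_left_cancel e)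
      fun c hc => ⟨k⁻¹ * c, ?_, by simp⟩
    · simp only [Finset.mem_filter, Finset.mem_univ, true_and, mem_centralizer_singleton_iff] at hc ⊢
      rw [mul_assoc, hc]; group
    · simp only [Finset.mem_filter, Finset.mem_univ, true_and, mem_centralizer_singleton_iff] at hc ⊢
      rw [mul_assoc, hc]; group
  · rw [Finset.filter_eq_empty_iff.2 fun c _ e' => e (isConj_iff.2 ⟨c, by rw [e']; group⟩)]
    simp

/-- the average over a coset -/
noncomputable def av (O : Subgroup G) (θ : G → ℂ) (g : G) : ℂ :=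
  (Nat.card O : ℂ)⁻¹ * ∑ o : O, θ (g * o)

end General

variable {G : Type u} [Group G] [Fintype G] {z : G} {ψ : GL23 →* G} {O : Subgroup G}

namespace GS

variable (h : GS z ψ O)
include h

theorem oz : orderOf z = 2 := by rw [← h.hz, orderOf_injective ψ h.inj, orderOf_glI_sq]

theorem mem (x : GL23) : ψ x ∈ Cen1 z := c1.2 (by rw [← h.hz, ← map_mul, gl23_central, map_mul])

theorem disj {x : GL23} (hx : ψ x ∈ O) : x = 1 := by
  obtain ⟨p, rfl⟩ := wd_surj x
  have h1 : orderOf (wd p) ∣ 3 * 2 ^ 3 := orderOf_dvd_of_pow_eq_one (wd24 p)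
  have h2 : orderOf (wd p) ∣ Nat.card O := by
    rw [← orderOf_injective ψ h.inj]; exact orderOf_dvd_natCard _ hx
  have h3 : (Nat.card O).Coprime (3 * 2 ^ 3) :=
    Nat.Coprime.mul_right (cop3.2 h.nd) ((odd_iff_cop.1 h.odd).pow_right 3)
  exact orderOf_eq_one_iff.1 (Nat.eq_one_of_dvd_coprimes h3 h2 h1)

/-- the decomposition of `C(z)` -/
noncomputable def eqv : GL23 × O ≃ Cen1 z :=
  Equiv.ofBijective (fun p => ⟨ψ p.1 * p.2, mul_mem (h.mem _) (h.le p.2.2)⟩) ⟨fun a b e => by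
    have e1 : ψ a.1 * a.2 = ψ b.1 * b.2 := congrArg Subtype.val e
    have e2 : b.1⁻¹ * a.1 = 1 := h.disj (by
      rw [map_mul, map_inv, eq_mul_inv_of_mul_eq e1, ← mul_assoc, inv_mul_cancel_left]
      exact mul_mem b.2.2 (inv_mem a.2.2))
    have e3 : a.1 = b.1 := (inv_mul_eq_one.1 e2).symm
    rw [e3] at e1
    exact Prod.ext e3 (Subtype.ext (mul_left_cancel e1)), fun g => by
    obtain ⟨x, o, ho, e⟩ := h.dec g g.2
    exact ⟨(x, ⟨o, ho⟩), Subtype.ext e.symm⟩⟩

theorem eqv_coe (p : GL23 × O) : (h.eqv p : G) = ψ p.1 * p.2 := rfl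

theorem sumH (f : Cen1 z → ℂ) : ∑ g, f g = ∑ x, ∑ o : O, f (h.eqv (x, o)) := by
  rw [← Equiv.sum_comp h.eqv, Fintype.sum_prod_type]

theorem cardH : Nat.card (Cen1 z) = 48 * Nat.card O := by
  rw [← Nat.card_congr h.eqv, Nat.card_prod, card_GL23]

theorem pi_iff {g : Cen1 z} {x : GL23} : (h.eqv.symm g).1 = x ↔ (ψ x)⁻¹ * g ∈ O := by
  obtain ⟨⟨y, o⟩, rfl⟩ := h.eqv.surjective g
  rw [Equiv.symm_apply_apply, eqv_coe, ← mul_assoc, mul_mem_cancel_right o.2, ← map_inv, ← map_mul]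
  exact ⟨fun e => by rw [← e]; simp, fun e => (inv_mul_eq_one.1 (h.disj e)).symm⟩

/-- the projection -/
noncomputable def pi : Cen1 z →* GL23 where
  toFun g := (h.eqv.symm g).1
  map_one' := h.pi_iff.2 (by simp)
  map_mul' a b := h.pi_iff.2 (H5.mem_of_eq
    (mul_mem (cmem' (h.nor (h.mem (h.eqv.symm b).1)) (h.pi_iff.1 (rfl : (h.eqv.symm a).1 = _)))
      (h.pi_iff.1 (rfl : (h.eqv.symm b).1 = _))) (by rw [map_mul, coe_mul]; group))

theorem pi_eq {g : Cen1 z} {x : GL23} : h.pi g = x ↔ (ψ x)⁻¹ * g ∈ O := h.pi_iff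

theorem pi_eqv (p : GL23 × O) : h.pi (h.eqv p) = p.1 := h.pi_eq.2 (by simp [eqv_coe])

/-- the section -/
def sg : GL23 →* Cen1 z := ψ.codRestrict _ h.mem

theorem pi_sg (x : GL23) : h.pi (h.sg x) = x := h.pi_eq.2 (by simp [sg])

theorem nN : (O.subgroupOf (Cen1 z)).Normal := (normal_subgroupOf_iff_le_normalizer h.le).2 h.nor

theorem cardN : Nat.card (O.subgroupOf (Cen1 z)) = Nat.card O :=
  Nat.card_congr (subgroupOfEquivOfLe h.le).toEquiv

theorem O0 : (Nat.card O : ℂ) ≠ 0 := Nat.cast_ne_zero.mpr Nat.card_pos.ne'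

theorem P0H {θ : G → ℂ} (hθ : IsClassFunction G θ) (g : Cen1 z) :
    P0 2 (fun c : Cen1 z => θ c) g = av O θ g := by
  have := h.nN
  have hc : (Nat.card (O.subgroupOf (Cen1 z))).Coprime 2 := h.cardN ▸ odd_iff_cop.1 h.odd
  rw [P0_of_ker hc (fun χ hχ => ?_) (class_res hθ _), av, h.cardN,
    ← Equiv.sum_comp (subgroupOfEquivOfLe h.le).toEquiv]
  · rfl
  have e : ∀ x o, h.eqv (x, o) = (⟨_, h.le (cmem (h.nor (h.mem x)) o.2)⟩ : Cen1 z) * h.sg x :=
    fun x o => Subtype.ext (by simp [eqv_coe, sg])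
  have e1 : ∀ x o, χ.1 (h.eqv (x, o)) = χ.1 (h.sg x) := fun x o => by
    rw [e, hχ _ (mem_subgroupOf.2 (cmem (h.nor (h.mem x)) o.2))]
  have e2 : ∀ x o, regInd 2 (h.eqv (x, o)) = regInd 2 x := fun x o => by
    refine if_congr ⟨fun hr => ?_, fun hr => ?_⟩ rfl rfl
    · have := hr.map h.pi
      rwa [h.pi_eqv] at this
    · rw [e]
      exact Reg_mul_of_normal hc (mem_subgroupOf.2 (cmem (h.nor (h.mem x)) o.2)) (hr.map h.sg)
  have hφ : IsIrrCharacter GL23 fun x => χ.1 (h.sg x) := by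
    refine irr_of_char_norm_one (char_comp (irr_isCharacter χ.2) _) ?_
    have := irr_classInner_self χ.2
    simp only [classInner, h.sumH, e1, h.cardH, Finset.sum_const, Finset.card_univ, nsmul_eq_mul,
      ← Nat.card_eq_fintype_card, ← Finset.mul_sum] at this ⊢
    rw [← this, card_GL23]
    have := h.O0
    push_cast
    field_simp
  rw [mem_B0, h.sumH]
  simp only [e1, e2, Finset.sum_const, Finset.card_univ, nsmul_eq_mul, ← Nat.card_eq_fintype_card,
    ← Finset.mul_sum]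
  exact mul_ne_zero h.O0 (B0_X ⟨_, hφ⟩)

theorem P0av {θ : G → ℂ} (hθ : IsClassFunction G θ) {x : GL23} {m : ℕ} (hm : x ^ m = glI ^ 2) :
    P0 2 θ (ψ x) = av O θ (ψ x) := by
  obtain ⟨u, y, hu, hy, c, e, h1, h2⟩ := exists_decomp (p := 2) (ψ x)
  have e1 : z = u ^ m := ppart_unique (p := 2) ⟨1, by rw [pow_one, sq, ii h.oz]⟩ Reg_one
    (Commute.one_right z) (hu.pow m) (hy.pow m) (c.pow_pow m m)
    (by rw [mul_one, ← c.mul_pow, ← e, ← map_pow, hm, h.hz])
  refine Eq.trans ?_ (h.P0H hθ (h.sg x))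
  rw [e]
  exact P0_subgroup hθ _ hu hy c (zpowers_le.2 (h.mem x) h1)
    (fun g hg => c1.2 (e1 ▸ (Commute.pow_right (c1.1 hg) m).eq)) _ e

theorem avchar {χ : G → ℂ} (hχ : IsCharacter G χ) : IsCharacter GL23 fun x => av O χ (ψ x) := by
  have hc := char_isClassFunction hχ
  refine char_of_forall_nat (fun x k => ?_) fun φ hφ => ?_
  · simp only [av]
    congr 1
    refine (Fintype.sum_equiv ⟨fun o => ⟨_, cmem (h.nor (h.mem k)) o.2⟩,
      fun o => ⟨_, cmem' (h.nor (h.mem k)) o.2⟩, fun o => Subtype.ext (by simp [mul_assoc]),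
      fun o => Subtype.ext (by simp [mul_assoc])⟩ _ _ fun o => ?_).symm
    rw [← hc _ (ψ k)]
    simp [mul_assoc]
  · obtain ⟨n, hn⟩ := char_classInner_nat (char_restrict hχ (Cen1 z))
      (char_comp (irr_isCharacter hφ) h.pi)
    refine ⟨n, ?_⟩
    rw [← hn]
    simp only [classInner, h.sumH, h.pi_eqv, eqv_coe, av, h.cardH, ← Finset.sum_mul, card_GL23,
      mul_assoc, ← Finset.mul_sum]
    have := h.O0
    push_cast
    field_simp

theorem zmem {x : GL23} {m : ℕ} (hm : x ^ m = glI ^ 2) {o : G} (ho : o ∈ O) :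
    z ∈ zpowers (ψ x * o) := by
  have e1 : h.pi (h.eqv (x, ⟨o, ho⟩) ^ m) = glI ^ 2 := by rw [map_pow, h.pi_eqv, hm]
  rw [h.pi_eq, h.hz, SubgroupClass.coe_pow, eqv_coe, iinv h.oz] at e1
  have e2 : (ψ x * o) ^ m = z * (z * (ψ x * o) ^ m) := by rw [← mul_assoc, ii h.oz, one_mul]
  generalize z * (ψ x * o) ^ m = o' at e1 e2
  have e3 : (z * o') ^ Nat.card O = z := by
    obtain ⟨k, hk⟩ := h.odd
    rw [(c1c.1 (h.le e1)).symm.mul_pow, orderOf_dvd_iff_pow_eq_one.1 (orderOf_dvd_natCard _ e1), hk, pow_succ, pow_mul, sq,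
      ii h.oz, one_pow, one_mul, mul_one]
  rw [← e3, ← e2]
  exact pow_mem (pow_mem (mem_zpowers _) _) _

theorem BB {x y : GL23} {m n : ℕ} (hm : x ^ m = glI ^ 2) (hn : y⁻¹ ^ n = glI ^ 2) :
    ∑ χ ∈ B0 2 G, χ.1 (ψ x) * χ.1 (ψ y) = Nat.card {c // c * y⁻¹ = x * c} := by
  have e0 : ∑ χ ∈ B0 2 G, χ.1 (ψ x) * χ.1 (ψ y) = KK 2 (ψ x) (ψ y⁻¹) :=
    Finset.sum_congr rfl fun χ _ => by rw [irr_conj_eq, map_inv, inv_inv]
  rw [e0, KK_eq_P0, h.P0av (class_sum_irr _) hm, av]
  simp only [col_eq]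
  rw [Finset.sum_comm, sum_eq_sum_subgroup_add (Cen1 z), Finset.sum_eq_zero (s := Finset.univ)
    (f := fun g : G => if g ∈ Cen1 z then 0 else _), add_zero, h.sumH]
  · have e : ∀ (c : GL23) (o' : O), (∑ o : O, if (h.eqv (c, o') : G) * ψ y⁻¹ =
        ψ x * o * h.eqv (c, o') then (1 : ℂ) else 0) = if c * y⁻¹ = x * c then 1 else 0 := by
      intro c o'
      have e1 : h.pi (h.eqv (c, o') * h.sg y⁻¹ * (h.eqv (c, o'))⁻¹) = c * y⁻¹ * c⁻¹ := by
        rw [map_mul, map_mul, h.pi_sg, map_inv, h.pi_eqv]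
      split_ifs with e2
      · rw [e2, mul_inv_cancel_right, h.pi_eq] at e1
        rw [Finset.sum_eq_single ⟨_, e1⟩ (fun o _ e3 => if_neg fun e4 => e3 (Subtype.ext ?_))
          (by simp), if_pos]
        · simp [sg, mul_assoc]
        · change _ = (ψ x)⁻¹ * (_ * ψ y⁻¹ * _)
          rw [e4]; simp [mul_assoc]
      · refine Finset.sum_eq_zero fun o _ => if_neg fun e4 => e2 ?_
        rw [← mul_inv_eq_iff_eq_mul, ← e1, h.pi_eq]
        change (ψ x)⁻¹ * (_ * ψ y⁻¹ * _) ∈ O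
        rw [e4]; simp [mul_assoc]
    simp only [e, Finset.sum_const, Finset.card_univ, nsmul_eq_mul, ← Nat.card_eq_fintype_card,
      ← Finset.mul_sum]
    rw [inv_mul_cancel_left₀ h.O0, Finset.sum_boole, Nat.card_eq_fintype_card, Fintype.card_subtype]
  · intro c _
    split_ifs with hc
    · rfl
    refine Finset.sum_eq_zero fun o _ => if_neg fun e => hc (c1.2 (mul_inv_eq_iff_eq_mul.1 ?_))
    refine inv_uniq ?_ (h.zmem hm o.2) (iconj h.oz c) h.oz
    rw [← mul_inv_eq_iff_eq_mul.2 e, ← h.hz, ← hn, map_pow, ← conj_pow]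
    exact pow_mem (mem_zpowers _) _

end GS

end Z6
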