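import Cfsg.Agent.Z6.Zn

/-! Type `S₃` with a normal four-subgroup: the normal elementary subgroup of order eight. -/

set_option autoImplicit false
set_option linter.unusedVariables false
set_option linter.unusedSectionVars false

namespace Z6

open Cfsg Subgroup FT H4 H5 GW P
open H5.Dich (NF)

universe u

variable {G : Type u} [Group G] [Finite G]

theorem Stb_inv {N : Subgroup G} {a b : G} (h : a ∈ Stb N b) (hb : b ∈ Nor N) : a ∈ Stb N b⁻¹ :=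
  Stb_symm (inv_mem (Stb_symm h hb)) h.1

theorem Stb_cj {N : Subgroup G} {a b : G} (h : a ∈ Stb N b) (g : G) :
    g * a * g⁻¹ ∈ Stb (conjS g N) (g * b * g⁻¹) :=
  ⟨by rw [Nor, ← conjS_normalizer]; exact conj_mem_conjS h.1,
    mem_of_eq (conj_mem_conjS (g := g) h.2) (by group)⟩

theorem Stb_zp {a b c : G} (h : a ∈ Stb (zpowers c) b) (g : G) :
    g * a * g⁻¹ ∈ Stb (zpowers (g * c * g⁻¹)) (g * b * g⁻¹) := conj_zp g c ▸ Stb_cj h g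

theorem cen_of_two {z u a b : G} (f : F4 z u) (h1 : a ∈ Stb (zpowers z) b)
    (h2 : a ∈ Stb (zpowers u) b) : a ∈ Cen1 b := by
  rcases (mzi f.ht).1 h1.2 with e | e
  · exact c1'.2 (mul_inv_eq_one.1 e)
  · rcases (mzi f.ha).1 h2.2 with e' | e'
    · exact c1'.2 (mul_inv_eq_one.1 e')
    · exact absurd (e'.symm.trans e) f.ne

theorem Stb_cases {z a b : G} (hz : orderOf z = 2) (h : a ∈ Stb (zpowers z) b) :
    a * b * a⁻¹ = b ∨ a * b * a⁻¹ = z * b :=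
  ((mzi hz).1 h.2).imp mul_inv_eq_one.1 mul_inv_eq_iff_eq_mul.1

theorem idx_of_Stb {z b : G} {R : Subgroup G} (hz : orderOf z = 2) (h : R ≤ Stb (zpowers z) b) :
    (Cen1 b).relIndex R ∣ 2 := H5.Dich.relIndex_dvd_two fun x hx => Stb_cases hz (h hx)

theorem nor_of_Stb {T V : Subgroup G} {a : G} (h : T ≤ Stb V a) (hV : V ≤ Cen T) :
    T ≤ Nor (T ⊓ Cen1 a) := fun t ht => mnor fun k hk => mem_inf.2 ⟨cmem (le_normalizer ht) hk.1, by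
  have h1 := (h (inv_mem ht)).2
  have h2 := mul_mem (c1s.1 (cen_iff_le.1 (hV h1) hk.1)) (c1s.1 hk.2)
  have h3 := conj_mem_conjS (g := t) (c1s.1 h2)
  rwa [conj_c1, show t * (t⁻¹ * a * t⁻¹⁻¹ * a⁻¹ * a) * t⁻¹ = a by group] at h3⟩

namespace Fp
variable {w : G} {K N : Subgroup G} (h : Fp w K N)
include h

theorem comm_wk {x k : G} (hx : x ∈ K) (hk : k ∈ K) : w * x * w⁻¹ ∈ Stb N (k * x * k⁻¹) := by
  obtain ⟨X, _, _, f, hw, hk', h1, h2⟩ := h.exq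
  have a := mem_im_of_mem (f := f) (mem_sup_left (inv_mem hk)) (inv_mem hk)
  have b := cmem (le_normalizer hk) hx
  have := ((h2.mul a).comm_w (h2.sc_mul h1 a) (mem_im_of_mem (f := f) (mem_sup_left b) b)).symm.eq
  rw [← mul_inv_eq_one] at this
  simp only [← map_mul, ← map_inv] at this
  exact ⟨h.kN (cmem h.nK hx), mem_of_eq ((map_eq_one_iff_of_ker hk').1 this)
    (by simp only [coe_mul, coe_inv]; group)⟩

theorem key {q k : G} (hq : q ∈ K) (hk : k ∈ K) : ((w * k * w⁻¹)⁻¹ * q * (w * k * w⁻¹) * q⁻¹)⁻¹ *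
    (w⁻¹ * (k * q⁻¹ * k⁻¹ * q) * w) ∈ N := by
  have h1 := cmem h.nN (cmem (h.kN (mul_mem (cmem' h.nK hq) hq))
    (mul_mem (inv_mem (h.tri_mul hq hk)) (h.tri hq)))
  refine mem_of_eq h1 ?_
  have e : w⁻¹ = w * w := h.ww.symm
  calc _ = ((w * k * w⁻¹)⁻¹ * q * (w * k * w⁻¹) * q⁻¹)⁻¹ *
      (w * w * (k * q⁻¹ * k⁻¹ * q) * (w * w)⁻¹) := by group
    _ = _ := by rw [← e, inv_inv]

end Fp

/-- the elementary abelian group `⟨z, u, u^w⟩` -/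
def E8 (z u w : G) : Subgroup G := V4 z u ⊔ zpowers (w * u * w⁻¹)

theorem V_E (z u w : G) : V4 z u ≤ E8 z u w := le_sup_left
theorem z_E (z u w : G) : z ∈ E8 z u w := V_E z u w (t_V z u)
theorem u_E (z u w : G) : u ∈ E8 z u w := V_E z u w (a_V z u)
theorem e_E (z u w : G) : w * u * w⁻¹ ∈ E8 z u w := mem_sup_right (mem_zpowers _)
theorem E_le {z u w : G} {R : Subgroup G} (h1 : z ∈ R) (h2 : u ∈ R) (h3 : w * u * w⁻¹ ∈ R) :
    E8 z u w ≤ R := sup_le (V_le h1 h2) (zpowers_le.2 h3)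

theorem nor_E {z u w g : G} (h1 : g * z * g⁻¹ ∈ E8 z u w) (h2 : g * u * g⁻¹ ∈ E8 z u w)
    (h3 : g * (w * u * w⁻¹) * g⁻¹ ∈ E8 z u w) : g ∈ Nor (E8 z u w) := mnor fun k hk =>
  E_le (R := (E8 z u w).comap (MulAut.conj g).toMonoidHom) h1 h2 h3 hk

theorem nor_V {z u g : G} (h1 : g * z * g⁻¹ ∈ V4 z u) (h2 : g * u * g⁻¹ ∈ V4 z u) :
    g ∈ Nor (V4 z u) := mnor fun k hk =>
  V_le (H := (V4 z u).comap (MulAut.conj g).toMonoidHom) h1 h2 hk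

theorem T3.le_nor {z w s f : G} (h : T3 z w s) {N : Subgroup G} (h1 : N ≤ Qz z) (h2 : Qz z ≤ Nor N)
    (h3 : w ∈ Nor N) (hf : f ∈ Cen1 z) (e : E2 f) (hq : f ∉ Qz z) (h4 : f ∈ Nor N) :
    Cen1 z ≤ Nor N := by
  have hM : Kz z ⊔ zpowers w ≤ Nor N := sup_le (fun k hk => by
    obtain ⟨q, hq, o, ho, rfl⟩ := h.decK hk
    exact mul_mem (h2 hq) (mcnor (centralizer_anti h1 (Oz_cen z ho)))) (zpowers_le.2 h3)
  intro g hg
  refine (h.dc g hg).elim (hM ·) fun e' => ?_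
  exact mem_of_eq (mul_mem (mul_mem (hM e') (inv_mem (hM (h.out hf e hq)))) h4) (by group)

/-- the configuration -/
structure CV (z w s u : G) (S : Subgroup G) : Prop where
  t : T3 z w s
  n : NV z u S

namespace CV
variable {z w s u : G} {S : Subgroup G} (c : CV z w s u S)
include c

theorem hz : orderOf z = 2 := c.t.hz
theorem f4 : F4 z u := c.n.f4
theorem l : Qz z ≤ S := Qz_le_syl c.n.syl
theorem two : IsPGroup 2 S := c.n.syl.isPGroup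
theorem le : S ≤ Cen1 z := c.n.syl.le
theorem nw : w ∈ Nor (Qz z) := nQz z c.t.c
theorem zQ : z ∈ Qz z := z_Qz c.hz (mem_zpowers z)

theorem c4 : Nat.card S ≠ 4 := by
  have := card_le_of_le c.n.V_le
  rw [c.f4.card_V] at this
  have := c.n.card
  omega

theorem uQ : u ∈ Qz z := c.t.cen_mem (c.t.nt c.n.syl c.c4) c.f4.aH
  (e2_of_mem c.two c.n.nf.u_mem) fun q hq => Stb_symm (c.n.stb (c.l hq)) (mzp c.f4.aH)

theorem eQ : w * u * w⁻¹ ∈ Qz z := cmem c.nw c.uQ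
theorem eu : w * u * w⁻¹ ∈ Cen1 u := c.t.fpQ.comm8 c.hz (Qz_le z) c.uQ c.n.nf.uu
theorem eT : w * u * w⁻¹ ∈ S ⊓ Cen1 u := ⟨c.l c.eQ, c.eu⟩
theorem ee : w * u * w⁻¹ * (w * u * w⁻¹) = 1 := sq_conj c.n.nf.uu w
theorem uz : u ∉ zpowers z := fun e => ((mzi c.hz).1 e).elim c.n.nf.u1 c.f4.ne
theorem VT : V4 z u ≤ Cen (S ⊓ Cen1 u) := le_cen_symm (by rw [cen_V]; exact c.n.T_le)
theorem zV : zpowers z ≤ V4 z u := le_sup_left

theorem eV : w * u * w⁻¹ ∉ V4 z u := fun e => by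
  rcases c.f4.mem_V.1 e with e | e | e | e
  · exact ine (iconj c.f4.ha w) e
  · exact c.f4.ne (conj_injective (x := w) (e.trans (c1'.1 c.t.c).symm))
  · exact c.uz (c.t.fpQ.fixm c.uQ ⟨mzp c.t.c, by rw [e, mul_inv_cancel]; exact one_mem _⟩)
  · exact c.uz (c.t.fpQ.fixm c.uQ ⟨mzp c.t.c, by rw [e, mul_inv_cancel_right]; exact mem_zpowers z⟩)

theorem nV : S ≤ Nor (V4 z u) := fun g hg =>
  nor_V (mem_of_eq (t_V z u) (c1'.1 (c.le hg)).symm)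
    (mem_of_eq (mul_mem (c.zV (c.n.stb hg).2) (a_V z u)) (by group))

theorem EQ : E8 z u w ≤ Qz z := E_le c.zQ c.uQ c.eQ
theorem ET : E8 z u w ≤ S ⊓ Cen1 u := sup_le c.n.V_le (zpowers_le.2 c.eT)

theorem memE {y : G} : y ∈ E8 z u w ↔ y ∈ V4 z u ∨ y * (w * u * w⁻¹) ∈ V4 z u := by
  refine ⟨fun hy => ?_, fun hy => hy.elim (V_E z u w ·) fun e =>
    (mul_mem_cancel_right (e_E z u w)).1 (V_E z u w e)⟩
  obtain ⟨k, hk, v, hv, rfl⟩ := (mem_sup_left_iff (zpowers_le.2 (c.nV c.eT.1))).1 hy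
  rcases (mzi (iconj c.f4.ha w)).1 hv with rfl | rfl
  · exact Or.inl (by rwa [mul_one])
  · exact Or.inr (by rwa [mul_assoc, c.ee, mul_one])

theorem Qe : Qz z ≤ Stb (zpowers z) (w * u * w⁻¹) := fun q hq => by
  have := Stb_conj (c.n.stb (c.l (cmem' c.nw hq))) (mzp c.t.c)
  rwa [show w * (w⁻¹ * q * w) * w⁻¹ = q by group] at this

theorem cenE : Cen (E8 z u w) = Cen1 z ⊓ Cen1 u ⊓ Cen1 (w * u * w⁻¹) := by
  rw [E8, Cen, H4.centralizer_sup, H4.centralizer_zpowers, ← cen_V]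

theorem Eab : E8 z u w ≤ Cen (E8 z u w) := by
  rw [c.cenE]
  exact le_inf (c.ET.trans c.n.T_le) (E_le (c1s.1 (Qz_le z c.eQ)) (c1s.1 c.eu) (c1.2 rfl))

theorem e3E : w⁻¹ * u * w ∈ E8 z u w :=
  (mul_mem_cancel_left (e_E z u w)).1 ((mul_mem_cancel_right (u_E z u w)).1
    (V_E z u w (c.zV (mem_of_eq (c.t.fpQ.tri c.uQ) rfl))))

theorem nE : Cen1 z ≤ Nor (E8 z u w) := by
  have hz : ∀ g ∈ Cen1 z, g * z * g⁻¹ ∈ E8 z u w := fun g hg => (c1'.1 hg).symm ▸ z_E z u w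
  have zE := c.zV.trans (V_E z u w)
  have n1 : w ∈ Nor (E8 z u w) := nor_E (hz w c.t.c) (e_E z u w) (mem_of_eq c.e3E (by
    rw [show w * (w * u * w⁻¹) * w⁻¹ = w * w * u * (w * w)⁻¹ by group, c.t.fpQ.ww, inv_inv]))
  have n2 : Qz z ≤ Nor (E8 z u w) := fun q hq => nor_E (hz q (Qz_le z hq))
    (V_E z u w (cmem (c.nV (c.l hq)) (a_V z u)))
    (mem_of_eq (mul_mem (zE (c.Qe hq).2) (e_E z u w)) (by group))
  obtain ⟨f, hf, hq⟩ := SetLike.not_le_iff_exists.1 (c.t.not_le c.n.syl)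
  have e2 := e2_of_mem c.two hf
  refine c.t.le_nor c.EQ n2 n1 (c.le hf) e2 hq (nor_E (hz f (c.le hf))
    (V_E z u w (cmem (c.nV hf) (a_V z u))) ?_)
  obtain ⟨k, hk, d, hd, e⟩ := c.t.rf (c.le hf) e2 hq
  refine mem_of_eq (cmem (mul_mem (mul_mem (inv_mem n1) (n2 hk)) (mcnor (centralizer_anti c.EQ hd)))
    (V_E z u w (cmem (c.nV hf) (a_V z u)))) ?_
  rw [← e]; group

theorem Se : S ≤ Stb (V4 z u) (w * u * w⁻¹) := fun g hg => ⟨c.nV hg, by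
  rw [inv_eq_of_mul_eq_one_right c.ee]
  exact (c.memE.1 (cmem (c.nE (c.le hg)) (e_E z u w))).resolve_left fun e =>
    c.eV (by simpa [mul_assoc] using cmem' (c.nV hg) e)⟩

theorem memQ {g : G} (hg : g ∈ S) (h : g ∈ Stb (zpowers z) (w * u * w⁻¹)) : g ∈ Qz z := by
  by_contra hn
  exact c.eV (c.zV (c.t.refl (c.le hg) (e2_of_mem c.two hg) hn le_rfl (z_Qz c.hz) (nzz z) c.eQ h
    (by simpa [mul_assoc] using c.n.stb hg)))

theorem Q_not_le : ¬ Qz z ≤ Cen1 u := fun e => by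
  obtain ⟨f, hf, h1⟩ := SetLike.not_le_iff_exists.1 c.n.not_le
  exact c.t.comm_ne c.uQ e (c.le hf) (e2_of_mem c.two hf) (fun e' => h1 (e e')) (c.n.act hf h1)

theorem exT : ∃ f ∈ S ⊓ Cen1 u, f ∉ Qz z := by
  obtain ⟨f, hf, h1⟩ := SetLike.not_le_iff_exists.1 (c.t.not_le c.n.syl)
  obtain ⟨q, hq, h2⟩ := SetLike.not_le_iff_exists.1 c.Q_not_le
  by_cases e : f ∈ Cen1 u
  · exact ⟨f, ⟨hf, e⟩, h1⟩
  · exact ⟨f * q, ⟨mul_mem hf (c.l hq), c.n.nf.mul_mem_cen hf (c.l hq) e h2⟩,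
      fun e' => h1 ((mul_mem_cancel_right hq).1 e')⟩

theorem C_eq : Qz z ⊓ Cen (E8 z u w) = S ⊓ Cen1 u ⊓ Cen1 (w * u * w⁻¹) := by
  rw [c.cenE]
  exact le_antisymm (fun g hg => ⟨⟨c.l hg.1, hg.2.1.2⟩, hg.2.2⟩) fun g hg =>
    ⟨c.memQ hg.1.1 (Stb_of_cen (mzp (c.le hg.1.1)) hg.2), ⟨c.le hg.1.1, hg.1.2⟩, hg.2⟩

theorem nC : Cen1 z ≤ Nor (S ⊓ Cen1 u ⊓ Cen1 (w * u * w⁻¹)) :=
  c.C_eq ▸ ninf (nQz z) (ncen c.nE)

theorem CQ : S ⊓ Cen1 u ⊓ Cen1 (w * u * w⁻¹) ≤ Qz z := c.C_eq ▸ inf_le_left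

theorem EC : E8 z u w ≤ S ⊓ Cen1 u ⊓ Cen1 (w * u * w⁻¹) := c.C_eq ▸ le_inf c.EQ c.Eab

theorem exQ : ∃ q ∈ Qz z, q ∈ Cen1 u ∧ q * (w * u * w⁻¹) * q⁻¹ = z * (w * u * w⁻¹) := by
  by_contra hn
  push Not at hn
  refine c.Q_not_le (c.t.fpQ.le_of_dvd (zpowers_le.2 c.f4.tH) ?_ (c.n.nf.index c.l))
  rw [show Qz z ⊓ Cen1 u = S ⊓ Cen1 u ⊓ Cen1 (w * u * w⁻¹) from le_antisymm (fun g hg =>
    ⟨⟨c.l hg.1, hg.2⟩, c1'.2 ((Stb_cases c.hz (c.Qe hg.1)).resolve_right (hn g hg.1 hg.2))⟩)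
    (le_inf c.CQ (inf_le_left.trans inf_le_right))]
  exact c.nC c.t.c

theorem kill {y : G} (hy : y ∈ S) (hq : y ∉ Qz z)
    (h : ∀ k ∈ S ⊓ Cen1 u ⊓ Cen1 (w * u * w⁻¹), y ∈ Stb (E8 z u w) k) :
    S ⊓ Cen1 u ⊓ Cen1 (w * u * w⁻¹) ≤ E8 z u w := fun k hk =>
  c.t.refl (c.le hy) (e2_of_mem c.two hy) hq (c.zV.trans (V_E z u w)) c.EQ c.nE (c.CQ hk) (h k hk)
    (h _ (cmem' (c.nC c.t.c) hk))

/-- commutators with an element acting trivially on `T / V` -/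
theorem stbC {q : G} (hq : q ∈ Qz z) (h : S ⊓ Cen1 u ≤ Stb (V4 z u) q) :
    S ⊓ Cen1 u ⊓ Cen1 (w * u * w⁻¹) ≤ Stb (zpowers z) q := fun k hk => by
  obtain ⟨f, hf, h1⟩ := c.exT
  have nq := mzp (Qz_le z hq)
  have A : ∀ v ∈ V4 z u, f ∈ Stb (zpowers z) v := fun v hv =>
    Stb_of_cen (mzp (c.le hf.1)) (cen_iff_le.1 (c.VT hv) hf)
  have nq' := c.nV (c.l hq)
  have h2 : k * q⁻¹ * k⁻¹ * q ∈ V4 z u := by simpa using (Stb_inv (h hk.1) nq').2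
  have h3 := (h (inv_mem (cmem (c.nC c.t.c) hk).1)).2
  rw [inv_inv] at h3
  have h4 := c.t.refl (c.le hf.1) (e2_of_mem c.two hf.1) h1 le_rfl (z_Qz c.hz) (nzz z)
    (c.EQ (V_E z u w h2)) (A _ h2) (A _ ((mul_mem_cancel_left (inv_mem h3)).1
      (c.zV (c.t.fpQ.key hq (c.CQ hk)))))
  simpa using Stb_inv (show k ∈ Stb (zpowers z) q⁻¹ from ⟨mzp (c.le hk.1.1), by simpa using h4⟩)
    (inv_mem nq)

end CV

end Z6
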