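import Mathlib.Tactic

/-! The pattern of the decomposition numbers. -/

set_option autoImplicit false
set_option linter.unusedVariables false
set_option linter.unusedSectionVars false

namespace Z6

variable {ι : Type*} [DecidableEq ι] {B : Finset ι} {n : ι → ℤ}

theorem split_l {M : Type*} [AddCommMonoid M] {l : List ι} (h1 : l.Nodup) (h2 : ∀ x ∈ l, x ∈ B)
    (f : ι → M) : ∑ x ∈ B, f x = (l.map f).sum + ∑ x ∈ B \ l.toFinset, f x := by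
  rw [← List.sum_toFinset f h1, add_comm, Finset.sum_sdiff fun x hx => h2 x (List.mem_toFinset.1 hx)]

theorem le_l {l : List ι} (h1 : l.Nodup) (h2 : ∀ x ∈ l, x ∈ B) :
    (l.map fun x => n x * n x).sum ≤ ∑ x ∈ B, n x * n x := by
  rw [split_l h1 h2]
  exact le_add_of_nonneg_right (Finset.sum_nonneg fun x _ => mul_self_nonneg _)

theorem sum_l {R : Type*} [Ring R] {l : List ι} (h1 : l.Nodup) (h2 : ∀ x ∈ l, x ∈ B)
    (h3 : ∀ x ∈ B, x ∉ l → n x = 0) (f : ι → R) :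
    ∑ x ∈ B, (n x : R) * f x = (l.map fun x => (n x : R) * f x).sum := by
  rw [split_l h1 h2, Finset.sum_eq_zero, add_zero]
  intro x hx
  rw [Finset.mem_sdiff, List.mem_toFinset] at hx
  rw [h3 x hx.1 hx.2, Int.cast_zero, zero_mul]

theorem ex_l {l : List ι} (h1 : l.Nodup) (h2 : ∀ x ∈ l, x ∈ B)
    (h : (l.map fun x => n x * n x).sum ≠ ∑ x ∈ B, n x * n x) : ∃ x ∈ B, x ∉ l ∧ n x ≠ 0 := by
  by_contra hn
  push Not at hn
  exact h (sum_l h1 h2 hn n).symm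

theorem eq_l {l : List ι} (h1 : l.Nodup) (h2 : ∀ x ∈ l, x ∈ B)
    (h : (l.map fun x => n x * n x).sum = ∑ x ∈ B, n x * n x) : ∀ x ∈ B, x ∉ l → n x = 0 := by
  intro x hx h3
  have := le_l (n := n) (List.nodup_cons.2 ⟨h3, h1⟩) (fun y hy => by
    rcases List.mem_cons.1 hy with rfl | hy
    exacts [hx, h2 y hy])
  rw [List.map_cons, List.sum_cons, h] at this
  nlinarith

theorem sq_one {x : ℤ} (h : x ≠ 0) (h1 : x * x ≤ 3) : x * x = 1 := by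
  have : -2 < x := by nlinarith
  have : x < 2 := by nlinarith
  interval_cases x <;> simp_all

theorem supp3 {a : ι} (ha : a ∈ B) (h1 : n a * n a = 1) (h : ∑ x ∈ B, n x * n x = 3) :
    ∃ b ∈ B, ∃ c ∈ B, b ≠ a ∧ c ≠ a ∧ c ≠ b ∧ n b * n b = 1 ∧ n c * n c = 1 ∧
      ∀ x ∈ B, x ≠ a → x ≠ b → x ≠ c → n x = 0 := by
  obtain ⟨b, hb, b1, b2⟩ := ex_l (n := n) (l := [a]) (by simp) (by simpa) (by simp [h, h1])
  have l2 := le_l (n := n) (B := B) (l := [b, a]) (by simpa using b1) (by simp [ha, hb])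
  simp only [List.map_cons, List.sum_cons, List.map_nil, List.sum_nil, h, h1] at l2
  have b3 := sq_one b2 (by omega)
  obtain ⟨c, hc, c1, c2⟩ := ex_l (n := n) (B := B) (l := [b, a]) (by simpa using b1)
    (by simp [ha, hb]) (by simp [h, h1, b3])
  simp only [List.mem_cons, List.not_mem_nil, or_false, not_or] at b1 c1
  have l3 := le_l (n := n) (B := B) (l := [c, b, a]) (by simp [b1, c1]) (by simp [ha, hb, hc])
  simp only [List.map_cons, List.sum_cons, List.map_nil, List.sum_nil, h, h1, b3] at l3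
  have c3 := sq_one c2 (by omega)
  exact ⟨b, hb, c, hc, b1, c1.2, c1.1, b3, c3, fun x hx e1 e2 e3 =>
    eq_l (l := [c, b, a]) (by simp [b1, c1]) (by simp [ha, hb, hc]) (by simp [h, h1, b3, c3]) x hx
      (by simp [e1, e2, e3])⟩

theorem pm {x : ℤ} (h : x * x = 1) : x = 1 ∨ x = -1 := mul_self_eq_one_iff.1 h

theorem tri {x : ℤ} (h : x * x ≤ 3) : x = 1 ∨ x = 0 ∨ x = -1 := by
  have : -2 < x := by nlinarith
  have : x < 2 := by nlinarith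
  omega

theorem ar1 {e f x y : ℤ} (he : e * e = 1) (hf : f * f = 1) (hx : x * x ≤ 3) (hy : y * y ≤ 3)
    (h : e * x + f * y = 1) : x = e ∧ y = 0 ∨ x = 0 ∧ y = f := by
  rcases pm he with rfl | rfl <;> rcases pm hf with rfl | rfl <;> have := tri hx <;>
    have := tri hy <;> omega

theorem ar2 {e f g k a x y u v t : ℤ} (he : e * e = 1) (hf : f * f = 1) (hg : g * g = 1)
    (hk : k * k = 1) (ha : a * a = 1) (h : x * x + (y * y + (u * u + (v * v + t * t))) ≤ 2)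
    (h1 : e * x + f * y = 0) (h2 : e * x + (g * u + k * v) = 0)
    (h3 : e * x + (g * u + a * t) = 1) :
    x = 0 ∧ y = 0 ∧ (u = 0 ∧ v = 0 ∧ t = a ∨ u = g ∧ v = -k) := by
  have x0 := mul_self_nonneg x
  have y0 := mul_self_nonneg y
  have u0 := mul_self_nonneg u
  have v0 := mul_self_nonneg v
  have t0 := mul_self_nonneg t
  have hx := tri (x := x) (by omega)
  have hy := tri (x := y) (by omega)
  have hu := tri (x := u) (by omega)
  have hv := tri (x := v) (by omega)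
  have ht := tri (x := t) (by omega)
  clear x0 y0 u0 v0 t0
  rcases pm he with rfl | rfl <;> rcases pm hf with rfl | rfl <;> rcases pm hg with rfl | rfl <;>
    rcases pm hk with rfl | rfl <;> rcases pm ha with rfl | rfl <;>
    rcases hx with rfl | rfl | rfl <;> rcases hy with rfl | rfl | rfl <;>
    (try omega) <;> rcases hu with rfl | rfl | rfl <;> rcases hv with rfl | rfl | rfl <;>
    (try omega) <;> rcases ht with rfl | rfl | rfl <;> omega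

theorem pattern {o : ι} (ho : o ∈ B) {n1 n2 n3 n4 n5 : ι → ℤ} (o1 : n1 o = 0) (o2 : n2 o = 0)
    (o3 : n3 o = 1) (o4 : n4 o = 0) (o5 : n5 o = 1)
    (g11 : ∑ x ∈ B, n1 x * n1 x = 2) (g22 : ∑ x ∈ B, n2 x * n2 x = 2)
    (g33 : ∑ x ∈ B, n3 x * n3 x = 3) (g44 : ∑ x ∈ B, n4 x * n4 x = 3)
    (g55 : ∑ x ∈ B, n5 x * n5 x = 4) (g12 : ∑ x ∈ B, n1 x * n2 x = 1)
    (g31 : ∑ x ∈ B, n3 x * n1 x = 0) (g32 : ∑ x ∈ B, n3 x * n2 x = 0)
    (g41 : ∑ x ∈ B, n4 x * n1 x = 0) (g42 : ∑ x ∈ B, n4 x * n2 x = 0)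
    (g51 : ∑ x ∈ B, n5 x * n1 x = 1) (g52 : ∑ x ∈ B, n5 x * n2 x = 1)
    (g34 : ∑ x ∈ B, n3 x * n4 x = 1) (g35 : ∑ x ∈ B, n3 x * n5 x = 2)
    (g45 : ∑ x ∈ B, n4 x * n5 x = 2) :
    ∃ E ∈ B, ∃ F ∈ B, ∃ G ∈ B, ∃ K ∈ B, ∃ A ∈ B, ∃ e f g k a : ℤ, e * e = 1 ∧ f * f = 1 ∧
      g * g = 1 ∧ k * k = 1 ∧ a * a = 1 ∧
      (n1 E = 0 ∧ n2 E = 0 ∧ n3 E = e ∧ n4 E = e ∧ n5 E = e) ∧
      (n1 F = 0 ∧ n2 F = 0 ∧ n3 F = f ∧ n4 F = 0 ∧ n5 F = 0) ∧
      (n1 G = 0 ∧ n2 G = 0 ∧ n3 G = 0 ∧ n4 G = g ∧ n5 G = g) ∧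
      (n1 K = 0 ∧ n2 K = 0 ∧ n3 K = 0 ∧ n4 K = k ∧ n5 K = 0) ∧
      (n1 A = a ∧ n2 A = a ∧ n3 A = 0 ∧ n4 A = 0 ∧ n5 A = a) ∧ ∀ Φ : ι → ℂ,
      ∑ x ∈ B, n3 x * Φ x = Φ o + e * Φ E + f * Φ F ∧
      ∑ x ∈ B, n4 x * Φ x = e * Φ E + g * Φ G + k * Φ K ∧
      ∑ x ∈ B, n5 x * Φ x = Φ o + e * Φ E + g * Φ G + a * Φ A := by
  have b4 : ∀ x ∈ B, n4 x * n4 x ≤ 3 := fun x hx => by
    simpa [g44] using le_l (n := n4) (B := B) (l := [x]) (by simp) (by simpa)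
  have S3 : ∀ (m : ι → ℤ) {a b c : ι}, a ∈ B → b ∈ B → c ∈ B → b ≠ a → c ≠ a → c ≠ b →
      (∀ x ∈ B, x ≠ a → x ≠ b → x ≠ c → m x = 0) →
      (∀ Φ : ι → ℤ, ∑ x ∈ B, m x * Φ x = m a * Φ a + (m b * Φ b + m c * Φ c)) ∧
      ∀ Φ : ι → ℂ, ∑ x ∈ B, m x * Φ x = m a * Φ a + (m b * Φ b + m c * Φ c) :=
    fun m a b c ha hb hc e1 e2 e3 h => by
      constructor <;> intro Φ <;>
      simpa using sum_l (n := m) (B := B) (l := [a, b, c]) (by simp [e1.symm, e2.symm, e3.symm])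
        (by simp [ha, hb, hc]) (fun x hx h' => by
          simp only [List.mem_cons, List.not_mem_nil, or_false, not_or] at h'
          exact h x hx h'.1 h'.2.1 h'.2.2) Φ
  obtain ⟨E, hE, F, hF, Eo, Fo, FE, E3, F3, z3, E4, F4⟩ : ∃ b ∈ B, ∃ c ∈ B, b ≠ o ∧ c ≠ o ∧ c ≠ b ∧
      n3 b * n3 b = 1 ∧ n3 c * n3 c = 1 ∧ (∀ x ∈ B, x ≠ o → x ≠ b → x ≠ c → n3 x = 0) ∧
      n4 b = n3 b ∧ n4 c = 0 := by
    obtain ⟨b, hb, c, hc, h1, h2, h3, h4, h5, h6⟩ := supp3 ho (by rw [o3, one_mul]) g33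
    have := (S3 n3 ho hb hc h1 h2 h3 h6).1 n4
    rw [g34, o4, mul_zero, zero_add] at this
    rcases ar1 h4 h5 (b4 b hb) (b4 c hc) this.symm with h | h
    · exact ⟨b, hb, c, hc, h1, h2, h3, h4, h5, h6, h⟩
    · exact ⟨c, hc, b, hb, h2, h1, h3.symm, h5, h4, fun x hx e1 e2 e3 => h6 x hx e1 e3 e2, h.symm⟩
  obtain ⟨s3, s3'⟩ := S3 n3 ho hE hF Eo Fo FE z3
  have ne0 : ∀ {m : ι → ℤ} {x y : ι}, m x * m x = 1 → m y = 0 → x ≠ y := fun h1 h2 e => by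
    rw [e, h2] at h1; omega
  have t3 := s3 n5
  rw [g35, o3, o5] at t3
  obtain ⟨G, hG, K, hK, GE, KE, KG, G4, K4, z4, E5, F5, G5, K5⟩ : ∃ b ∈ B, ∃ c ∈ B, b ≠ E ∧ c ≠ E ∧
      c ≠ b ∧ n4 b * n4 b = 1 ∧ n4 c * n4 c = 1 ∧ (∀ x ∈ B, x ≠ E → x ≠ b → x ≠ c → n4 x = 0) ∧
      n5 E = n3 E ∧ n5 F = 0 ∧ n5 b = n4 b ∧ n5 c = 0 := by
    obtain ⟨b, hb, c, hc, h1, h2, h3, h4, h5, h6⟩ := supp3 hE (by rw [E4, E3]) g44
    have s4 := (S3 n4 hE hb hc h1 h2 h3 h6).1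
    have t4 := s4 n5
    rw [g45, E4] at t4
    have nd : [o, E, F, b, c].Nodup := by
      simp [Eo.symm, Fo.symm, FE.symm, h1.symm, h2.symm, h3.symm, (ne0 h4 o4).symm,
        (ne0 h5 o4).symm, (ne0 h4 F4).symm, (ne0 h5 F4).symm]
    have l5 := le_l (n := n5) (B := B) nd (by simp [ho, hE, hF, hb, hc])
    simp only [List.map_cons, List.sum_cons, List.map_nil, List.sum_nil, g55, o5] at l5
    have p1 := mul_self_nonneg (n5 E)
    have p2 := mul_self_nonneg (n5 F)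
    have p3 := mul_self_nonneg (n5 b)
    have p4 := mul_self_nonneg (n5 c)
    rcases ar1 (x := n5 E) (y := n5 F) E3 F3 (by omega) (by omega) (by omega) with h | h
    · rw [h.1, E3] at t4
      rcases ar1 (x := n5 b) (y := n5 c) h4 h5 (by omega) (by omega) (by omega) with h' | h'
      · exact ⟨b, hb, c, hc, h1, h2, h3, h4, h5, h6, h.1, h.2, h'⟩
      · exact ⟨c, hc, b, hb, h2, h1, h3.symm, h5, h4, fun x hx e1 e2 e3 => h6 x hx e1 e3 e2, h.1,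
          h.2, h'.symm⟩
    · exfalso
      have q : n5 b = n4 b ∧ n5 c = n4 c := by
        rw [h.1] at t4
        have a1 := tri (x := n5 b) (by omega)
        have a2 := tri (x := n5 c) (by omega)
        rcases pm h4 with e1 | e1 <;> rcases pm h5 with e2 | e2 <;> rw [e1, e2] at t4 ⊢ <;> omega
      have s5 := sum_l (n := n5) (B := B) nd (by simp [ho, hE, hF, hb, hc])
        (eq_l nd (by simp [ho, hE, hF, hb, hc]) (by simp [g55, o5, h, q, F3, h4, h5])) n1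
      have a3 := s3 n1
      have a4 := s4 n1
      simp only [Int.cast_id, List.map_cons, List.sum_cons, List.map_nil, List.sum_nil, g51, o1,
        h.1, h.2, q.1, q.2] at s5
      rw [g31, o1] at a3
      rw [g41, E4] at a4
      omega
  obtain ⟨s4, s4'⟩ := S3 n4 hE hG hK GE KE KG z4
  have Go := ne0 G4 o4
  have Ko := ne0 K4 o4
  have G3 := z3 G hG Go GE (ne0 G4 F4)
  have K3 := z3 K hK Ko KE (ne0 K4 F4)
  have nd : [o, E, G].Nodup := by simp [Eo.symm, Go.symm, GE.symm]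
  obtain ⟨A, hA, A0, A1⟩ := ex_l (n := n5) (B := B) nd (by simp [ho, hE, hG])
    (by simp [g55, o5, E5, G5, E3, G4])
  have nd' : [A, o, E, G].Nodup := List.nodup_cons.2 ⟨A0, nd⟩
  have hl : ∀ x ∈ [A, o, E, G], x ∈ B := by simp [ho, hE, hG, hA]
  simp only [List.mem_cons, List.not_mem_nil, or_false, not_or] at A0
  have l5 := le_l (n := n5) nd' hl
  simp only [List.map_cons, List.sum_cons, List.map_nil, List.sum_nil, g55, o5, E5, G5, E3, G4] at l5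
  have A5 := sq_one A1 (by omega)
  have z5 := eq_l (n := n5) nd' hl (by simp [g55, o5, E5, G5, E3, G4, A5])
  have A3 := z3 A hA A0.1 A0.2.1 (ne0 A5 F5)
  have A4 := z4 A hA A0.2.1 A0.2.2 (ne0 A5 K5)
  have nd5 : [E, F, G, K, A].Nodup := by
    simp [FE.symm, GE.symm, KE.symm, KG.symm, (ne0 G4 F4).symm, (ne0 K4 F4).symm,
      (ne0 A5 F5).symm, (ne0 A5 K5).symm, Ne.symm A0.2.1, Ne.symm A0.2.2]
  have key : ∀ m : ι → ℤ, m o = 0 → ∑ x ∈ B, m x * m x = 2 → ∑ x ∈ B, n3 x * m x = 0 →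
      ∑ x ∈ B, n4 x * m x = 0 → ∑ x ∈ B, n5 x * m x = 1 → m E = 0 ∧ m F = 0 ∧
      (m G = 0 ∧ m K = 0 ∧ m A = n5 A ∨ m G = n4 G ∧ m K = -n4 K) := fun m a0 a1 a2 a3 a4 => by
    have l := le_l (n := m) (B := B) nd5 (by simp [hE, hF, hG, hK, hA])
    have a5 := sum_l nd' hl z5 m
    rw [s3, a0] at a2
    rw [s4, E4] at a3
    simp only [Int.cast_id, List.map_cons, List.sum_cons, List.map_nil, List.sum_nil, a1, a4, a0,
      E5, G5, add_zero] at l a5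
    exact ar2 E3 F3 G4 K4 A5 l (by omega) a3 (by omega)
  have key2 : ∀ m m' : ι → ℤ, ∑ x ∈ B, m x * m x = 2 → ∑ x ∈ B, m x * m' x = 1 →
      m G = n4 G ∧ m K = -n4 K →
      ¬ (m' G = 0 ∧ m' K = 0 ∧ m' A = n5 A ∨ m' G = n4 G ∧ m' K = -n4 K) := fun m m' a1 a2 a3 a4 => by
    have nd2 : [G, K].Nodup := by simp [KG.symm]
    have a5 := sum_l (n := m) (B := B) nd2 (by simp [hG, hK])
      (eq_l nd2 (by simp [hG, hK]) (by simp [a1, a3, G4, K4])) m'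
    simp only [Int.cast_id, List.map_cons, List.sum_cons, List.map_nil, List.sum_nil, a2, a3] at a5
    rcases a4 with a4 | a4 <;> simp [a4, G4, K4] at a5
  obtain ⟨E1, F1, r1⟩ := key n1 o1 g11 g31 g41 g51
  obtain ⟨E2, F2, r2⟩ := key n2 o2 g22 g32 g42 g52
  have q1 := r1.resolve_right fun e => key2 n1 n2 g11 g12 e r2
  have q2 := r2.resolve_right fun e => key2 n2 n1 g22 (by simpa only [mul_comm] using g12) e r1
  refine ⟨E, hE, F, hF, G, hG, K, hK, A, hA, n3 E, n3 F, n4 G, n4 K, n5 A, E3, F3, G4, K4, A5,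
    ⟨E1, E2, rfl, E4, E5⟩, ⟨F1, F2, rfl, F4, F5⟩, ⟨q1.1, q2.1, G3, rfl, G5⟩,
    ⟨q1.2.1, q2.2.1, K3, rfl, K5⟩, ⟨q1.2.2, q2.2.2, A3, A4, rfl⟩, fun Φ => ⟨?_, ?_, ?_⟩⟩
  · rw [s3', o3]; push_cast; ring
  · rw [s4', E4]; ring
  · rw [sum_l nd' hl z5]; simp [o5, E5, G5]; ring

theorem numer {e f g k a : ℤ} (e0 : e ≠ 0) (f0 : f ≠ 0) (g0 : g ≠ 0) (k0 : k ≠ 0) (g1 : g ≠ 1)
    (a2 : a ≠ 2) (a8 : a % 8 = 2) (h1 : 1 + e + f = 0) (h2 : e + g + k = 0)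
    (h3 : 1 + e + g + a = 0) (h4 : (1 + 9 / f : ℂ) = 1 / g + 9 / k) :
    a = 10 ∧ e = 44 ∨ a = 26 ∧ e = 12 := by
  have h5 : (f + 9) * g * k = f * (k + 9 * g) := by
    have f1 : (f : ℂ) ≠ 0 := Int.cast_ne_zero.2 f0
    have g1 : (g : ℂ) ≠ 0 := Int.cast_ne_zero.2 g0
    have k1 : (k : ℂ) ≠ 0 := Int.cast_ne_zero.2 k0
    field_simp at h4
    exact_mod_cast h4
  obtain rfl : f = -1 - e := by omega
  obtain rfl : g = -1 - e - a := by omega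
  obtain rfl : k = 1 + a := by omega
  have h6 : (2 + e + a) * ((e - 8) * (a - 8) - 72) = 0 := by linear_combination h5
  have h7 : (e - 8) * (a - 8) = 72 := by
    have := (mul_eq_zero.1 h6).resolve_left (by omega)
    omega
  have h8 : a - 8 ∣ 72 := Dvd.intro_left _ h7
  have h9 := Int.le_of_dvd (by norm_num) h8
  have h10 := Int.le_of_dvd (by norm_num) (neg_dvd.2 h8)
  clear h8 h4 h5 h6
  obtain ⟨c, rfl⟩ : ∃ c, a = 8 * c + 2 := ⟨a / 8, by omega⟩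
  have : -10 < c := by omega
  have : c < 10 := by omega
  interval_cases c <;> omega

end Z6
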