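import Cfsg.Agent.Z6.Av
import Cfsg.Agent.Z6.Pt

/-! The order of the group. -/

set_option autoImplicit false
set_option linter.unusedVariables false
set_option linter.unusedSectionVars false

namespace Z6

open Cfsg Subgroup H8 L GW
open H9 (glI glJ glU glT card_GL23)
open FT (Cen1)
open scoped ComplexConjugate Classical

universe u

section X

variable {φ : GL23 → ℂ} (hφ : IsCharacter GL23 φ)
include hφ

theorem f8 {ω : ℂ} (hω : ω ^ 8 = 1) : ∃ m : ℕ, φ 1 + φ g8 * (ω + ω ^ 3) + φ glI * (ω ^ 2 + ω ^ 6) +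
    φ (glI ^ 2) * ω ^ 4 + φ g8⁻¹ * (ω ^ 5 + ω ^ 7) = 8 * m := by
  obtain ⟨a1, a2, a3, a4, a5, a6, a7, -⟩ := x_rel
  obtain ⟨m, hm⟩ := four hφ a7 hω
  simp only [Finset.sum_range_succ, Finset.range_zero, Finset.sum_empty, pow_zero, pow_one,
    a1, a2, a3, a4, a5, a6, char_isClassFunction hφ _ glT] at hm
  exact ⟨m, by linear_combination hm⟩

theorem f6 {ω : ℂ} (hω : ω ^ 6 = 1) : ∃ m : ℕ, φ 1 + φ y6 * (ω + ω ^ 5) + φ glU * (ω ^ 2 + ω ^ 4) +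
    φ (glI ^ 2) * ω ^ 3 = 6 * m := by
  obtain ⟨-, -, -, -, -, -, -, a1, a2, a3, a4, a5, -⟩ := x_rel
  obtain ⟨m, hm⟩ := four hφ a5 hω
  simp only [Finset.sum_range_succ, Finset.range_zero, Finset.sum_empty, pow_zero, pow_one,
    a1, a2, a3, a4, char_isClassFunction hφ _ glT] at hm
  exact ⟨m, by linear_combination hm⟩

theorem f4 : ∃ m : ℕ, φ 1 - φ (glI ^ 2) = 4 * m := by
  obtain ⟨-, -, -, -, -, -, -, -, -, -, -, -, a1, a2, -⟩ := x_rel
  obtain ⟨m, hm⟩ := four hφ a2 Complex.I_pow_four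
  simp only [Finset.sum_range_succ, Finset.range_zero, Finset.sum_empty, pow_zero, pow_one,
    a1, char_isClassFunction hφ _ glT, Complex.I_sq, Complex.I_pow_three] at hm
  exact ⟨m, by linear_combination hm⟩

omit hφ in
/-- the coefficients -/
noncomputable def UU (δ : ℂ) : Fin 5 → Fin 5 → ℂ :=
  ![![1 / 12, 1 / 4, -1 / 3, δ / 8, -δ / 8], ![1 / 12, 1 / 4, -1 / 3, -δ / 8, δ / 8],
    ![1 / 6, 0, 1 / 3, 1 / 4, 1 / 4], ![1 / 6, 0, 1 / 3, -1 / 4, -1 / 4], ![1 / 6, 1 / 2, 1 / 3, 0, 0]]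

theorem ints {ζ : ℂ} (hζ : ζ ^ 4 = -1) (k : Fin 5) :
    ∃ n : ℤ, (n : ℂ) = ∑ i, UU (ζ + ζ ^ 3) k i * φ (R5 i) := by
  obtain ⟨ω, hω⟩ := exists_w3
  obtain ⟨m0, a0⟩ := f8 hφ (ω := 1) (by norm_num)
  obtain ⟨m4, a4⟩ := f8 hφ (ω := -1) (by norm_num)
  obtain ⟨m2, a2⟩ := f8 hφ (ω := Complex.I) (by rw [show 8 = 4 * 2 from rfl, pow_mul]; simp)
  obtain ⟨m5, a5⟩ := f8 hφ (ω := ζ) (by linear_combination (ζ ^ 4 - 1) * hζ)
  obtain ⟨m1, a1⟩ := f8 hφ (ω := -ζ) (by linear_combination (ζ ^ 4 - 1) * hζ)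
  obtain ⟨u0, b0⟩ := f6 hφ (ω := 1) (by norm_num)
  obtain ⟨u2, b2⟩ := f6 hφ (ω := ω) (by linear_combination (ω ^ 4 - ω ^ 3 + ω - 1) * hω)
  obtain ⟨u1, b1⟩ := f6 hφ (ω := -ω) (by linear_combination (ω ^ 4 - ω ^ 3 + ω - 1) * hω)
  have c2 : φ 1 + φ (glI ^ 2) - 2 * φ glI = 8 * m2 := by
    have := Complex.I_sq
    linear_combination a2 - (φ g8 * Complex.I + φ glI * (Complex.I ^ 4 - Complex.I ^ 2 + 2) +
      φ (glI ^ 2) * (Complex.I ^ 2 - 1) + φ g8⁻¹ * Complex.I ^ 5) * this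
  have c5 : φ 1 - φ (glI ^ 2) + (ζ + ζ ^ 3) * (φ g8 - φ g8⁻¹) = 8 * m5 := by
    linear_combination a5 - (φ glI * ζ ^ 2 + φ (glI ^ 2) + φ g8⁻¹ * (ζ + ζ ^ 3)) * hζ
  have c1 : φ 1 - φ (glI ^ 2) - (ζ + ζ ^ 3) * (φ g8 - φ g8⁻¹) = 8 * m1 := by
    linear_combination a1 - (φ glI * ζ ^ 2 + φ (glI ^ 2) - φ g8⁻¹ * (ζ + ζ ^ 3)) * hζ
  have d2 : φ 1 + φ (glI ^ 2) - φ glU - φ y6 = 6 * u2 := by
    linear_combination b2 - (φ y6 * (ω ^ 3 - ω ^ 2 + 1) + φ glU * (ω ^ 2 - ω + 1) +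
      φ (glI ^ 2) * (ω - 1)) * hω
  have d1 : φ 1 - φ (glI ^ 2) - φ glU + φ y6 = 6 * u1 := by
    linear_combination b1 - (-φ y6 * (ω ^ 3 - ω ^ 2 + 1) + φ glU * (ω ^ 2 - ω + 1) -
      φ (glI ^ 2) * (ω - 1)) * hω
  fin_cases k
  · exact ⟨u2 - u1 - m2 + m5, by
      simp [UU, R5, Fin.sum_univ_five]; linear_combination -d2 / 6 + d1 / 6 + c2 / 8 - c5 / 8⟩
  · exact ⟨u2 - u1 - m2 + m1, by
      simp [UU, R5, Fin.sum_univ_five]; linear_combination -d2 / 6 + d1 / 6 + c2 / 8 - c1 / 8⟩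
  · exact ⟨u0 + u1 + u2 - m2 - m1 - m5 - m4, by
      simp [UU, R5, Fin.sum_univ_five]
      linear_combination -b0 / 6 - d2 / 6 - d1 / 6 + c2 / 8 + c1 / 8 + c5 / 8 + a4 / 8⟩
  · exact ⟨u0 + u1 + u2 - m2 - m1 - m5 - m0, by
      simp [UU, R5, Fin.sum_univ_five]
      linear_combination -b0 / 6 - d2 / 6 - d1 / 6 + c2 / 8 + c1 / 8 + c5 / 8 + a0 / 8⟩
  · exact ⟨u0 + u1 + u2 - 2 * m2 - m1 - m5, by
      simp [UU, R5, Fin.sum_univ_five]
      linear_combination -b0 / 6 - d2 / 6 - d1 / 6 + c2 / 4 + c1 / 8 + c5 / 8⟩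

end X

theorem nr8 : ∀ p, wd p * g8 ≠ g8⁻¹ * wd p := by decide +kernel

/-- the Gram matrix -/
def GM : Fin 5 → Fin 5 → ℤ :=
  ![![2, 1, 0, 0, 1], ![1, 2, 0, 0, 1], ![0, 0, 3, 1, 2], ![0, 0, 1, 3, 2], ![1, 1, 2, 2, 4]]

theorem gm_eq {δ : ℂ} (hδ : δ ^ 2 = -2) (k l : Fin 5) :
    ∑ i, UU δ k i * ∑ j, UU δ l j * tb i j = GM k l := by
  fin_cases k <;> fin_cases l <;> simp [UU, GM, tb, Fin.sum_univ_five] <;>
    first | linear_combination -hδ / 4 | linear_combination hδ / 4 | ring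

variable {G : Type u} [Group G] [Fintype G] {z : G} {ψ : GL23 →* G} {O : Subgroup G}

theorem sum_lin {B : Finset (IrrCharacter G)} {n : IrrCharacter G → ℂ} {u : Fin 5 → ℂ}
    (hn : ∀ χ, n χ = ∑ i, u i * χ.1 (ψ (R5 i))) (f : IrrCharacter G → ℂ) :
    ∑ χ ∈ B, n χ * f χ = ∑ i, u i * ∑ χ ∈ B, f χ * χ.1 (ψ (R5 i)) := by
  simp only [hn, Finset.sum_mul, Finset.mul_sum]
  rw [Finset.sum_comm]
  exact Finset.sum_congr rfl fun i _ => Finset.sum_congr rfl fun χ _ => by ring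

theorem pair_sum (z g : G) :
    (Nat.card {p : G × G // IsConj z p.1 ∧ IsConj z p.2 ∧ p.1 * p.2 = g⁻¹} : ℂ) =
      (Nat.card {y : G // IsConj z y} : ℂ) ^ 2 / Nat.card G *
        ∑ χ : IrrCharacter G, χ.1 z ^ 2 / χ.1 1 * χ.1 g := by
  rw [card_pairs_mul_eq, sq]
  congr 1
  exact Finset.sum_congr rfl fun χ _ => by rw [irr_conj_eq, inv_inv]; ring

theorem cl_ne (z : G) : (Nat.card {y : G // IsConj z y} : ℂ) ≠ 0 := by
  have : Nonempty {y : G // IsConj z y} := ⟨⟨z, IsConj.refl z⟩⟩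
  exact Nat.cast_ne_zero.mpr Nat.card_pos.ne'

theorem T_zero (hz : orderOf z = 2) {u : G} (hu : PElt 2 u) (h : ∀ a, a * u * a⁻¹ ≠ u⁻¹) :
    ∑ χ ∈ B0 2 G, χ.1 z ^ 2 / χ.1 1 * χ.1 u = 0 := by
  have := B0_sum_eq_zero (fun χ => χ.1 z ^ 2 / χ.1 1) hu (fun x hx c => ?_) Reg_one
    (Commute.one_right u)
  · simpa using this
  have e := pair_sum z (u * x)
  have : IsEmpty {p : G × G // IsConj z p.1 ∧ IsConj z p.2 ∧ p.1 * p.2 = (u * x)⁻¹} := by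
    refine ⟨fun ⟨⟨a, b⟩, h1, h2, h3⟩ => h a ?_⟩
    obtain ⟨c1, rfl⟩ := isConj_iff.1 h1
    obtain ⟨c2, rfl⟩ := isConj_iff.1 h2
    have a1 := iinv (iconj hz c1)
    have a2 := iinv (iconj hz c2)
    generalize c1 * z * c1⁻¹ = a at *
    generalize c2 * z * c2⁻¹ = b at *
    refine ppart_unique (hu.conj a) ((Reg_conj a).2 hx) (c.conj a) hu.inv (Reg_inv.2 hx) c.inv_inv ?_
    have e1 : u * x = b * a := by rw [← inv_inv (u * x), ← h3, mul_inv_rev, a1, a2]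
    rw [conj_mul, e1, ← mul_inv_rev, ← c.eq, ← h3]; group
  rw [Nat.card_of_isEmpty, Nat.cast_zero] at e
  exact (mul_eq_zero.1 e.symm).resolve_left
    (div_ne_zero (pow_ne_zero _ (cl_ne z)) card_ne_zero_complex)

namespace GS

variable (h : GS z ψ O)
include h

theorem BB5 (i j : Fin 5) : ∑ χ ∈ B0 2 G, χ.1 (ψ (R5 i)) * χ.1 (ψ (R5 j)) = tb i j := by
  obtain ⟨m, hm, -⟩ := R5_pow i
  obtain ⟨n, -, hn⟩ := R5_pow j
  rw [h.BB hm hn, card_wd, ← R5_cnt]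

theorem deg0 (i : Fin 5) : ∑ χ ∈ B0 2 G, χ.1 1 * χ.1 (ψ (R5 i)) = 0 := by
  obtain ⟨m, hm, -⟩ := R5_pow i
  rw [← P0_sum_irr, h.P0av (class_sum_irr _) hm, av, Finset.sum_eq_zero, mul_zero]
  intro o _
  refine (Finset.sum_congr rfl fun χ _ => mul_comm _ _).trans
    (sum_irr_mul_degree_of_ne_one fun e => ine h.oz ?_)
  simpa [e] using h.zmem hm o.2

theorem T34 : ∑ χ ∈ B0 2 G, χ.1 z ^ 2 / χ.1 1 * χ.1 (ψ g8) = 0 ∧
    ∑ χ ∈ B0 2 G, χ.1 z ^ 2 / χ.1 1 * χ.1 (ψ g8⁻¹) = 0 := by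
  have p : PElt 2 (ψ g8) := ⟨3, by rw [← map_pow, show 2 ^ 3 = 8 from rfl, x_rel.2.2.2.2.2.2.1, map_one]⟩
  have k : ∀ a, a * ψ g8 * a⁻¹ ≠ (ψ g8)⁻¹ := fun a e => by
    have e1 : ψ g8 ^ 4 = z := by rw [← map_pow, x_rel.2.2.1, h.hz]
    have ha : a ∈ Cen1 z := c1.2 (mul_inv_eq_iff_eq_mul.1 (by
      rw [← e1, ← conj_pow, e, inv_pow, e1, iinv h.oz]))
    obtain ⟨q, hq⟩ := wd_surj (h.pi ⟨a, ha⟩)
    refine nr8 q ?_
    rw [hq, ← h.pi_sg g8, ← map_inv, ← map_mul, ← map_mul]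
    exact congrArg _ (Subtype.ext (mul_inv_eq_iff_eq_mul.1 e))
  refine ⟨T_zero h.oz p k, ?_⟩
  rw [map_inv]
  exact T_zero h.oz p.inv fun a e => k a (by rw [← inv_inj, ← e]; group)

theorem avU {χ : G → ℂ} (hχ : IsClassFunction G χ) : av O χ (ψ glU) = χ (ψ glU) := by
  have n := h.nor (h.mem glU)
  have inj : Function.Injective fun o : O =>
      (⟨_, mul_mem (cmem' n o.2) (inv_mem o.2)⟩ : O) := fun a b e => by
    have e1 : (ψ glU)⁻¹ * a * ψ glU * (a : G)⁻¹ = (ψ glU)⁻¹ * b * ψ glU * (b : G)⁻¹ :=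
      congrArg Subtype.val e
    have := h.fpf _ (mul_mem (inv_mem b.2) a.2) (c1.2 (by
      rw [show (b : G)⁻¹ * a * ψ glU = (b : G)⁻¹ * ψ glU * ((ψ glU)⁻¹ * a * ψ glU * (a : G)⁻¹) * a by
        group, e1]; group))
    exact Subtype.ext (inv_mul_eq_one.1 this).symm
  have e : ∀ o : O, χ (ψ glU * o) = χ (ψ glU) := fun o => by
    obtain ⟨a, rfl⟩ := Finite.surjective_of_injective inj o
    rw [← hχ (ψ glU) a]
    congr 1
    simp [mul_assoc]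
  simp only [av, e, Finset.sum_const, Finset.card_univ, nsmul_eq_mul, ← Nat.card_eq_fintype_card]
  exact inv_mul_cancel_left₀ h.O0 _

theorem kill [IsSimpleGroup G] (hG : ¬ IsMulCommutative G) {χ : IrrCharacter G} (hχ : χ ∈ B0 2 G)
    (h1 : χ ≠ triv G) (hd : deg χ = 10 ∨ deg χ = 12 ∧ χ.1 z = 4) : O = ⊥ := by
  have hc := irr_isCharacter χ.2
  have hcl := irr_class χ
  have a1 := h.avchar hc
  have a2 := char_comp hc ψ
  obtain ⟨K, hK⟩ := char_apply_one a1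
  obtain ⟨m1, e1⟩ := f4 a1
  obtain ⟨m2, e2⟩ := f4 a2
  obtain ⟨m3, e3⟩ := f6 a1 (ω := -1) (by norm_num)
  obtain ⟨m4, e4⟩ := f6 a2 (ω := -1) (by norm_num)
  have v1 := h.P0av hcl (pow_one (glI ^ 2))
  have v2 := h.P0av hcl x_rel.2.2.2.2.2.2.2.2.1
  rw [P0_irr hχ] at v1 v2
  simp only [hK, ← v1, ← v2, h.avU hcl] at e1 e3
  simp only [map_one, deg_eq] at e2 e4
  have b1 : (deg χ : ℤ) - K = 4 * (m2 - m1) := by
    have : (deg χ : ℂ) - K = 4 * (m2 - m1) := by linear_combination e2 - e1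
    exact_mod_cast this
  have b2 : (deg χ : ℤ) - K = 6 * (m4 - m3) := by
    have : (deg χ : ℂ) - K = 6 * (m4 - m3) := by linear_combination e4 - e3
    exact_mod_cast this
  have b3 : deg χ ≤ K := by
    rcases hd with hd | ⟨hd, h4⟩
    · omega
    · have : (K : ℂ) = 4 + 4 * m1 := by rw [h.hz, h4] at e1; linear_combination e1
      have : K = 4 + 4 * m1 := by exact_mod_cast this
      omega
  by_contra hO
  obtain ⟨o, ho⟩ := ne_bot_iff_exists_ne_one.1 hO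
  have b4 : ∑ o : O, χ.1 o = Nat.card O * K := by
    rw [← hK]; simp only [av, map_one, one_mul]; rw [mul_inv_cancel_left₀ h.O0]
  have b5 : ∑ o : O, ‖χ.1 o‖ < ∑ o : O, ‖χ.1 1‖ :=
    Finset.sum_lt_sum (fun o _ => char_norm_le hc _) ⟨o, Finset.mem_univ _,
      lt_of_le_of_ne (char_norm_le hc _) fun e => ho (Subtype.ext
        (irr_norm_ne_of_simple hG χ.2 (fun e => h1 (Subtype.ext e)) e))⟩
  have b6 := (norm_sum_le _ _).trans_lt b5
  rw [b4, deg_eq, Finset.sum_const, Finset.card_univ, ← Nat.card_eq_fintype_card, nsmul_eq_mul,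
    ← Nat.cast_mul, Complex.norm_natCast, Complex.norm_natCast, ← Nat.cast_mul, Nat.cast_lt] at b6
  exact absurd (Nat.mul_le_mul_left _ b3) b6.not_ge

end GS

theorem GS.T02 (h : GS z ψ ⊥) (i : Fin 2) :
    ∑ χ ∈ B0 2 G, χ.1 z ^ 2 / χ.1 1 * χ.1 (ψ (R5 (![0, 2] i))) =
      (![12, 6] i : ℕ) * 48 / Nat.card {y : G // IsConj z y} := by
  obtain ⟨m, hm, -⟩ := R5_pow (![0, 2] i)
  rw [← cnt_pairs, ← card_wd fun a => a * a = 1 ∧ a ≠ 1 ∧ a * R5 (![0, 2] i) * (a * R5 (![0, 2] i)) = 1 ∧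
    a * R5 (![0, 2] i) ≠ 1]
  generalize R5 (![0, 2] i) = x at hm
  have e := pair_sum z (ψ x)
  have c : Nat.card G = 48 * Nat.card {y : G // IsConj z y} := by
    rw [← index_centralizer_eq, ← card_mul_index (Cen1 z), h.cardH, card_bot, mul_one]
  have inv : ∀ u : G, IsConj z u ↔ u * u = 1 ∧ u ≠ 1 := fun u =>
    ⟨fun hu => by
      obtain ⟨c, rfl⟩ := isConj_iff.mp hu
      exact ⟨ii (iconj h.oz c), ine (iconj h.oz c)⟩, fun hu => h.one u (o2 hu.1 hu.2)⟩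
  have e2 : Nat.card {a // a * a = 1 ∧ a ≠ 1 ∧ a * x * (a * x) = 1 ∧ a * x ≠ 1} =
      Nat.card {p : G × G // IsConj z p.1 ∧ IsConj z p.2 ∧ p.1 * p.2 = (ψ x)⁻¹} := by
    have k : ∀ a, IsConj z (ψ a) ↔ a * a = 1 ∧ a ≠ 1 := fun a => by
      rw [inv, ← map_mul, ne_eq, map_eq_one_iff _ h.inj, map_eq_one_iff _ h.inj]
    refine Nat.card_congr (Equiv.ofBijective (fun a => ⟨(ψ (a.1 * x), ψ a.1), (k _).2 a.2.2.2,
      (k _).2 ⟨a.2.1, a.2.2.1⟩, ?_⟩) ⟨fun a b e => Subtype.ext (h.inj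
        (congrArg (fun p => p.1.2) e)), fun ⟨⟨a, b⟩, h1, h2, h3⟩ => ?_⟩)
    · exact eq_inv_of_mul_eq_one_left (by
        rw [← map_mul, ← map_mul, mul_assoc, a.2.2.2.1, map_one])
    · have a1 := ((inv _).1 h1).1
      have b1 := ((inv _).1 h2).1
      have e3 : b * ψ x = a := by
        rw [← inv_inv (ψ x), ← h3, mul_inv_rev, inv_eq_of_mul_eq_one_right a1,
          inv_eq_of_mul_eq_one_right b1, ← mul_assoc, b1, one_mul]
      have e4 : b * ψ x * b⁻¹ = (ψ x)⁻¹ := by rw [e3, ← h3, inv_eq_of_mul_eq_one_right b1]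
      have e5 : ψ x ^ m.1 = z := by rw [← map_pow, hm, h.hz]
      obtain ⟨y, o, ho, e6⟩ := h.dec b (c1.2 (mul_inv_eq_iff_eq_mul.1 (by
        rw [← e5, ← conj_pow, e4, inv_pow, e5, iinv h.oz])))
      rw [mem_bot.1 ho, mul_one] at e6
      subst e6 e3
      rw [← map_mul] at h1
      exact ⟨⟨y, ((k _).1 h2).1, ((k _).1 h2).2, (k _).1 h1⟩, Subtype.ext (Prod.ext (map_mul _ _ _) rfl)⟩
  rw [← P0_sum_irr, h.P0av (class_sum_irr _) hm, av, e2, e, c]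
  have := cl_ne z
  have e3 : ∀ o : (⊥ : Subgroup G), (o : G) = 1 := fun o => mem_bot.1 o.2
  simp only [e3, mul_one, Finset.sum_const, Finset.card_univ, ← Nat.card_eq_fintype_card, card_bot,
    one_smul]
  push_cast
  field_simp

theorem GS.main [IsSimpleGroup G] (hG : ¬ IsMulCommutative G) (h : GS z ψ O) :
    O = ⊥ ∧ (Nat.card G = 7920 ∨ Nat.card G = 5616) := by
  obtain ⟨ζ, hζ⟩ := IsAlgClosed.exists_pow_nat_eq (-1 : ℂ) four_pos
  have hδ : (ζ + ζ ^ 3) ^ 2 = -2 := by linear_combination (ζ ^ 2 + 2) * hζ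
  choose n hn using fun (k : Fin 5) (χ : IrrCharacter G) =>
    ints (char_comp (irr_isCharacter χ.2) ψ) hζ k
  have gram : ∀ k l, ∑ χ ∈ B0 2 G, n k χ * n l χ = GM k l := fun k l => by
    have : ((∑ χ ∈ B0 2 G, n k χ * n l χ : ℤ) : ℂ) = GM k l := by
      push_cast
      rw [sum_lin (hn k), ← gm_eq hδ]
      refine Finset.sum_congr rfl fun i _ => ?_
      rw [sum_lin (hn l)]
      simp only [h.BB5]
    exact_mod_cast this
  have tr : ∀ k, n k (triv G) = ![0, 0, 1, 0, 1] k := fun k => by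
    have : (n k (triv G) : ℂ) = (![0, 0, 1, 0, 1] k : ℤ) := by
      rw [hn]
      fin_cases k <;> simp [UU, Fin.sum_univ_five] <;> ring
    exact_mod_cast this
  have va : ∀ χ : IrrCharacter G, χ.1 z = 2 * n 0 χ + 2 * n 1 χ + 3 * n 2 χ + 3 * n 3 χ - 2 * n 4 χ ∧
      χ.1 (ψ glI) = 2 * n 4 χ - n 2 χ - n 3 χ ∧
      χ.1 (ψ g8) + χ.1 (ψ g8⁻¹) = 2 * (n 2 χ - n 3 χ) := fun χ => by
    simp only [hn, ← h.hz]
    simp [UU, R5, Fin.sum_univ_five]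
    refine ⟨?_, ?_, ?_⟩ <;> ring
  obtain ⟨E, hE, F, hF, C, hC, K, hK, A, hA, e, f, g, k, a, e1, f1, g1, k1, a1, rE, rF, rC, rK, rA,
    S⟩ := pattern triv_mem_B0 (tr 0) (tr 1) (tr 2) (tr 3) (tr 4) (gram 0 0) (gram 1 1) (gram 2 2)
      (gram 3 3) (gram 4 4) (gram 0 1) (gram 2 0) (gram 2 1) (gram 3 0) (gram 3 1) (gram 4 0)
      (gram 4 1) (gram 2 3) (gram 2 4) (gram 3 4)
  have D : ∀ k, ∑ χ ∈ B0 2 G, (n k χ : ℂ) * χ.1 1 = 0 := fun k => by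
    rw [sum_lin (hn k)]; simp only [h.deg0, mul_zero, Finset.sum_const_zero]
  obtain ⟨d3, d4, d5⟩ := S fun χ => χ.1 1
  rw [D] at d3 d4 d5
  simp only [deg_eq, triv_apply] at d3 d4 d5
  obtain ⟨t3, t4, -⟩ := S fun χ => χ.1 z ^ 2 / χ.1 1
  have T : ∀ k, ∑ χ ∈ B0 2 G, (n k χ : ℂ) * (χ.1 z ^ 2 / χ.1 1) = _ := fun k => sum_lin (hn k) _
  rw [T] at t3 t4
  have vE : E.1 z = 4 * e := by rw [(va E).1]; simp [rE]; ring
  have vF : F.1 z = 3 * f := by rw [(va F).1]; simp [rF]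
  have vC : C.1 z = g := by rw [(va C).1]; simp [rC]; ring
  have vK : K.1 z = 3 * k := by rw [(va K).1]; simp [rK]
  have vA : A.1 z = 2 * a := by rw [(va A).1]; simp [rA]
  have sg : ∀ (ε : ℤ) (c : ℂ) (χ : IrrCharacter G), ε * ε = 1 →
      ε * ((c * ε) ^ 2 / deg χ) = c ^ 2 / (ε * deg χ : ℤ) := fun ε c χ hε => by
    rcases pm hε with rfl | rfl <;> simp [div_neg]
  have sz : ∀ (ε : ℤ) (χ : IrrCharacter G), ε * ε = 1 → ε * deg χ ≠ 0 := fun ε χ hε => by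
    have := deg_pos χ
    rcases pm hε with rfl | rfl <;> omega
  rw [← one_mul (g : ℂ)] at vC
  simp only [UU, R5, Fin.sum_univ_five, Matrix.cons_val, h.T34, vE, vF, vC, vK, deg_eq E, deg_eq F,
    deg_eq C, deg_eq K, triv_apply, sg _ _ _ e1, sg _ _ _ f1, sg _ _ _ g1, sg _ _ _ k1,
    h.hz] at t3 t4
  have nE : E ≠ triv G := fun e' => by
    have := rE.2.2.2.1; rw [e', tr] at this; simp [← this] at e1
  have nC : C ≠ triv G := fun e' => by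
    have := rC.2.2.2.1; rw [e', tr] at this; simp [← this] at g1
  have nA : A ≠ triv G := fun e' => by
    have := rA.1; rw [e', tr] at this; simp [← this] at a1
  have q3 : 1 + e * deg E + f * deg F = 0 := by exact_mod_cast d3.symm
  have num := numer (sz e E e1) (sz f F f1) (sz g C g1) (sz k K k1) (a := a * deg A) (fun e' => ?_)
    (fun e' => ?_) ?_ q3 (by exact_mod_cast d4.symm) (by exact_mod_cast d5.symm)
    (by linear_combination t4 - t3)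
  rotate_left
  · have : deg C = 1 := by rcases pm g1 with rfl | rfl <;> omega
    refine nC (Subtype.ext (char_eq_one_of_perfect ?_ (irr_isCharacter C.2) (by rw [deg_eq, this]; simp)))
    exact commutator_eq_top_of_simple hG
  · have : deg A = 2 ∧ a = 1 := by rcases pm a1 with rfl | rfl <;> omega
    exact ine h.oz (irr_faithful_of_simple A.2 (fun e => nA (Subtype.ext e))
      (by rw [vA, deg_eq, this.1, this.2]; simp))
  · obtain ⟨m, hm⟩ := f8 (char_comp (irr_isCharacter A.2) ψ) (ω := 1) (by norm_num)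
    obtain ⟨-, v2, v3⟩ := va A
    simp only [rA, map_one, deg_eq, h.hz, vA] at v2 v3 hm
    have : (deg A : ℂ) + 6 * a = 8 * m := by
      push_cast at v2 v3; linear_combination hm - 2 * v2 - 2 * v3
    have : (deg A : ℤ) + 6 * a = 8 * m := by exact_mod_cast this
    rcases pm a1 with rfl | rfl <;> omega
  have hO : O = ⊥ := by
    rcases num with ⟨b1, b2⟩ | ⟨b1, b2⟩
    · exact h.kill hG hA nA (Or.inl (by rcases pm a1 with rfl | rfl <;> omega))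
    · have : deg E = 12 ∧ e = 1 := by rcases pm e1 with rfl | rfl <;> omega
      exact h.kill hG hE nE (Or.inr ⟨this.1, by rw [vE, this.2]; simp⟩)
  refine ⟨hO, ?_⟩
  subst hO
  have c : Nat.card G = 48 * Nat.card {y : G // IsConj z y} := by
    rw [← index_centralizer_eq, ← card_mul_index (Cen1 z), h.cardH, card_bot, mul_one]
  have u0 := h.T02 0
  have u1 := h.T02 1
  simp only [R5, Matrix.cons_val, h.hz] at u0 u1
  rw [u0, u1] at t3
  rw [c]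
  generalize Nat.card {y : G // IsConj z y} = N at t3
  rcases num with ⟨b1, b2⟩ | ⟨b1, b2⟩
  · rw [b2, show f * deg F = -45 by omega] at t3
    have : (N : ℂ) = 165 := inv_injective (by push_cast at t3; linear_combination t3 / 192)
    have : N = 165 := by exact_mod_cast this
    omega
  · rw [b2, show f * deg F = -13 by omega] at t3
    have : (N : ℂ) = 117 := inv_injective (by push_cast at t3; linear_combination t3 / 192)
    have : N = 117 := by exact_mod_cast this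
    omega

end Z6
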