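import Cfsg.Agent.Z6.Tn
import Cfsg.Agent.W.Main
import Cfsg.Agent.J1.Main

/-! Reduction to the case `C(z) / O_{3'}(C(z)) ≅ S₃`. -/

set_option autoImplicit false
set_option linter.unusedVariables false
set_option linter.unusedSectionVars false

namespace Z6

open Cfsg Subgroup FT H4 H5 GW P
open scoped MatrixGroups

universe u

theorem psl_even {F : Type} [Field F] [Fintype F] {n : ℕ} (h : Fintype.card F = 2 ^ n)
    {a b : PSL(2, F)} (ha : orderOf a = 2) (hb : b ∈ Cen1 a) : b * b = 1 := by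
  have : CharP F 2 := charP_of_card_eq_prime_pow h
  have e : center SL(2, F) = ⊥ := by
    rw [center_sl, show (-1 : SL(2, F)) = 1 from Subtype.ext (by
      ext i j; simp [CharTwo.neg_eq]), zpowers_one_eq_bot]
  have inj : Function.Injective (QuotientGroup.mk' (center SL(2, F))) := by
    rw [← MonoidHom.ker_eq_bot_iff, QuotientGroup.ker_mk', e]
  obtain ⟨A, rfl⟩ := QuotientGroup.mk'_surjective _ a
  obtain ⟨B, rfl⟩ := QuotientGroup.mk'_surjective _ b
  have h1 : A * A = 1 := inj (by rw [map_mul, ii ha, map_one])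
  have h2 : A ≠ 1 := fun e => ine ha (by rw [e, map_one])
  have h3 : B * A = A * B := inj (by rw [map_mul, map_mul, c1.1 hb])
  rw [← map_mul, show B * B = 1 from ?_, map_one]
  have t : (2 : F) = 0 := CharTwo.two_eq_zero
  have d := B.det_coe
  have dA := A.det_coe
  rw [Matrix.det_fin_two] at d dA
  have a := fun i j => congrFun (congrFun (congrArg Subtype.val h1) i) j
  have c := fun i j => congrFun (congrFun (congrArg Subtype.val h3) i) j
  have a0 := a 0 0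
  have a1 := a 1 1
  have c1 := c 0 1
  have c2 := c 1 0
  simp only [Matrix.SpecialLinearGroup.coe_mul, Matrix.mul_apply, Fin.sum_univ_two,
    Matrix.SpecialLinearGroup.coe_one, Matrix.one_apply_eq] at a0 a1 c1 c2
  have e1 : A.1 1 1 = A.1 0 0 := by
    have : (A.1 1 1 - A.1 0 0) ^ 2 = 0 := by
      linear_combination a1 - a0 + (A.1 0 0 ^ 2 - A.1 0 0 * A.1 1 1) * t
    exact sub_eq_zero.1 (pow_eq_zero_iff two_ne_zero |>.1 this)
  have e2 : B.1 1 1 = B.1 0 0 := by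
    by_contra hn
    have f1 : A.1 0 1 = 0 := (mul_eq_zero.1 (show A.1 0 1 * (B.1 1 1 - B.1 0 0) = 0 by
      rw [e1] at c1; linear_combination -c1)).resolve_right (sub_ne_zero.2 hn)
    have f2 : A.1 1 0 = 0 := (mul_eq_zero.1 (show A.1 1 0 * (B.1 1 1 - B.1 0 0) = 0 by
      rw [e1] at c2; linear_combination c2)).resolve_right (sub_ne_zero.2 hn)
    have f3 : A.1 0 0 = 1 := by
      have : (A.1 0 0 - 1) ^ 2 = 0 := by
        rw [f1] at a0; linear_combination a0 + (1 - A.1 0 0) * t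
      exact sub_eq_zero.1 (pow_eq_zero_iff two_ne_zero |>.1 this)
    exact h2 (Subtype.ext (by
      ext i j; fin_cases i <;> fin_cases j <;> simp [f1, f2, f3, e1]))
  rw [e2] at d
  refine Subtype.ext ?_
  ext i j
  fin_cases i <;> fin_cases j <;>
    simp [Matrix.SpecialLinearGroup.coe_mul, Matrix.mul_apply, Fin.sum_univ_two, e2]
  · linear_combination d + B.1 0 1 * B.1 1 0 * t
  · linear_combination B.1 0 0 * B.1 0 1 * t
  · linear_combination B.1 0 0 * B.1 1 0 * t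
  · linear_combination d + B.1 0 1 * B.1 1 0 * t

variable {G : Type u} [Group G] [Finite G]

theorem nor_of_two {M S : Subgroup G} (h : M ≤ S) (h2 : M.relIndex S = 2) : S ≤ Nor M :=
  (normal_subgroupOf_iff_le_normalizer h).1 (normal_of_index_eq_two h2)

theorem as_of {S H : Subgroup G} (hS : IsSylowOf 2 S H) (h : S ≤ ZS S) : W.AS S H :=
  ⟨hS, ⟨⟨fun a b => Subtype.ext (c1.1 ((h b.2).2.2 a.2))⟩⟩⟩

variable [IsSimpleGroup G] (hG : ¬ IsMulCommutative G) {z w : G} (h : Hy z w)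
include hG h

theorem Hy.not_a1 : ¬ Cen1 z ≤ Kz z ⊔ zpowers w := fun hl => by
  obtain ⟨S, hS⟩ := exists_isSylowOf 2 (Cen1 z)
  have e : S = Qz z := le_antisymm (fun g hg => h.memQ (hl (hS.le hg)) (e2_of_mem hS.isPGroup hg))
    (Qz_le_syl hS)
  have n : Cen1 z ≤ Nor S := e ▸ nQz z
  have a := as_of (h.syl_cen hS) (h.typeN hG hS (n h.c))
  have h0 : S ≠ ⊥ := fun e => ine h.hz (mem_bot.1 (e ▸ Qz_le_syl hS (z_Qz h.hz (mem_zpowers z))))
  obtain ⟨F, _, _, h1, ⟨φ⟩⟩ := W.l2_se hG a (W.se_of_cen' a h0 (W.nor_ne_top h0 fun e =>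
    hG ⟨⟨fun x y => a.cm (e ▸ mem_top x) (e ▸ mem_top y)⟩⟩) fun y hy oy => by
      obtain ⟨m, hm, rfl⟩ := h.fuse hS oy (a.c1 hy)
      intro g hg
      rw [← conj_c1, mem_conjS] at hg
      simpa [mul_assoc] using cmem (le_normalizer hm) (n hg))
  obtain ⟨k, hk⟩ := H7.card_eq_pow_of_le hS.isPGroup
  have := psl_even (h1.trans hk) ((φ.orderOf_eq z).trans h.hz) (b := φ w)
    (c1.2 (by rw [← map_mul, ← map_mul, c1.1 h.c]))
  rw [← map_mul, map_eq_one_iff _ φ.injective, ← sq] at this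
  have := orderOf_dvd_of_pow_eq_one this
  rw [h.hw] at this; omega

theorem Hy.caseB (ψ : Cen1 z →* alternatingGroup (Fin 5)) (hf : Function.Surjective ψ)
    (hk : ψ.ker = (Kz z).subgroupOf _) (h2 : IsPGroup 2 (Kz z)) : Spor.IsoJ1 G := by
  have zK : zpowers z ≤ Kz z := h.fpK.le
  have s := sc_im hf hk (Kz_le z) (nd_Kz z) h.c h.hw (h.cen.trans (sup_le_sup_left zK _))
  have nc : ¬ IsMulCommutative (alternatingGroup (Fin 5)) := fun e =>
    absurd (e.is_comm.comm ⟨Equiv.swap 0 1 * Equiv.swap 1 2, by simp⟩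
      ⟨Equiv.swap 1 2 * Equiv.swap 2 3, by simp⟩) (by decide)
  obtain ⟨u, hu, u3⟩ := s.exists_u nc
  obtain ⟨f4, n4⟩ := s.four hu u3
  have c5 : Nat.card (alternatingGroup (Fin 5)) = 60 := by
    rw [nat_card_alternatingGroup]; simp [Nat.factorial]
  have uV := t_V u (ψ ⟨w, h.c⟩ * u * (ψ ⟨w, h.c⟩)⁻¹)
  have c4 := f4.card_V
  have v2 := f4.two_V
  generalize V4 u _ = V at n4 uV c4 v2
  have hS : IsSylowOf 2 (pre ψ V) (Cen1 z) := ⟨pre_le V, isPGroup_of_im hk (pre_le V)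
    (by rwa [im_pre hf]) h2.to_inf_right, by
      have e1 := H5.card_mul_relIndex (pre_le (f := ψ) V)
      have e2 := card_pre hf hk (Kz_le z) ⊤
      rw [pre_top, card_top, c5] at e2
      rw [e2, card_pre hf hk (Kz_le z), c4, show 60 = 4 * 15 from rfl, mul_right_comm 4 15] at e1
      rw [Nat.eq_of_mul_eq_mul_left (Nat.mul_pos (by norm_num) Nat.card_pos) e1]
      decide⟩
  have a := as_of hS (h.typeN hG hS (le_normalizer_pre (A := zpowers w) (zpowers_le.2 h.c)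
    (by rw [im_zpowers h.c]; exact zpowers_le.2 n4) (mem_zpowers w)))
  have KS := le_pre_of_ker hk (Kz_le z) V
  have h3 : (im ψ (Cen1 z ⊓ Cen (Kz z))).Normal := normal_of_top_le_normalizer (im_self hf ▸
    im_le_normalizer (ninf le_normalizer (ncen (nKz z))))
  have h4 := h3.eq_bot_or_eq_top.resolve_left fun e => ine hu (mem_bot.1 (e ▸
    im_mono (le_inf hS.le (a.cen KS)) ((im_pre hf V).ge uV)))
  have h5 : Kz z = zpowers z := le_antisymm (fun y hy => h.fpK.fix y hy (c1s.1 (cen_iff_le.1 ?_ hy |> c1s.1))) zK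
  swap
  · have := pre_im_of_le hk (le_inf (Kz_le z) (KS.trans (a.cen KS))) inf_le_left
    rw [h4, pre_top] at this
    exact (this.le h.c).2
  have h6 : z ∉ ⁅Cen1 z, Cen1 z⁆ := fun e => ine h.hz (a.fix_eq_one (KS (zK (mem_zpowers z))) e
    fun n hn _ => c1'.1 hn)
  have h7 : ⁅Cen1 z, Cen1 z⁆ ≤ Cen1 z := W.com_l le_normalizer
  have h8 : im ψ ⁅Cen1 z, Cen1 z⁆ = ⊤ := by
    rw [im_commutator le_rfl le_rfl, im_self hf, W.simple_perfect nc]
  refine J1.janko (W.simple_perfect hG) (ii h.hz) ⟨MulEquiv.ofBijective (ψ.comp (inclusion h7))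
    ⟨(injective_iff_map_eq_one _).2 fun x hx => ?_, fun y => ?_⟩⟩ h6 h7 (fun g hg => ?_)
    fun u h1 h2 => h.one u (o2 h1 h2)
  · have := (map_eq_one_iff_of_ker hk).1 hx
    rw [h5, mzi h.hz] at this
    exact Subtype.ext (this.resolve_right fun e => h6 (mem_of_eq x.2 e))
  · obtain ⟨x, h1, h2⟩ := mem_im.1 (h8.ge (mem_top y))
    exact ⟨⟨x, h1⟩, h2⟩
  · have := (im_le_im_iff hk (Kz_le z) le_rfl h7).1 (h8 ▸ le_top) hg
    rw [h5] at this
    obtain ⟨x, h1, y, h2, rfl⟩ := (mem_sup_of_le_normalizer_right (h7.trans (nzz z))).1 this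
    rcases (mzi h.hz).1 h2 with rfl | rfl
    · exact Or.inl (by rwa [mul_one])
    · exact Or.inr (by rwa [c1.1 (h7 h1), ← mul_assoc, ii h.hz, one_mul])

theorem Hy.caseC {X : Type u} [Group X] [Finite X] {f : Cen1 z →* X} (hf : Function.Surjective f)
    (hk : f.ker = (zpowers z).subgroupOf _) (c : Nat.card X = 168)
    (h1 : ∀ a b : X, orderOf a = 2 → orderOf b = 2 → IsConj a b) {v : X} (hv : orderOf v = 4) :
    False := by
  have zz : zpowers z ≤ Cen1 z := zpowers_le.2 (c1.2 rfl)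
  have cM : Nat.card (pre f (zpowers v)) = 8 := by
    rw [card_pre hf hk zz, czi h.hz, Nat.card_zpowers, hv]
  obtain ⟨S, hS, hM⟩ := exists_isSylowOf_ge (q := 2) (IsPGroup.of_card (n := 3) cM) (pre_le _)
  have cS : Nat.card S = 16 := by
    have e2 := card_pre hf hk zz ⊤
    rw [pre_top, card_top, c, czi h.hz] at e2
    rw [hS.card_eq, e2]; decide +kernel
  obtain ⟨a, ha, oa, az⟩ := exists_other hG (h.syl_cen hS) h.hz hS.le
  have o : ∀ (b : Cen1 z), (b : G) * b ∈ zpowers z → (b : G) ∉ zpowers z → orderOf (f b) = 2 :=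
    fun b e e' => o2 (by rw [← map_mul]; exact (map_eq_one_iff_of_ker hk).2 e)
      fun e'' => e' ((map_eq_one_iff_of_ker hk).1 e'')
  have A : ∀ b : Cen1 z, orderOf (f b) = 2 → (b : G) * b = 1 := fun b hb => by
    obtain ⟨g, e⟩ := isConj_iff.1 (h1 _ _ (o ⟨a, hS.le ha⟩ (by rw [ii oa]; exact one_mem _)
      fun e => ((mzi h.hz).1 e).elim (ine oa) az) hb)
    obtain ⟨g, rfl⟩ := hf g
    rw [← map_inv, ← map_mul, ← map_mul, eq_comm, ← mul_inv_eq_one, ← map_inv, ← map_mul,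
      map_eq_one_iff_of_ker hk, mzi h.hz] at e
    have e2 := sq_conj (ii oa) g
    simp only [coe_mul, coe_inv, mul_inv_eq_iff_eq_mul] at e
    rcases e with e | e
    · rwa [e, one_mul]
    · have := (g * ⟨a, hS.le ha⟩ * g⁻¹).2
      simp only [coe_mul, coe_inv] at this
      rw [e, mul_assoc, ← mul_assoc _ z, c1.1 this, mul_assoc z, ← mul_assoc z, ii h.hz, e2, mul_one]
  obtain ⟨v, rfl⟩ := hf v
  have o2' : orderOf (f (v * v)) = 2 := by rw [map_mul, ← sq, orderOf_pow' _ two_ne_zero, hv]; rfl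
  have u2 := A _ o2'
  have u1 : ((v * v : Cen1 z) : G) ≠ 1 := fun e => ine o2' (by rw [show v * v = 1 from Subtype.ext e, map_one])
  have vM : (v : G) ∈ pre f (zpowers (f v)) := coe_mem_pre.2 (mem_zpowers _)
  have nM := nor_of_two hM (by
    have := H5.card_mul_relIndex hM
    rw [cM, cS] at this; omega)
  have eM : pre f (zpowers (f v)) = zpowers (v : G) ⊔ zpowers z := by
    rw [← pre_im hk zz (zpowers_le.2 v.2), im_zpowers v.2]
  obtain ⟨n, hn, e⟩ := h.fuse hS (o2 u2 u1) fun s hs => by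
    obtain ⟨x, h2, y, h3, e⟩ := (mem_sup_of_le_normalizer_right (nzp (zpowers_le.2 v.2))).1
      (eM ▸ cmem (nM hs) vM)
    have e1 : s * (v * v : Cen1 z) * s⁻¹ = x * x := by
      rw [coe_mul, show s * (v * v) * s⁻¹ = s * v * s⁻¹ * (s * v * s⁻¹) by group, ← e]
      rcases (mzi h.hz).1 h3 with rfl | rfl
      · rw [mul_one]
      · rw [mul_assoc, ← mul_assoc y, ← c1.1 (zpowers_le.2 v.2 h2), mul_assoc, ii h.hz, mul_one]
    exact c1'.2 (inv_uniq (x := (v : G)) (e1 ▸ mul_mem h2 h2) (mul_mem (mem_zpowers _) (mem_zpowers _))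
      (iconj (o2 u2 u1) s) (o2 u2 u1))
  have h3 := cmem' hn (hM vM)
  have h4 : n⁻¹ * v * n * (n⁻¹ * v * n) = z := by
    rw [show n⁻¹ * v * n * (n⁻¹ * v * n) = n⁻¹ * (v * v) * n by group, ← coe_mul, ← e]; group
  refine ine h.hz (h4.symm.trans (A ⟨_, hS.le h3⟩ (o _ (mem_of_eq (mem_zpowers z) h4.symm)
    fun e' => ine h.hz ?_)))
  rcases (mzi h.hz).1 e' with e' | e'
  · rw [← h4, show n⁻¹ * v * n = 1 from e', one_mul]
  · rw [← h4, show n⁻¹ * v * n = z from e', ii h.hz]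

theorem Hy.split : (∃ s, T3 z w s) ∨ Spor.IsoJ1 G := by
  obtain ⟨X, _, _, f, hf, hk, s⟩ := h.exq
  have zz : zpowers z ≤ Cen1 z := zpowers_le.2 (c1.2 rfl)
  have eK : pre f (pPrimeCoreIn 3 ⊤) = Kz z := by
    rw [← im_self hf, pre_pPrimeCoreIn hk (by rw [czi h.hz]; decide) zz le_rfl]
  have eM : pre f (pPrimeCoreIn 3 ⊤ ⊔ zpowers (f ⟨w, h.c⟩)) = Kz z ⊔ zpowers w := by
    rw [pre_sup hf, eK, ← im_zpowers, pre_im hk zz (zpowers_le.2 h.c), sup_comm (zpowers w),
      ← sup_assoc, sup_eq_left.2 h.fpK.le]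
  rcases sc_struct s with h1 | ⟨h1, φ, h2, h3⟩ | ⟨h1, h2, v, h3⟩
  · by_cases h2 : ∃ t, t * f ⟨w, h.c⟩ * t⁻¹ = (f ⟨w, h.c⟩)⁻¹
    · obtain ⟨t, e⟩ := h2
      have h3 := s.mem_nor e
      rw [← im_zpowers, Nor, ← im_normalizer hf hk (zpowers_le.2 h.c) (by
        rw [czi h.hz, Nat.card_zpowers, h.hw]; decide) (Or.inl (solv_zp w))] at h3
      obtain ⟨t, h4, rfl⟩ := mem_im.1 h3
      refine Or.inl ⟨t, h, t.2, ?_, fun g hg => ?_⟩
      · rcases (H9.mem_zpowers_three h.hw).1 (cmem h4 (mem_zpowers w)) with e' | e' | e'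
        · exact absurd (h.hw.symm.trans (by rw [← oconj (t : G), e', orderOf_one] : _ = 1)) (by decide)
        · refine absurd (e.symm.trans ?_) s.inv_ne
          rw [← map_inv, ← map_mul, ← map_mul]; exact congrArg f (Subtype.ext e')
        · exact e'
      · obtain ⟨k, hk', n, hn, e'⟩ := h1 (f ⟨g, hg⟩)
        rw [← eM]
        refine (s.nor_cases hn).imp (fun e1 => mem_pre.2 ⟨hg, e' ▸ mul_mem_sup hk' e1⟩) fun e1 =>
          mem_pre.2 ⟨mul_mem hg (inv_mem t.2), ?_⟩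
        rw [show (⟨_, mul_mem hg (inv_mem t.2)⟩ : Cen1 z) = ⟨g, hg⟩ * t⁻¹ from rfl, map_mul, map_inv,
          ← e', mul_assoc]
        exact mul_mem_sup hk' (mem_of_eq (cmem (s.mem_nor e) (s.inv_mul_mem e e1)) (by group))
    · refine absurd (fun g hg => ?_) (h.not_a1 hG)
      obtain ⟨k, hk', n, hn, e'⟩ := h1 (f ⟨g, hg⟩)
      exact eM ▸ mem_pre.2 ⟨hg, e' ▸ mul_mem_sup hk' ((s.nor_cases hn).resolve_right fun e => h2 ⟨n, e⟩)⟩
  · refine Or.inr (h.caseB hG ((φ.comp topEquiv.symm.toMonoidHom).comp f)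
      ((h2.comp topEquiv.symm.surjective).comp hf) ?_ ?_)
    · ext x
      rw [mem_subgroupOf, ← eK, coe_mem_pre, MonoidHom.mem_ker]
      exact map_eq_one_iff_of_ker h3
    · rw [← eK]
      exact isPGroup_of_im hk (pre_le _) (by rwa [im_pre hf]) (two_zp h.hz).to_inf_right
  · exact (h.caseC hG hf hk h1 h2 h3).elim

end Z6
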