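import Cfsg.Agent.Z6.Ce

/-! The normal elementary subgroup of order eight is self-centralizing in `O₂(C(z))`. -/

set_option autoImplicit false
set_option linter.unusedVariables false
set_option linter.unusedSectionVars false

namespace Z6

open Cfsg Subgroup FT H4 H5 GW P
open H5.Dich (NF)

universe u

variable {G : Type u} [Group G] [Finite G]

theorem Hy.fp_fix {z w x y : G} (h : Hy z w) (ox : orderOf x = 3) {T N : Subgroup G}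
    (hT : IsPGroup 2 T) (h1 : x ∈ Nor T) (h2 : x ∈ Nor N) (h3 : N ≤ T) (h4 : T ≤ Nor N) (hy : y ∈ N)
    (yx : y ∈ Cen1 x) (y1 : y ≠ 1) : Fp x T N :=
  ⟨ox, h1, h2, h3, h4, nd_two hT, fun a ha e => (eq_or_ne a 1).elim (· ▸ one_mem _) fun a1 =>
    h.fix_uniq ox hT ha (h3 hy) e yx a1 y1 ▸ hy⟩

omit [Finite G] in
theorem sq_mul {a b : G} (ha : a * a = 1) (hb : b * b = 1) (h : a * b = b * a) :
    a * b * (a * b) = 1 := by
  rw [mul_assoc, ← mul_assoc b, ← h, mul_assoc, hb, mul_one, ha]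

theorem idx_two {A B : Subgroup G} (h : A.relIndex B ∣ 2) (h1 : ¬ B ≤ A) : A.relIndex B = 2 :=
  ((Nat.dvd_prime Nat.prime_two).1 h).resolve_left fun e => h1 (relIndex_eq_one.1 e)

/-- the configuration with the element of order three normalizing `C_S(u)` -/
structure CX (z w s u : G) (S : Subgroup G) (x : G) : Prop extends CV z w s u S where
  ox : orderOf x = 3
  hx : x ∈ Nor (S ⊓ Cen1 u)
  x1 : x * z * x⁻¹ = u
  x2 : x * u * x⁻¹ = z * u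

theorem CV.exists_x {z w s u : G} {S : Subgroup G} (c : CV z w s u S) : ∃ x, CX z w s u S x :=
  let ⟨x, h1, h2, h3, h4⟩ := c.n.exists_x c.t.toHy
  ⟨x, c, h1, h2, h3, h4⟩

namespace CX
variable {z w s u x : G} {S : Subgroup G} (c : CX z w s u S x)
include c

theorem x3 : x * (z * u) * x⁻¹ = z := by
  rw [show x * (z * u) * x⁻¹ = x * z * x⁻¹ * (x * u * x⁻¹) by group, c.x1, c.x2, c.f4.ata]

theorem xx : x * x = x⁻¹ := by
  rw [← mul_eq_one_iff_eq_inv, ← pow_three', ← c.ox, pow_orderOf_eq_one]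

theorem cc (a : G) : x * (x * a * x⁻¹) * x⁻¹ = x⁻¹ * a * x := by
  rw [show x * (x * a * x⁻¹) * x⁻¹ = x * x * a * (x * x)⁻¹ by group, c.xx, inv_inv]

theorem xV : x ∈ Nor (V4 z u) :=
  nor_V (c.x1 ▸ a_V z u) (c.x2 ▸ mul_mem (t_V z u) (a_V z u))

theorem stbV {g a : G} (hg : g ∈ Nor (S ⊓ Cen1 u)) (hV : g ∈ Nor (V4 z u))
    (h : S ⊓ Cen1 u ≤ Stb (V4 z u) a) : S ⊓ Cen1 u ≤ Stb (V4 z u) (g * a * g⁻¹) := fun t ht => by
  simpa [mul_assoc] using Stb_conj (h (cmem' hg ht)) hV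

theorem Te : S ⊓ Cen1 u ≤ Stb (V4 z u) (w * u * w⁻¹) := inf_le_left.trans c.Se
theorem Te1 : S ⊓ Cen1 u ≤ Stb (V4 z u) (x * (w * u * w⁻¹) * x⁻¹) := c.stbV c.hx c.xV c.Te
theorem Te2 : S ⊓ Cen1 u ≤ Stb (V4 z u) (x⁻¹ * (w * u * w⁻¹) * x) := by
  simpa using c.stbV (inv_mem c.hx) (inv_mem c.xV) c.Te

theorem killV {y : G} (hy : y ∈ S ⊓ Cen1 u) (hq : y ∉ Qz z) (h : S ⊓ Cen1 u ≤ Stb (V4 z u) y) :
    S ⊓ Cen1 u ⊓ Cen1 (w * u * w⁻¹) ≤ E8 z u w := c.kill hy.1 hq fun k hk =>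
  Stb_mono (V_E z u w) (Stb_symm (h hk.1) (c.nV hy.1)) (c.nE (c.le hy.1))

theorem xE (h : x * (w * u * w⁻¹) * x⁻¹ ∈ E8 z u w) : x ∈ Nor (E8 z u w) :=
  nor_E (c.x1 ▸ u_E z u w) (c.x2 ▸ mul_mem (z_E z u w) (u_E z u w)) h

theorem exists_fix (h : x ∈ Nor (E8 z u w)) : ∃ y ∈ E8 z u w, y ∈ Cen1 x ∧ orderOf y = 2 := by
  rcases c.t.toHy.card_fix c.ox (c.two.to_le (c.EQ.trans c.l)) h with ⟨-, f⟩ | ⟨-, f⟩
  swap; · exact f
  refine absurd (f.le_of_dvd bot_le (minf h c.xV) (relIindex_dvd_two_iff'.2 ⟨_, e_E z u w, fun b hb =>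
    (c.memE.1 hb).symm.imp_left fun e => ?_⟩) (e_E z u w)) c.eV
  rwa [← c1.1 (c.EC hb).2]

theorem fpT (h : x ∈ Nor (E8 z u w)) : Fp x (S ⊓ Cen1 u) (E8 z u w) :=
  let ⟨y, h1, h2, h3⟩ := c.exists_fix h
  c.t.toHy.fp_fix c.ox c.n.two c.hx h c.ET (inf_le_left.trans (c.le.trans c.nE)) h1 h2 (ine h3)

theorem xC (h : x ∈ Nor (E8 z u w)) : x ∈ Nor (S ⊓ Cen1 u ⊓ Cen1 (w * u * w⁻¹)) := by
  rw [show S ⊓ Cen1 u ⊓ Cen1 (w * u * w⁻¹) = S ⊓ Cen1 u ⊓ Cen (E8 z u w) from le_antisymm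
    (le_inf inf_le_left (c.C_eq ▸ inf_le_right)) (inf_le_inf_left _ (c.cenE ▸ inf_le_right))]
  exact minf c.hx (mcen h)

theorem out (h : x ∈ Nor (E8 z u w)) {q : G} (hq : q ∈ Qz z) (h1 : q ∈ Cen1 u)
    (h2 : q ∉ Cen1 (w * u * w⁻¹)) : x * q * x⁻¹ ∉ Qz z := fun e => by
  have qT : q ∈ S ⊓ Cen1 u := ⟨c.l hq, h1⟩
  have f := (c.fpT h).big inf_le_left c.EC (c.xC h) (inf_le_left.trans (c.le.trans c.nC))
  have a : ∀ q ∈ Qz z, q ∉ Cen1 (w * u * w⁻¹) → q * (w * u * w⁻¹) * q⁻¹ = z * (w * u * w⁻¹) :=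
    fun q hq h2 => (Stb_cases c.hz (c.Qe hq)).resolve_left fun e => h2 (c1'.2 e)
  refine h2 (f.fixm qT ⟨f.nN, mem_inf.2 ⟨mul_mem (cmem c.hx qT) (inv_mem qT), c1'.2 ?_⟩⟩).2
  have a1 := a _ e fun e' => h2 (by simpa [mul_assoc] using (cmem' f.nN ⟨cmem c.hx qT, e'⟩).2)
  have a2 := a _ (inv_mem hq) (out_inv h2)
  have a3 := c1'.1 (Qz_le z e)
  generalize x * q * x⁻¹ = r at *
  rw [show r * q⁻¹ * (w * u * w⁻¹) * (r * q⁻¹)⁻¹ = r * (q⁻¹ * (w * u * w⁻¹) * q⁻¹⁻¹) * r⁻¹ by group,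
    a2, show r * (z * (w * u * w⁻¹)) * r⁻¹ = r * z * r⁻¹ * (r * (w * u * w⁻¹) * r⁻¹) by group, a1, a3,
    ← mul_assoc, ii c.hz, one_mul]

theorem case_a (h : x ∈ Nor (E8 z u w)) : S ⊓ Cen1 u ⊓ Cen1 (w * u * w⁻¹) ≤ E8 z u w := by
  obtain ⟨q, hq, h1, h2⟩ := c.exQ
  have qT : q ∈ S ⊓ Cen1 u := ⟨c.l hq, h1⟩
  have h3 := c.out h hq h1 fun e => ine c.hz (mul_eq_right.1 (h2.symm.trans (c1'.1 e)))
  have f := c.fpT h
  have g := c.t.fpQ.big c.EQ (c.zV.trans (V_E z u w)) (c.nE c.t.c) ((Qz_le z).trans c.nE)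
  have yT := cmem c.hx qT
  have nq := f.kN qT
  have s1 : x * q * x⁻¹ ∈ Stb (E8 z u w) q := by simpa using f.comm_wk qT (one_mem _)
  have A : ∀ k ∈ S ⊓ Cen1 u ⊓ Cen1 (w * u * w⁻¹), k ∈ Stb (E8 z u w) q := fun k hk => by
    have k' := (cmem (c.nC c.t.c) hk).1
    have b1 := f.comm_wk qT (inv_mem k')
    rw [inv_inv] at b1
    have n1 := f.kN (cmem' (le_normalizer k') qT)
    have b2 := Stb_mul (Stb_mul b1 (Stb_inv s1 nq) n1) (Stb_of_mem s1.1 (g.key hq (c.CQ hk)))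
      (mul_mem n1 (inv_mem nq))
    rw [mul_inv_cancel_left] at b2
    have b3 := Stb_mul (Stb_inv (f.comm_wk qT hk.1) (f.kN (cmem (le_normalizer hk.1) qT))) s1
      (inv_mem (f.kN (cmem (le_normalizer hk.1) qT)))
    rw [show (k * q * k⁻¹)⁻¹ = k * q⁻¹ * k⁻¹ by group] at b3
    have b4 := c.t.refl (c.le yT.1) (e2_of_mem c.two yT.1) h3 (c.zV.trans (V_E z u w)) c.EQ c.nE
      (mul_mem (cmem (le_normalizer (c.CQ hk)) (inv_mem hq)) hq) b3 b2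
    simpa using Stb_inv (show k ∈ Stb (E8 z u w) q⁻¹ from ⟨f.kN hk.1, by simpa using b4⟩) (inv_mem nq)
  refine c.kill yT.1 h3 fun k hk => Stb_symm ?_ s1.1
  simpa [mul_assoc] using Stb_conj (A _ (cmem' (c.xC h) hk)) h

theorem case_b (h1 : x * (w * u * w⁻¹) * x⁻¹ ∈ Qz z) (h2 : x⁻¹ * (w * u * w⁻¹) * x ∈ Qz z) :
    x * (w * u * w⁻¹) * x⁻¹ ∈ E8 z u w := by
  by_contra h3
  have nw := c.nC c.t.c
  have eT := c.eT
  have Te := c.Te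
  have Te1 := c.Te1
  have s1 := c.stbC h1 c.Te1
  have s2 := c.stbC h2 c.Te2
  have a1 : x * (w * u * w⁻¹) * x⁻¹ ∈ Cen1 (w * u * w⁻¹) := by
    refine cen_of_two c.f4 (c.Qe h1) (Stb_symm ?_ (mzp (cmem c.hx eT).2))
    simpa [mul_assoc, c.x1] using Stb_zp (c.Qe h2) x
  have e1C : x * (w * u * w⁻¹) * x⁻¹ ∈ S ⊓ Cen1 u ⊓ Cen1 (w * u * w⁻¹) := ⟨cmem c.hx eT, a1⟩
  have o1 := sq_conj c.ee x
  have CQ := c.CQ
  have gC := cmem nw e1C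
  have g1 := c.t.fpQ.comm8 c.hz (Qz_le z) h1 o1
  have zE := c.zV.trans (V_E z u w)
  have cE : S ⊓ Cen1 u ⊓ Cen1 (w * u * w⁻¹) ≤ Cen (E8 z u w) := c.C_eq ▸ inf_le_right
  have fE := c.t.fpQ.big c.EQ zE (c.nE c.t.c) ((Qz_le z).trans c.nE)
  by_cases hC : S ⊓ Cen1 u ⊓ Cen1 (w * u * w⁻¹) ≤ Cen1 (x * (w * u * w⁻¹) * x⁻¹)
  · have xC : x⁻¹ ∈ Nor (S ⊓ Cen1 u ⊓ Cen1 (w * u * w⁻¹)) := mnor fun k hk =>
      ⟨cmem (inv_mem c.hx) hk.1, by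
        have := conj_mem_conjS (g := x⁻¹) (hC hk)
        rwa [conj_c1, show x⁻¹ * (x * (w * u * w⁻¹) * x⁻¹) * x⁻¹⁻¹ = w * u * w⁻¹ by group] at this⟩
    have Q1 := fE.le_Stb h1 ((relIndex_dvd_of_le_left _ (show S ⊓ Cen1 u ≤ Stb (E8 z u w) _ from
      fun t ht => Stb_mono (V_E z u w) (Te1 ht) (c.nE (c.le ht.1)))).trans (by
        rw [← inf_relIndex_right, inf_comm S, inf_assoc, inf_eq_right.2 c.l, inf_relIndex_right]
        exact c.n.nf.index c.l))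
    have hg := le_cen_conj nw hC
    have ee := c.ee
    have A : ∀ y ∈ S ⊓ Cen1 u, y ∉ Qz z → y ∈ Cen1 (x * (w * u * w⁻¹) * x⁻¹ * (w * u * w⁻¹)) := by
      intro y hy hq
      obtain ⟨k, hk, d, hd, e⟩ := c.t.rf (c.le hy.1) (e2_of_mem c.two hy.1) hq
      have b1 := (Te hy).2
      have b2 := c1'.1 (cen_iff_le.1 (c.VT b1) hy)
      have b3 : y * y ∈ S ⊓ Cen1 u ⊓ Cen1 (w * u * w⁻¹) := ⟨mul_mem hy hy, c1'.2 (by
        have := F4.sq_V c.f4 b1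
        generalize w * u * w⁻¹ = e at *
        calc _ = y * (y * e * y⁻¹ * e⁻¹) * y⁻¹ * (y * e * y⁻¹ * e⁻¹) * e := by group
          _ = e := by rw [b2, this, one_mul])⟩
      have b4 := c1'.1 (hg b3)
      have yC := cmem (c.nC (c.le hy.1)) gC
      have b5 := c1.1 (hg yC)
      have b6 := mul_mem (Q1 hk) (Stb_of_cen (mcnor (centralizer_anti c.EQ hd))
        (c1s.1 (cen_iff_le.1 hd h1)))
      have b7 := Stb_mono (V_E z u w) (Te1 hy) (c.nE (c.le hy.1))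
      have b8 := fE.tri h1
      have nE := fE.nN
      have n1 := fE.kN h1
      have n2 := fE.kN (CQ gC)
      have og := sq_conj o1 w
      have yV : ∀ v ∈ V4 z u, v ∈ Cen1 y := fun v hv => c1s.1 (cen_iff_le.1 (c.VT hv) hy)
      have y1 : y ∉ Cen1 (x * (w * u * w⁻¹) * x⁻¹) := fun e' => hq (CQ (by
        have := conj_mem_conjS (g := x⁻¹) e'
        rw [conj_c1, show x⁻¹ * (x * (w * u * w⁻¹) * x⁻¹) * x⁻¹⁻¹ = w * u * w⁻¹ by group] at this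
        simpa [mul_assoc] using cmem' xC ⟨cmem (inv_mem c.hx) hy, this⟩))
      have c1E := cen_iff_le.1 (cE e1C)
      generalize x * (w * u * w⁻¹) * x⁻¹ = a at *
      have b9 : a * (y * (w * a * w⁻¹) * y⁻¹ * (w * a * w⁻¹)) ∈ E8 z u w := by
        have d1 := cmem' nE (mul_mem (cmem b6.1 b7.2) b6.2)
        have d2 := mul_mem (cmem (mul_mem n1 n2) d1) (cmem n1 b8)
        have d3 : y * (w * a * w⁻¹) * y⁻¹ = w⁻¹ * (k * d * (y * a * y⁻¹) * (k * d)⁻¹) * w := by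
          rw [show y * (w * a * w⁻¹) * y⁻¹ = y * w * y⁻¹ * (y * a * y⁻¹) * (y * w * y⁻¹)⁻¹ by group, e]
          group
        rw [b5, d3]
        refine mem_of_eq d2 ?_
        calc _ = a * (w * a * w⁻¹) * (w⁻¹ * (k * d * (y * a * y⁻¹) * (k * d)⁻¹) * w) := by group
          _ = _ := by group
      have b10 : y ∈ Cen1 (y * (w * a * w⁻¹) * y⁻¹ * (w * a * w⁻¹)) := c1'.2 (by
        rw [show y * (y * (w * a * w⁻¹) * y⁻¹ * (w * a * w⁻¹)) * y⁻¹ =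
          y * y * (w * a * w⁻¹) * (y * y)⁻¹ * (y * (w * a * w⁻¹) * y⁻¹) by group, b4, b5])
      rcases c.memE.1 b9 with e' | e'
      · exact absurd (c1s.1 ((mul_mem_cancel_right (c1s.1 b10)).1 (yV _ e'))) y1
      · have := yV _ e'
        rw [mul_assoc, c1.1 (mul_mem yC gC).2, ← mul_assoc] at this
        exact c1s.1 ((mul_mem_cancel_right (c1s.1 b10)).1 this)
    obtain ⟨f, hf, hq⟩ := c.exT
    refine h3 (c.memE.2 (Or.inr (c.n.omega (mul_mem e1C.1 eT).1 (sq_mul o1 ee (c1.1 a1))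
      fun t ht => ?_)))
    by_cases e : t ∈ Qz z
    · exact (mul_mem_cancel_left (A f hf hq)).1 (A _ (mul_mem hf ht) fun e' =>
        hq ((mul_mem_cancel_right e).1 e'))
    · exact A t ht e
  have xD : x ∈ Nor (S ⊓ Cen1 u ⊓ Cen1 (w * u * w⁻¹) ⊓ Cen1 (x * (w * u * w⁻¹) * x⁻¹)) :=
    mnor fun k hk => by
      refine ⟨⟨cmem c.hx hk.1.1, ?_⟩, by rw [← conj_c1]; exact conj_mem_conjS hk.1.2⟩
      have b1 := conj_mem_conjS (g := x⁻¹) hk.2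
      rw [conj_c1, show x⁻¹ * (x * (w * u * w⁻¹) * x⁻¹) * x⁻¹⁻¹ = w * u * w⁻¹ by group] at b1
      have b2 := Stb_zp (s1 ⟨cmem (inv_mem c.hx) hk.1.1, b1⟩) x
      rw [c.x1, c.cc, show x * (x⁻¹ * k * x⁻¹⁻¹) * x⁻¹ = k by group] at b2
      have b3 := conj_mem_conjS (g := x) (cen_of_two c.f4 (s2 hk.1) b2)
      rwa [conj_c1, show x * (x⁻¹ * (w * u * w⁻¹) * x) * x⁻¹ = w * u * w⁻¹ by group] at b3
  have zD : zpowers z ≤ Cen1 (x * (w * u * w⁻¹) * x⁻¹) := zpowers_le.2 (c1s.1 (Qz_le z h1))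
  rcases c.t.toHy.card_fix c.ox (c.n.two.to_inf_left.to_inf_left) xD with ⟨-, f⟩ | ⟨-, y, b1, b2, b3⟩
  · have b1 := f.le_Stb ⟨gC, g1⟩ (by
      rw [Stb_bot]
      refine idx_of_Stb c.hz fun k hk => ?_
      simpa [mul_assoc] using Stb_conj (s1 (cmem' nw hk.1)) (mzp c.t.c))
    rw [Stb_bot] at b1
    refine hC ((c.t.fpQ.sub CQ (zE.trans c.EC) nw).le_of_dvd zD (inv_mem_iff.1 (mnor fun k hk =>
      ⟨cmem (inv_mem nw) hk.1, ?_⟩)) (idx_of_Stb c.hz s1))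
    have := conj_mem_conjS (g := w⁻¹) (b1 hk)
    rwa [conj_c1, show ∀ a, w⁻¹ * (w * a * w⁻¹) * w⁻¹⁻¹ = a from fun a => by group] at this
  · have f := c.t.toHy.fp_fix c.ox c.n.two c.hx xD (inf_le_left.trans inf_le_left) (by
      rw [inf_assoc, inf_inf_distrib_left]
      exact ninf (nor_of_Stb Te c.VT) (nor_of_Stb Te1 c.VT)) b1 b2 (ine b3)
    have m := f.card_mod
    obtain ⟨q, hq, q1, q2⟩ := c.exQ
    obtain ⟨g, hg, g2⟩ := c.exT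
    have i1 := idx_two (idx_of_Stb c.hz s1) hC
    have i2 := idx_two (idx_of_Stb (R := S ⊓ Cen1 u ⊓ Qz z) c.hz (inf_le_right.trans c.Qe))
      fun e => ine c.hz (mul_eq_right.1 (q2.symm.trans (c1'.1 (e ⟨⟨c.l hq, q1⟩, hq⟩))))
    have i3 := idx_two (c.t.idx_dvd c.n.two (inf_le_left.trans c.le)) fun e => g2 (e hg)
    rw [← inf_relIndex_left] at i1 i2 i3
    rw [inf_right_comm, inf_eq_left.2 CQ] at i2
    rw [← relIndex_mul_relIndex _ _ _ inf_le_left inf_le_left,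
      ← relIndex_mul_relIndex _ _ _ (le_inf inf_le_left CQ) inf_le_left, i1, i2, i3] at m
    omega

theorem CE : S ⊓ Cen1 u ⊓ Cen1 (w * u * w⁻¹) ≤ E8 z u w := by
  by_cases h1 : x * (w * u * w⁻¹) * x⁻¹ ∈ Qz z
  · by_cases h2 : x⁻¹ * (w * u * w⁻¹) * x ∈ Qz z
    · exact c.case_a (c.xE (c.case_b h1 h2))
    · exact c.killV (cmem' c.hx c.eT) h2 c.Te2
  · exact c.killV (cmem c.hx c.eT) h1 c.Te1

end CX

theorem CV.CE {z w s u : G} {S : Subgroup G} (c : CV z w s u S) :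
    S ⊓ Cen1 u ⊓ Cen1 (w * u * w⁻¹) ≤ E8 z u w := let ⟨x, h⟩ := c.exists_x; h.CE

end Z6
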