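import Cfsg.Agent.Z6.Cx

/-! The extraspecial case of order 32 is impossible. -/

set_option autoImplicit false
set_option linter.unusedVariables false
set_option linter.unusedSectionVars false
set_option linter.unusedSimpArgs false

namespace Z6

open Cfsg Subgroup FT H4 H5 GW P
open H5.Dich (NF)

universe u

variable {G : Type u} [Group G] [Finite G]

theorem Stb_act {z a g : G} (hz : orderOf z = 2) (h : g ∈ Stb (zpowers z) a) (h1 : g ∉ Cen1 a) :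
    g * a * g⁻¹ = z * a := (Stb_cases hz h).resolve_left fun e => h1 (c1'.2 e)

theorem mul_cen {z a g k : G} (hz : orderOf z = 2) (h1 : g ∈ Stb (zpowers z) a)
    (h2 : k ∈ Stb (zpowers z) a) (h3 : g ∈ Cen1 z) (h4 : g ∉ Cen1 a) (h5 : k ∉ Cen1 a) :
    g * k ∈ Cen1 a := c1'.2 (by
  rw [show g * k * a * (g * k)⁻¹ = g * (k * a * k⁻¹) * g⁻¹ by group, Stb_act hz h2 h5,
    show g * (z * a) * g⁻¹ = g * z * g⁻¹ * (g * a * g⁻¹) by group, c1'.1 h3, Stb_act hz h1 h4,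
    ← mul_assoc, ii hz, one_mul])

theorem not_cen {z a g : G} (hz : orderOf z = 2) (h : g * a * g⁻¹ = z * a) : g ∉ Cen1 a :=
  fun e => ine hz (mul_eq_right.1 (h.symm.trans (c1'.1 e)))

namespace CV
variable {z w s u : G} {S : Subgroup G} (c : CV z w s u S)
include c

theorem memC {q : G} (hq : q ∈ Qz z) (h1 : q ∈ Cen1 u) (h2 : q ∈ Cen1 (w * u * w⁻¹)) :
    q ∈ E8 z u w := c.CE ⟨⟨c.l hq, h1⟩, h2⟩

theorem Vu {y : G} (hy : y ∈ V4 z u) (h : y ∉ zpowers z) {g : G} (hz : g ∈ Cen1 z)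
    (hg : g ∈ Cen1 y) : g ∈ Cen1 u := by
  rcases c.f4.mem_V.1 hy with rfl | rfl | rfl | rfl
  exacts [absurd (one_mem _) h, absurd (mem_zpowers _) h, hg, c.f4.cen_a hz hg]

theorem Ee {y : G} (hy : y ∈ E8 z u w) (h : y ∉ V4 z u) {g : G} (hT : g ∈ S ⊓ Cen1 u)
    (hg : g ∈ Cen1 y) : g ∈ Cen1 (w * u * w⁻¹) := c1s.1 ((mul_mem_cancel_left (c1s.1 hg)).1
  (c1s.1 (cen_iff_le.1 (c.VT ((c.memE.1 hy).resolve_left h)) hT)))

theorem cenQ {y : G} (hy : y ∈ Qz z) (h : Qz z ≤ Cen1 y) : y ∈ zpowers z := by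
  by_contra hn
  have h1 := c.memC hy (c1s.1 (h c.uQ)) (c1s.1 (h c.eQ))
  by_cases e : y ∈ V4 z u
  · exact c.Q_not_le fun g hg => c.Vu e hn (Qz_le z hg) (h hg)
  · obtain ⟨q, hq, q1, q2⟩ := c.exQ
    exact not_cen c.hz q2 (c.Ee h1 e ⟨c.l hq, q1⟩ (h hq))

theorem idxE : (E8 z u w).relIndex (Qz z) = 4 := by
  obtain ⟨q, hq, q1, q2⟩ := c.exQ
  have i1 := idx_two (c.n.nf.index c.l) c.Q_not_le
  have i2 := idx_two (idx_of_Stb (R := Qz z ⊓ Cen1 u) c.hz (inf_le_left.trans c.Qe))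
    fun e => not_cen c.hz q2 (e ⟨hq, q1⟩)
  rw [← inf_relIndex_left] at i1 i2
  rw [show Qz z ⊓ Cen1 u ⊓ Cen1 (w * u * w⁻¹) = E8 z u w from le_antisymm
    (fun g hg => c.memC hg.1.1 hg.1.2 hg.2) (le_inf (le_inf c.EQ (c.ET.trans inf_le_right))
      (c.EC.trans inf_le_right))] at i2
  rw [← relIndex_mul_relIndex _ _ _ (le_inf c.EQ (c.ET.trans inf_le_right)) inf_le_left, i1, i2]

theorem QE {y : G} (hy : y ∈ E8 z u w) : Qz z ≤ Stb (zpowers z) y := fun q hq =>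
  Stb_symm (E_le (R := Stb (zpowers z) q) (Stb_of_mem' (mem_zpowers z) (mzp (Qz_le z hq)))
    (Stb_symm (c.n.stb (c.l hq)) (mzp c.f4.aH)) (Stb_symm (c.Qe hq) (mzp (Qz_le z c.eQ))) hy)
    (mzp (Qz_le z hq))

theorem Qab {q : G} (hq : q ∈ Qz z) : Qz z ≤ Stb (zpowers z) q := by
  by_cases e : q ∈ E8 z u w
  · exact c.QE e
  refine c.t.fpQ.le_Stb hq ?_
  have h1 : E8 z u w ≤ Qz z ⊓ Stb (zpowers z) q := fun y hy =>
    ⟨c.EQ hy, Stb_symm (c.QE hy hq) (mzp (Qz_le z (c.EQ hy)))⟩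
  have h2 := relIndex_mul_relIndex _ _ _ h1 inf_le_left
  have h3 : (E8 z u w).relIndex (Qz z ⊓ Stb (zpowers z) q) ≠ 1 := fun e' =>
    e (relIndex_eq_one.1 e' ⟨hq, Stb_of_cen (mzp (Qz_le z hq)) (c1.2 rfl)⟩)
  rw [c.idxE, inf_relIndex_left] at h2
  obtain ⟨i, hi, e'⟩ := (Nat.dvd_prime_pow (m := 2) Nat.prime_two).1 (Dvd.intro_left _ h2)
  rw [e'] at h2 ⊢
  interval_cases i <;> omega

theorem Qsq {q : G} (hq : q ∈ Qz z) : q * q ∈ zpowers z :=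
  c.cenQ (mul_mem hq hq) fun g hg => c1s.1 (by
    by_cases e : q ∈ Cen1 g
    · exact mul_mem e e
    · exact mul_cen c.hz (c.Qab hg hq) (c.Qab hg hq) (Qz_le z hq) e e)

theorem nab {a : G} (ha : a ∈ Qz z) : ∃ g ∈ Qz z ⊓ Cen1 a, ∃ k ∈ Qz z ⊓ Cen1 a, g ∉ Cen1 k := by
  by_contra hn
  push Not at hn
  obtain ⟨y, y1, y2, y3⟩ : ∃ y ∈ E8 z u w, y ∈ Cen1 a ∧ y ∉ zpowers z := by
    by_cases h1 : u ∈ Cen1 a
    · exact ⟨u, u_E z u w, h1, c.uz⟩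
    by_cases h2 : w * u * w⁻¹ ∈ Cen1 a
    · exact ⟨_, e_E z u w, h2, fun e => c.eV (c.zV e)⟩
    exact ⟨_, mul_mem (u_E z u w) (e_E z u w), mul_cen c.hz (c.Qab ha c.uQ) (c.Qab ha c.eQ) c.f4.aH h1 h2,
      fun e => c.eV ((mul_mem_cancel_left (a_V z u)).1 (c.zV e))⟩
  obtain ⟨q, hq, q1⟩ := SetLike.not_le_iff_exists.1 fun e => y3 (c.cenQ (c.EQ y1) e)
  have h1 : E8 z u w ≤ Cen1 a := fun b hb => by
    by_contra e
    exact q1 ((mul_mem_cancel_left (cen_iff_le.1 (c.Eab y1) hb)).1 (hn _ ⟨mul_mem (c.EQ hb) hq,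
      mul_cen c.hz (c.Qab ha (c.EQ hb)) (c.Qab ha hq) (Qz_le z (c.EQ hb)) e
        fun e' => q1 (hn _ ⟨hq, e'⟩ _ ⟨c.EQ y1, y2⟩)⟩ _ ⟨c.EQ y1, y2⟩))
  have h2 := idx_of_Stb c.hz (c.Qab ha)
  rw [← inf_relIndex_left, show Qz z ⊓ Cen1 a = E8 z u w from le_antisymm (fun g hg => c.memC hg.1
    (hn g hg _ ⟨c.uQ, h1 (u_E z u w)⟩) (hn g hg _ ⟨c.eQ, h1 (e_E z u w)⟩)) (le_inf c.EQ h1),
    c.idxE] at h2
  omega

theorem other {a : G} (ha : a ∈ Qz z) (oa : orderOf a = 2) (az : a ≠ z) : ∃ S', CV z w s a S' := by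
  have two : IsPGroup 2 ↥(Qz z ⊓ Cen1 a) := (two_Qz z).to_inf_left
  obtain ⟨P, hP, h1⟩ := exists_isSylowOf_ge two (inf_le_inf_right _ (Qz_le z))
  have h2 : ¬ P ≤ Qz z := fun e => by
    obtain rfl : P = Qz z ⊓ Cen1 a := le_antisymm (le_inf e (hP.le.trans inf_le_right)) h1
    obtain ⟨R, hR, h3⟩ := exists_isSylowOf_ge two inf_le_right
    obtain ⟨w', s', t⟩ := c.t.any oa
    have h4 := lt_inf_normalizer_of_isPGroup hR.isPGroup (lt_of_le_of_ne h3 fun e' => by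
      have e1 := (t.syl_cen hR).card_eq.trans (c.t.syl_cen c.n.syl).card_eq.symm
      have e2 := card_le_of_le e
      have e3 := c.t.card_syl c.n.syl
      have := Nat.card_pos (α := Qz z)
      rw [e'] at e2
      omega)
    obtain ⟨r, h5, h6⟩ := SetLike.exists_of_lt h4
    obtain ⟨h5, h7⟩ := mem_inf.1 h5
    obtain ⟨g, hg, k, hk, e1⟩ := c.nab ha
    have e2 := (c.Qab (cmem h7 hk).1 (cmem h7 hg).1).2
    rw [show r * g * r⁻¹ * (r * k * r⁻¹) * (r * g * r⁻¹)⁻¹ * (r * k * r⁻¹)⁻¹ =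
      r * (g * k * g⁻¹ * k⁻¹) * r⁻¹ by group, Stb_act c.hz (c.Qab hk.1 hg.1) e1,
      mul_inv_cancel_right] at e2
    exact h6 (hP.le_of_le_normalizer' (e2_of_mem hR.isPGroup h5).two (zpowers_le.2
      ⟨c1'.2 (((mzi c.hz).1 e2).resolve_left (ine (iconj c.hz r))), hR.le h5⟩) (zpowers_le.2 h7)
      (mem_zpowers r))
  obtain ⟨f, hf, hq⟩ := SetLike.not_le_iff_exists.1 h2
  obtain ⟨S', hS, h3⟩ := exists_isSylowOf_ge hP.isPGroup (hP.le.trans inf_le_left)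
  have l := Qz_le_syl hS
  refine ⟨S', c.t, hS, ⟨l c.zQ, l ha, ii c.hz, ii oa, ine c.hz, ine oa, az.symm, hS.le, fun g hg => ?_⟩,
    c.t.uq hS (by rw [hS.card_eq, ← c.n.syl.card_eq]; exact c.c4)⟩
  rw [c1.1 (Qz_le z ha)]
  refine Stb_cases c.hz ?_
  by_cases e : g ∈ Qz z
  · exact c.Qab ha e
  · exact (mul_mem_cancel_left (inv_mem (Stb_of_cen (mzp (hP.le hf).1) (hP.le hf).2))).1
      (c.Qab ha (c.t.idx' hS.isPGroup hS.le (inv_mem (h3 hf)) hg (out_inv hq) e))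

theorem mem_symm {a : G} {S' : Subgroup G} (c' : CV z w s a S') (h : u ∈ E8 z a w) : a ∈ E8 z u w :=
  c.memC c'.uQ (cen_iff_le.1 (c'.Eab h) (u_E z a w))
    (cen_iff_le.1 (c'.Eab (cmem (c'.nE c.t.c) h)) (u_E z a w))

theorem stbT {a : G} (ha : a ∈ Qz z) (oa : orderOf a = 2) (hE : a ∉ E8 z u w)
    (h : S ⊓ Cen1 u ≤ Stb (V4 z u) a) : S ⊓ Cen1 u ≤ Stb (zpowers z) a := fun g hg => by
  obtain ⟨S', c'⟩ := c.other ha oa fun e => hE (e ▸ z_E z u w)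
  have h1 := (Stb_of_mem (c'.nE (c.le hg.1)) (u_E z a w)).2
  refine ⟨mzp (c.le hg.1), ?_⟩
  rcases c.f4.mem_V.1 (h hg).2 with e | e | e | e <;> rw [e] at h1 ⊢
  · exact one_mem _
  · exact mem_zpowers z
  · exact absurd (c.mem_symm c' h1) hE
  · exact absurd (c.mem_symm c' ((mul_mem_cancel_left (z_E z a w)).1 h1)) hE

theorem second : ∃ a, CV z w s a S ∧ a ∉ E8 z u w := by
  obtain ⟨a, ha, oa, hE⟩ : ∃ a ∈ Qz z, a * a = 1 ∧ a ∉ E8 z u w := by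
    obtain ⟨q, hq, q1, q2⟩ := c.exQ
    have h1 : q ∉ E8 z u w := fun e => not_cen c.hz q2 (c.EC e).2
    rcases (mzi c.hz).1 (c.Qsq hq) with e | e
    · exact ⟨q, hq, e, h1⟩
    refine ⟨_, mul_mem hq c.eQ, ?_, fun e => h1 ((mul_mem_cancel_right (e_E z u w)).1 e)⟩
    have h2 := c.ee
    have h3 := c1.1 (Qz_le z c.eQ)
    generalize w * u * w⁻¹ = b at *
    rw [show q * b * (q * b) = q * b * q⁻¹ * (q * q) * b by group, q2, e, ← h3, mul_assoc b, ii c.hz,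
      mul_one, h2]
  obtain ⟨S', c'⟩ := c.other ha (o2 oa fun e => hE (e ▸ one_mem _)) fun e => hE (e ▸ z_E z u w)
  obtain ⟨k, hk, e⟩ := c'.n.syl.exists_conj c.n.syl
  have h1 := c'.n.nf.conj k
  rw [c1'.1 hk, conjS, e] at h1
  exact ⟨_, ⟨c.t, c.n.syl, h1, c.n.uq⟩, fun e => hE (by simpa [mul_assoc] using cmem' (c.nE hk) e)⟩

theorem comm12 {a : G} (c' : CV z w s a S) (hE : a ∉ E8 z u w) : a ∈ Cen1 u := by
  by_contra hn
  obtain ⟨f, hf, hq⟩ := c.exT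
  have A : ∀ b ∈ Qz z, b ∈ Cen1 u → f * b * f⁻¹ * b⁻¹ ∈ V4 z a → f ∈ Stb (zpowers z) b :=
    fun b h1 h2 h3 => ⟨mzp (c.le hf.1), by
      by_contra e
      exact hn (c1s.1 (c'.Vu h3 e c.f4.aH (c1s.1 (mul_mem (cmem (mc1 hf.2) h2) (inv_mem h2)))))⟩
  have h1 := (c'.Se hf.1).2
  refine hq (c'.memQ hf.1 ?_)
  by_cases e : w * a * w⁻¹ ∈ Cen1 u
  · exact A _ c'.eQ e h1
  have n := c'.nV (c.l c'.eQ)
  have h2 := A _ (mul_mem c'.eQ c'.uQ) (c1s.1 (c1s.1 (mul_cen c.hz (c.n.stb (c.l c'.eQ))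
    (c.n.stb (c.l c'.uQ)) (Qz_le z c'.eQ) e hn))) (Stb_mul (c'.Se hf.1)
      (Stb_of_mem (c'.nV hf.1) (a_V z a)) n).2
  simpa using Stb_mul h2 (Stb_inv (c'.n.stb hf.1) (mzp c'.f4.aH)) (mzp (Qz_le z (mul_mem c'.eQ c'.uQ)))

end CV

namespace CX
variable {z w s u x : G} {S : Subgroup G} (c : CX z w s u S x)
include c

theorem norE : x ∈ Nor (E8 z u w) := by
  refine c.xE (by_contra fun h => ?_)
  obtain ⟨q, hq, q1, q2⟩ := c.exQ
  have qT : q ∈ S ⊓ Cen1 u := ⟨c.l hq, q1⟩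
  have e1T := cmem c.hx c.eT
  have e2T := cmem' c.hx c.eT
  have n1 : x * (w * u * w⁻¹) * x⁻¹ ∉ Cen1 (w * u * w⁻¹) := fun e => h (c.CE ⟨e1T, e⟩)
  have o1 := iconj (iconj c.f4.ha w) x
  have o2' := iconj (iconj c.f4.ha w) x⁻¹
  rw [inv_inv] at o2'
  have f := c.f4
  have q3 : q * (w * u * w⁻¹) * q⁻¹ * (w * u * w⁻¹)⁻¹ = z := by rw [q2, mul_inv_cancel_right]
  by_cases h1 : x * (w * u * w⁻¹) * x⁻¹ ∈ Qz z
  · have := (Stb_zp (c.stbT h1 o1 h c.Te1 (cmem c.hx qT)) x⁻¹).2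
    rw [← c.x3] at this
    simp only [show ∀ a, x⁻¹ * (x * a * x⁻¹) * x⁻¹⁻¹ = a from fun a => by group, q3] at this
    exact ((mzi f.hta).1 this).elim (ine f.ht) f.mul.ne.symm
  by_cases h2 : x⁻¹ * (w * u * w⁻¹) * x ∈ Qz z
  · have := (Stb_zp (c.stbT h2 o2' (fun e => n1 (by
      have := conj_mem_conjS (g := x) (c.EC e).2
      rw [conj_c1, show x * (x⁻¹ * (w * u * w⁻¹) * x) * x⁻¹ = w * u * w⁻¹ by group] at this
      exact c1s.1 this)) c.Te2 (cmem' c.hx qT)) x).2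
    simp only [show ∀ a, x * (x⁻¹ * a * x) * x⁻¹ = a from fun a => by group, q3, c.x1] at this
    exact ((mzi f.ha).1 this).elim (ine f.ht) f.ne.symm
  have h3 := c.t.idx' c.two c.le e1T.1 e2T.1 h1 h2
  have a1 : x * (w * u * w⁻¹) * x⁻¹ * (w * u * w⁻¹) * (x * (w * u * w⁻¹) * x⁻¹)⁻¹ * (w * u * w⁻¹)⁻¹
      = z * u := by
    rcases f.mem_V.1 (c.Te e1T).2 with e | e | e | e
    · exact absurd (c1'.2 (mul_inv_eq_one.1 e)) n1
    · exact absurd (c.memQ e1T.1 ⟨mzp (c.le e1T.1), e ▸ mem_zpowers z⟩) h1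
    · refine absurd (c.memQ e2T.1 (Stb_symm ?_ (mzp (c.le e2T.1)))) h2
      have := Stb_zp (show _ ∈ Stb (zpowers u) (w * u * w⁻¹) from
        ⟨mzp e1T.2, mem_of_eq (mem_zpowers u) e.symm⟩) x⁻¹
      rw [show x⁻¹ * u * x⁻¹⁻¹ = z by rw [← c.x1]; group] at this
      simpa [mul_assoc] using this
    · exact e
  have cj : ∀ a b : G, x * (a * b * a⁻¹ * b⁻¹) * x⁻¹ =
    x * a * x⁻¹ * (x * b * x⁻¹) * (x * a * x⁻¹)⁻¹ * (x * b * x⁻¹)⁻¹ := fun a b => by group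
  have a2 := congrArg (fun a => x * a * x⁻¹) a1
  simp only [cj, c.cc, c.x3] at a2
  have a3 := congrArg (fun a => x * a * x⁻¹) a2
  simp only [cj, c.cc, c.x1, show ∀ a, x * (x⁻¹ * a * x) * x⁻¹ = a from fun a => by group] at a3
  have Te := c.Te
  have Te1 := c.Te1
  have Te2 := c.Te2
  have ee := c.ee
  have e1 := ii o1
  have e2 := ii o2'
  have eT := c.eT
  have eQ := c.eQ
  have EC : ∀ y ∈ E8 z u w, y ∈ Cen1 (w * u * w⁻¹) := fun y hy => (c.EC hy).2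
  generalize w * u * w⁻¹ = a at *
  generalize x * a * x⁻¹ = b at *
  generalize x⁻¹ * a * x = d at *
  have L : ∀ {p q r : G}, p * q = r → ∀ y, p * (q * y) = r * y := fun e y => by rw [← mul_assoc, e]
  have r1 : b * a = z * u * a * b := by rw [← a1]; group
  have r2 : d * b = z * b * d := by rw [← a2]; group
  have r3 : d * a = u * a * d := by
    rw [mul_assoc u a d, show a * d = u * d * a by rw [← a3]; group, ← mul_assoc, ← mul_assoc,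
      ii f.ha, one_mul]
  have za := c1.1 (c.le eT.1)
  have zb := c1.1 (c.le e1T.1)
  have zd := c1.1 (c.le e2T.1)
  have ua := c1.1 eT.2
  have ub := c1.1 e1T.2
  have ud := c1.1 e2T.2
  have i0 : a * (b * d) * (a * (b * d)) = 1 := by
    simp only [mul_assoc, L r1, L r2, L r3, r1, r2, r3, L za, L zb, L zd, L ua, L ub, L ud, L ee, L e1,
      L e2, e2, L f.c.symm, L (ii f.ht), L (ii f.ha), one_mul]
  have i1 : a * (a * (b * d)) * a⁻¹ = z * (a * (b * d)) := by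
    rw [inv_eq_of_mul_eq_one_right ee]
    simp only [mul_assoc, L r1, L r2, L r3, r1, r2, r3, L za, L zb, L zd, L ua, L ub, L ud, L ee, L e1,
      L e2, e2, L f.c.symm, L (ii f.ht), L (ii f.ha), one_mul]
  have i2 : b * (a * (b * d)) * b⁻¹ = u * (a * (b * d)) := by
    rw [inv_eq_of_mul_eq_one_right e1]
    simp only [mul_assoc, L r1, L r2, L r3, r1, r2, r3, L za, L zb, L zd, L ua, L ub, L ud, L ee, L e1,
      L e2, e2, L f.c.symm, L (ii f.ht), L (ii f.ha), one_mul]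
  have i3 : a * (b * d) ∉ E8 z u w := fun e => not_cen c.hz i1 (c1s.1 (EC _ e))
  have := (c.stbT (mul_mem eQ h3) (o2 i0 fun e => i3 (e ▸ one_mem _)) i3 (fun g hg =>
    Stb_mul (Te hg) (Stb_mul (Te1 hg) (Te2 hg) (c.nV e1T.1)) (c.nV eT.1)) e1T).2
  rw [i2, mul_inv_cancel_right] at this
  exact c.uz this

theorem rf {t : G} (ht : t ∈ S) (h : t ∉ Cen1 u) : Rf t x (S ⊓ Cen1 u) := by
  have f := c.f4
  have h1 := c.n.act ht h
  have h2 := c.n.act (inv_mem ht) (out_inv h)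
  have h3 := c1'.1 (c.le ht)
  have h4 := c1'.1 (c.le (inv_mem ht))
  have h5 : x * (t * x * t⁻¹) ∈ Cen1 z ⊓ Cen1 u := ⟨c1'.2 (by
    rw [show x * (t * x * t⁻¹) * z * (x * (t * x * t⁻¹))⁻¹ =
      x * (t * (x * (t⁻¹ * z * t⁻¹⁻¹) * x⁻¹) * t⁻¹) * x⁻¹ by group, h4, c.x1, h1, c.x3]), c1'.2 (by
    rw [show x * (t * x * t⁻¹) * u * (x * (t * x * t⁻¹))⁻¹ =
      x * (t * (x * (t⁻¹ * u * t⁻¹⁻¹) * x⁻¹) * t⁻¹) * x⁻¹ by group, h2, c.x3, h3, c.x1])⟩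
  have h6 := mul_mem c.hx (cmem (le_normalizer (c.n.nT ht)) c.hx)
  obtain ⟨a, ha, d, hd, e, ea, od⟩ := exists_pPart 2 (x * (t * x * t⁻¹))
  have h7 := zpowers_le.2 h5 hd
  refine ⟨a, c.n.sylT.le_of_le_normalizer' (E2.two ea) (zpowers_le.2 (zpowers_le.2 h5 ha))
    (zpowers_le.2 (zpowers_le.2 h6 ha)) (mem_zpowers a), d, c.t.cen_of_O c.n.two
    (inf_le_left.trans c.le) (c.t.memO h7.1 (odd_iff_cop.2 od) fun e =>
      c.t.nd3 f (e.trans (orderOf_dvd_natCard _ h7))) (zpowers_le.2 h6 hd), ?_⟩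
  rw [mul_assoc x⁻¹, ← e, inv_mul_cancel_left]

theorem data {a : G} (c' : CV z w s a S) (hE : a ∉ E8 z u w) :
    x * a * x⁻¹ ∈ S ∧ x * a * x⁻¹ ∉ Qz z ∧ x * a * x⁻¹ ∈ Cen1 u ∧ x * a * x⁻¹ ∈ Cen1 a ∧
    x * (x * a * x⁻¹) * x⁻¹ = x * a * x⁻¹ * a ∧
    (∀ t ∈ E8 z a w, t * u * t⁻¹ = z * u → t * (x * a * x⁻¹) * t⁻¹ = a * (x * a * x⁻¹)) ∧
    ∃ t ∈ E8 z u w, t * a * t⁻¹ = z * a ∧ t * (x * a * x⁻¹) * t⁻¹ = u * (x * a * x⁻¹) := by
  have f := c.f4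
  have au := c.comm12 c' hE
  have aT : a ∈ S ⊓ Cen1 u := ⟨c'.n.nf.u_mem, au⟩
  have ae : a ∉ Cen1 (w * u * w⁻¹) := fun e => hE (c.CE ⟨aT, e⟩)
  have b1 := cmem c.hx aT
  have b2 := cmem' c.hx aT
  have h1 : x * a * x⁻¹ ∈ Cen1 a := by
    refine cen_of_two f (c'.n.stb b1.1) (Stb_symm ?_ (mzp b1.2))
    simpa [mul_assoc, c.x1] using Stb_zp (c'.n.stb b2.1) x
  have h2 : a ∈ Cen1 (x⁻¹ * a * x) := by
    have := conj_mem_conjS (g := x⁻¹) h1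
    rw [conj_c1] at this
    simpa [mul_assoc] using this
  have h3 : x⁻¹ * a * x ∈ Cen1 (x * a * x⁻¹) := by
    have := conj_mem_conjS (g := x) h1
    rwa [conj_c1, c.cc] at this
  obtain ⟨t, t1, t2, t3⟩ := c.exists_fix c.norE
  have t4 : t ∉ V4 z u := fun e => by
    have := c1'.1 (c1s.1 t2)
    rcases f.mem_V.1 e with rfl | rfl | rfl | rfl
    · exact ine t3 rfl
    · exact f.ne (c.x1.symm.trans this)
    · exact ine f.ht (mul_eq_right.1 (c.x2.symm.trans this))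
    · exact ine f.ha (mul_eq_left.1 (this.symm.trans c.x3))
  have t5 : t ∉ Cen1 a := fun e => ae (c.Ee t1 t4 aT (c1s.1 e))
  have t6 := Stb_act c.hz (c'.n.stb (c.ET t1).1) t5
  have h4 : x⁻¹ * a * x = x * a * x⁻¹ * a := by
    have m := mul_mem (mul_mem b2 aT) b1
    have : x⁻¹ * a * x * a * (x * a * x⁻¹) = 1 := by
      by_contra e
      refine t5 (c.t.fix_uniq c.ox c.n.two m (c.ET t1) (c1s.1 (c1'.2 ?_)) t2 e (ine t3) ▸
        mul_mem (mul_mem (c1s.1 h2) (c1.2 rfl)) h1)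
      rw [show x * (x⁻¹ * a * x * a * (x * a * x⁻¹)) * x⁻¹ =
        a * (x * a * x⁻¹) * (x * (x * a * x⁻¹) * x⁻¹) by group, c.cc, mul_assoc a, ← c1.1 h3,
        ← mul_assoc, c1.1 h2]
    rw [mul_assoc, mul_eq_one_iff_eq_inv] at this
    rw [this, mul_inv_rev, iinv (iconj c'.f4.ha x), iinv c'.f4.ha]
  refine ⟨b1.1, c.out c.norE c'.uQ au ae, b1.2, h1, c.cc a ▸ h4, fun r r1 r2 => ?_, t, t1, t6, ?_⟩
  · obtain ⟨k, hk, d, hd, e⟩ := c.rf (c'.ET r1).1 (not_cen c.hz r2)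
    have e1 : r * (x * a * x⁻¹) * r⁻¹ = x⁻¹ * (k * a * k⁻¹) * x := by
      calc _ = r * x * r⁻¹ * (r * a * r⁻¹) * (r * x * r⁻¹)⁻¹ := by group
        _ = x⁻¹ * (k * (d * a * d⁻¹) * k⁻¹) * x := by rw [e, c1'.1 (c'.ET r1).2]; group
        _ = _ := by rw [c1'.1 (c1s.1 (cen_iff_le.1 hd aT))]
    rcases Stb_cases c.hz (c'.n.stb hk.1) with e2 | e2
    · rw [e1, e2, h4, c1.1 h1]
    · have e3 := (Stb_symm (Stb_of_mem (c'.nE (c.le b1.1)) r1) (c'.nE (c.le (c'.ET r1).1))).2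
      rw [e1, e2, show x⁻¹ * (z * a) * x = x⁻¹ * z * x * (x⁻¹ * a * x) by group, h4, c1.1 h1, ← c.cc,
        c.x1, c.x2, ← mul_assoc, mul_inv_cancel_right] at e3
      exact absurd (c.mem_symm c' ((mul_mem_cancel_left (z_E z a w)).1
        ((mul_mem_cancel_right (u_E z a w)).1 e3))) hE
  · have := c1'.1 (c1s.1 t2)
    calc _ = x * t * x⁻¹ * (x * a * x⁻¹) * (x * t * x⁻¹)⁻¹ := by rw [this]
      _ = x * (t * a * t⁻¹) * x⁻¹ := by group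
      _ = _ := by rw [t6, ← c.x1]; group

end CX

theorem CV.false {z w s u : G} {S : Subgroup G} (c : CV z w s u S) : False := by
  obtain ⟨v, c', h1⟩ := c.second
  have h2 : u ∉ E8 z v w := fun e => h1 (c.mem_symm c' e)
  obtain ⟨x, d⟩ := c.exists_x
  obtain ⟨y, d'⟩ := c'.exists_x
  obtain ⟨a1, a2, a3, a4, a5, a6, t, a7, a8, a9⟩ := d.data c' h1
  obtain ⟨b1, b2, b3, b4, b5, b6, r, b7, b8, b9⟩ := d'.data c h2
  have a10 := a6 r b7 b8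
  have b10 := b6 t a7 a8
  have pp := sq_conj c'.n.nf.uu x
  have vu := c.comm12 c' h1
  obtain ⟨p, hp⟩ : ∃ p, x * v * x⁻¹ = p := ⟨_, rfl⟩
  obtain ⟨q, hq⟩ : ∃ q, y * u * y⁻¹ = q := ⟨_, rfl⟩
  rw [hp] at a1 a2 a3 a4 a5 a9 a10 pp
  rw [hq] at b1 b2 b3 b4 b5 b9 b10
  have m1 := c.t.idx' c.two c.le a1 b1 a2 b2
  have mT : p * q ∈ S ⊓ Cen1 u := ⟨mul_mem a1 b1, mul_mem a3 b4⟩
  have L : ∀ {p q r : G}, p * q = r → ∀ y, p * (q * y) = r * y := fun e y => by rw [← mul_assoc, e]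
  have tV : t ∉ V4 z u := fun e => not_cen c.hz a8 (c1s.1 (cen_iff_le.1 (c.VT e) ⟨c'.n.nf.u_mem, vu⟩))
  have m2 := c.CE ⟨mT, c.Ee a7 tV mT (c1s.1 (c1'.2 (by
    rw [show t * (p * q) * t⁻¹ = t * p * t⁻¹ * (t * q * t⁻¹) by group, a9, b10, ← c1.1 a3, mul_assoc,
      L c.n.nf.uu, one_mul])))⟩
  have m3 : p * q ∈ zpowers z := by
    by_contra hn
    by_cases e : p * q ∈ V4 z u
    · refine not_cen c.hz b8 (c.Vu e hn (c.le (c'.ET b7).1) (c1'.2 ?_))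
      rw [show r * (p * q) * r⁻¹ = r * p * r⁻¹ * (r * q * r⁻¹) by group, a10, b9, ← c1.1 a4, mul_assoc,
        L c'.n.nf.uu, one_mul]
    · exact h1 (c.CE ⟨⟨c'.n.nf.u_mem, vu⟩, c.Ee m2 e ⟨c'.n.nf.u_mem, vu⟩ (c1s.1 (mul_mem a4 b3))⟩)
  have r1 := c.f4.c.symm
  have r2 := c'.f4.c.symm
  have r3 := c1.1 vu
  have r4 := c1.1 (c.le a1)
  have r5 := c1.1 a3
  have r6 := c1.1 a4
  have s1 := ii c.hz
  have s2 := c.n.nf.uu
  have s3 := c'.n.nf.uu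
  let A := MulAut.conj x
  let B := MulAut.conj y
  have A1 : A z = u := d.x1
  have A2 : A u = z * u := d.x2
  have A3 : A v = p := hp
  have A4 : A p = p * v := a5
  have B1 : B z = v := d'.x1
  have B2 : B v = z * v := d'.x2
  rcases (mzi c.hz).1 m3 with e | e
  · obtain rfl : q = p := by rw [← one_mul q, ← pp, mul_assoc, e, mul_one]
    have B3 : B u = q := hq
    have B4 : B q = q * u := b5
    have o1 : F4 (u * v) (z * q * u) := by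
      have n1 : z * q * u ∉ Qz z := fun e => a2 ((mul_mem_cancel_left c.zQ).1
        ((mul_mem_cancel_right c.uQ).1 e))
      refine ⟨o2 (sq_mul s2 s3 r3.symm) fun e => h1 ?_, o2 ?_ fun e => n1 (e ▸ one_mem _), ?_,
        fun e => n1 (e ▸ mul_mem c.uQ c'.uQ)⟩
      · rw [eq_inv_of_mul_eq_one_right e]; exact inv_mem (u_E z u w)
      all_goals simp only [mul_assoc, L r1, L r2, L r3, L r4, L r5, L r6, r1, r2, r3, r4, r5, r6,
        L s1, L s2, L s3, L pp, s1, s2, s3, pp, one_mul, mul_one]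
    have g1 : x * y ∈ Cen1 (u * v) ⊓ Cen1 (z * q * u) := by
      constructor <;> refine c1'.2 ((show ∀ a, x * y * a * (x * y)⁻¹ = A (B a) from
        fun a => by simp [A, B, mul_assoc]) _ ▸ ?_) <;>
      simp only [map_mul, A1, A2, A3, A4, B1, B2, B3, B4, mul_assoc, L r1, L r2, L r3, L r4, L r5,
        L r6, r1, r2, r3, r4, r5, r6, L s1, L s2, L s3, L pp, s1, s2, s3, pp, one_mul, mul_one]
    have g2 : (x * y) ^ 3 ∈ Cen1 z := by
      refine c1'.2 ((show ∀ a, (x * y) ^ 3 * a * ((x * y) ^ 3)⁻¹ = A (B (A (B (A (B a))))) from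
        fun a => by simp [A, B, mul_assoc, pow_three']) _ ▸ ?_)
      simp only [map_mul, A1, A2, A3, A4, B1, B2, B3, B4, mul_assoc, L r1, L r2, L r3, L r4, L r5,
        L r6, r1, r2, r3, r4, r5, r6, L s1, L s2, L s3, L pp, s1, s2, s3, pp, one_mul, mul_one]
    have g3 := H7.zpowers_le_of_pow_mem (p := 3) (i := orderOf (x * y)) g2
      (fun e => c.t.nd3 o1 (e.trans (orderOf_dvd_natCard _ g1)))
      (by rw [pow_orderOf_eq_one]; exact one_mem _)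
    have g4 : x * y * z * (x * y)⁻¹ = q := by rw [← hp, ← d'.x1]; group
    exact a2 (g4 ▸ (c1'.1 g3).symm ▸ c.zQ)
  · obtain rfl : q = p * z := by rw [← one_mul q, ← pp, mul_assoc, e]
    have B3 : B u = p * z := hq
    have B4 : B p = p * z * u * v := by
      rw [show B p = B (p * z) * B z by rw [← map_mul, mul_assoc, s1, mul_one], B1]
      exact congrArg (· * v) b5
    have k : ∀ a, x * y * x * y * x * a * (x * y * x * y * x)⁻¹ = A (B (A (B (A a)))) :=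
      fun a => by simp [A, B, mul_assoc]
    refine h1 (mem_of_eq (cmem (c.nE (c1'.2 (k z ▸ ?_) : x * y * x * y * x ∈ _)) (u_E z u w)) (k u ▸ ?_))
    all_goals simp only [map_mul, A1, A2, A3, A4, B1, B2, B3, B4, mul_assoc, L r1, L r2, L r3, L r4,
      L r5, L r6, r1, r2, r3, r4, r5, r6, L s1, L s2, L s3, L pp, s1, s2, s3, pp, one_mul, mul_one]

/-- in type `S₃`, either the Sylow 2-subgroups have order four or `O₂(C(z))` has one involution -/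
theorem T3.uniq {z w s : G} (h : T3 z w s) {S : Subgroup G} (hS : IsSylowOf 2 S (Cen1 z))
    (h4 : Nat.card S ≠ 4) {a : G} (ha : a ∈ Qz z) (oa : orderOf a = 2) : a = z := by
  by_contra az
  obtain ⟨u, hu⟩ := h.fpQ.exists_NF h.hz hS.isPGroup (Qz_le_syl hS) hS.le ha oa az
  exact CV.false ⟨h, hS, hu, h.uq hS h4⟩

end Z6
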