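import Cfsg.Agent.P.C7

/-! Elements of order three acting without fixed points on a section. -/

set_option autoImplicit false
set_option linter.unusedVariables false
set_option linter.unusedSectionVars false

namespace Z6

open Cfsg Subgroup FT H4 H5 GW P

universe u

variable {G : Type u} [Group G]

/-- the stabilizer of the coset `N b` under conjugation -/
def Stb (N : Subgroup G) (b : G) : Subgroup G where
  carrier := {h | h ∈ Nor N ∧ h * b * h⁻¹ * b⁻¹ ∈ N}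
  one_mem' := ⟨one_mem _, by simp⟩
  mul_mem' {x y} hx hy := ⟨mul_mem hx.1 hy.1,
    mem_of_eq (mul_mem (cmem hx.1 hy.2) hx.2) (by group)⟩
  inv_mem' {x} hx := ⟨inv_mem hx.1, mem_of_eq (inv_mem (cmem' hx.1 hx.2)) (by group)⟩

theorem mem_Stb {N : Subgroup G} {b h : G} :
    h ∈ Stb N b ↔ h ∈ Nor N ∧ h * b * h⁻¹ * b⁻¹ ∈ N := Iff.rfl

theorem Stb_of_cen {N : Subgroup G} {b h : G} (h1 : h ∈ Nor N) (h2 : h ∈ Cen1 b) : h ∈ Stb N b :=
  ⟨h1, by rw [c1'.1 h2, mul_inv_cancel]; exact one_mem _⟩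

theorem Stb_bot (b : G) : Stb ⊥ b = Cen1 b := by
  ext h
  rw [mem_Stb, mem_bot, mul_inv_eq_one, c1']
  exact and_iff_right (le_normalizer_bot ⊤ (mem_top h))

theorem Stb_mono {N N' : Subgroup G} (h : N ≤ N') {b g : G} (h1 : g ∈ Stb N b) (h2 : g ∈ Nor N') :
    g ∈ Stb N' b := ⟨h2, h h1.2⟩

theorem Stb_symm {N : Subgroup G} {a b : G} (h : a ∈ Stb N b) (hb : b ∈ Nor N) : b ∈ Stb N a :=
  ⟨hb, mem_of_eq (inv_mem h.2) (by group)⟩

theorem Stb_conj {N : Subgroup G} {a b g : G} (h : a ∈ Stb N b) (hg : g ∈ Nor N) :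
    g * a * g⁻¹ ∈ Stb N (g * b * g⁻¹) :=
  ⟨mul_mem (mul_mem hg h.1) (inv_mem hg), mem_of_eq (cmem hg h.2) (by group)⟩

theorem Stb_mul {N : Subgroup G} {a b c : G} (h : a ∈ Stb N b) (h' : a ∈ Stb N c)
    (hb : b ∈ Nor N) : a ∈ Stb N (b * c) :=
  ⟨h.1, mem_of_eq (mul_mem h.2 (cmem hb h'.2)) (by group)⟩

theorem Stb_of_mem {N : Subgroup G} {a b : G} (ha : a ∈ Nor N) (hb : b ∈ N) : a ∈ Stb N b :=
  ⟨ha, mul_mem (cmem ha hb) (inv_mem hb)⟩

theorem Stb_of_mem' {N : Subgroup G} {a b : G} (ha : a ∈ N) (hb : b ∈ Nor N) : a ∈ Stb N b :=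
  Stb_symm (Stb_of_mem hb ha) (le_normalizer ha)

variable [Finite G]

/-- `w` has order three and acts without fixed points on `K / N` -/
structure Fp (w : G) (K N : Subgroup G) : Prop where
  ord : orderOf w = 3
  nK : w ∈ Nor K
  nN : w ∈ Nor N
  le : N ≤ K
  kN : K ≤ Nor N
  nd : ¬ 3 ∣ Nat.card K
  fix : ∀ y ∈ K, y ∈ Cen1 w → y ∈ N

namespace Fp
variable {w : G} {K N : Subgroup G} (h : Fp w K N)
include h

theorem w3 : w ^ 3 = 1 := h.ord ▸ pow_orderOf_eq_one w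

theorem ww : w * w = w⁻¹ := by
  rw [← mul_eq_one_iff_eq_inv, ← h.w3, pow_three']

theorem inv : Fp w⁻¹ K N :=
  ⟨by rw [orderOf_inv, h.ord], inv_mem h.nK, inv_mem h.nN, h.le, h.kN, h.nd, fun y hy e =>
    h.fix y hy (c1s.1 (inv_mem_iff.1 (c1s.1 e)))⟩

theorem sub {Q : Subgroup G} (h1 : Q ≤ K) (h2 : N ≤ Q) (h3 : w ∈ Nor Q) : Fp w Q N :=
  ⟨h.ord, h3, h.nN, h2, h1.trans h.kN, not_dvd_of_le h1 h.nd, fun y hy => h.fix y (h1 hy)⟩

theorem big {M : Subgroup G} (h1 : M ≤ K) (h2 : N ≤ M) (h3 : w ∈ Nor M) (h4 : K ≤ Nor M) :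
    Fp w K M := ⟨h.ord, h.nK, h3, h1, h4, h.nd, fun y hy e => h2 (h.fix y hy e)⟩

theorem nmem : w ∉ K := fun hw => h.nd (h.ord ▸ K.orderOf_dvd_natCard hw)

theorem exq : ∃ (X : Type u) (_ : Group X) (_ : Finite X) (f : ↥(K ⊔ zpowers w) →* X)
    (hw : w ∈ K ⊔ zpowers w), f.ker = N.subgroupOf _ ∧ SC (f ⟨w, hw⟩) ∧ I3 (f ⟨w, hw⟩) (im f K) := by
  have hw : w ∈ K ⊔ zpowers w := mem_sup_right (mem_zpowers w)
  have hz := zpowers_le.2 h.nK
  obtain ⟨X, _, _, f, hf, hk⟩ := exists_hom_ker_eq (L := K ⊔ zpowers w) (M := N)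
    (sup_le h.kN (zpowers_le.2 h.nN))
  refine ⟨X, _, inferInstance, f, hw, hk, ⟨?_, ?_⟩, ?_, not_dvd_im h.nd⟩
  · exact orderOf_map_eq_prime f (by rw [← Subgroup.orderOf_coe]; exact h.ord) fun e =>
      h.nmem (h.le ((map_eq_one_iff_of_ker hk).1 e))
  · have := im_inf_centralizer_singleton hk (K := K ⊔ zpowers w) hw (le_normalizer hw) (by
      rw [h.ord]
      exact (Nat.Prime.coprime_iff_not_dvd Nat.prime_three).2
        (not_dvd_of_le (inf_le_right.trans h.le) h.nd))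
    rw [im_self hf, top_inf_eq] at this
    rw [Cen1, ← this, ← im_zpowers hw]
    refine (im_le_im_iff hk (h.le.trans le_sup_left) inf_le_left le_sup_right).2 fun g hg => ?_
    obtain ⟨k, hk, v, hv, rfl⟩ := (mem_sup_left_iff hz).1 hg.1
    refine mul_mem (mem_sup_right (h.fix k hk ?_)) (mem_sup_left hv)
    exact (Subgroup.mul_mem_cancel_right _ ((zpowers_le.2 (c1.2 rfl)) hv)).1 hg.2
  · have := im_le_normalizer (f := f) hz
    rw [im_zpowers hw] at this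
    exact this (mem_zpowers _)

theorem card_mod : N.relIndex K % 3 = 1 := by
  obtain ⟨X, _, _, f, hw, hk, h1, h2⟩ := h.exq
  have e1 := card_eq_card_im_mul hk (le_sup_left : K ≤ _)
  rw [inf_eq_right.2 h.le, ← H7.card_mul_relIndex h.le, mul_comm] at e1
  rw [Nat.eq_of_mul_eq_mul_right Nat.card_pos e1]
  exact h2.card_mod h1

theorem rel_mod {Q : Subgroup G} (h1 : Q ≤ K) (h2 : N ≤ Q) (h3 : w ∈ Nor Q) :
    Q.relIndex K % 3 = 1 := by
  have e1 := h.card_mod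
  have e2 := (h.sub h1 h2 h3).card_mod
  rw [← relIndex_mul_relIndex N Q K h2 h1, Nat.mul_mod, e2, one_mul, Nat.mod_mod] at e1
  exact e1

theorem le_of_dvd {Q : Subgroup G} (h2 : N ≤ Q) (h3 : w ∈ Nor (K ⊓ Q)) (h4 : Q.relIndex K ∣ 2) :
    K ≤ Q := by
  have := h.rel_mod inf_le_left (le_inf h.le h2) h3
  rw [inf_relIndex_left] at this
  rcases (Nat.dvd_prime Nat.prime_two).1 h4 with e | e
  · exact relIndex_eq_one.1 e
  · omega

theorem tri_mul {x k : G} (hx : x ∈ K) (hk : k ∈ K) :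
    w * k * x * (w * k)⁻¹ * ((w * k)⁻¹ * x * (w * k)) * x ∈ N := by
  obtain ⟨X, _, _, f, hw, hk', h1, h2⟩ := h.exq
  have a := mem_im_of_mem (f := f) (mem_sup_left hk) hk
  have := (h2.mul a).tri (h2.sc_mul h1 a) (mem_im_of_mem (f := f) (mem_sup_left hx) hx)
  simp only [← map_mul, ← map_inv] at this
  exact (map_eq_one_iff_of_ker hk').1 this

theorem tri {x : G} (hx : x ∈ K) : w * x * w⁻¹ * (w⁻¹ * x * w) * x ∈ N := by
  simpa using h.tri_mul hx (one_mem _)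

theorem cube {x : G} (hx : x ∈ K) : (w * x) ^ 3 ∈ N := by
  obtain ⟨X, _, _, f, hw, hk', h1, h2⟩ := h.exq
  have := h2.cube h1 (mem_im_of_mem (f := f) (mem_sup_left hx) hx)
  simp only [← map_mul, ← map_pow] at this
  exact (map_eq_one_iff_of_ker hk').1 this

theorem mem_of_cube {x : G} (hx : x ∈ K) (h3 : x * x * x ∈ N) : x ∈ N :=
  H7.zpowers_le_of_pow_mem (p := 3) (i := Nat.card K) (by rwa [pow_three']) h.nd (by
    have : x ^ Nat.card K = 1 := congrArg Subtype.val (pow_card_eq_one' (x := (⟨x, hx⟩ : K)))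
    rw [this]; exact one_mem _)

theorem fix_mul {x k : G} (hx : x ∈ K) (hk : k ∈ K) (e : w * k ∈ Stb N x) : x ∈ N := by
  have h1 := h.tri_mul hx hk
  have h2 := (inv_mem e).2
  rw [inv_inv] at h2
  refine h.mem_of_cube hx (mem_of_eq (mul_mem (mul_mem (inv_mem (cmem (h.kN hx) h2))
    (inv_mem e.2)) h1) ?_)
  rw [← pow_three']; group

theorem fixm {x : G} (hx : x ∈ K) (e : w ∈ Stb N x) : x ∈ N :=
  h.fix_mul hx (one_mem _) (by rwa [mul_one])

theorem comm_k {x y : G} (hx : x ∈ K) (hy : y ∈ K) : x ∈ Stb N (y * x * y⁻¹) := by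
  obtain ⟨X, _, _, f, hw, hk', h1, h2⟩ := h.exq
  have := (h2.comm_k h1 (mem_im_of_mem (f := f) (mem_sup_left hx) hx)
    (mem_im_of_mem (f := f) (mem_sup_left hy) hy)).eq
  rw [← mul_inv_eq_one] at this
  simp only [← map_mul, ← map_inv] at this
  exact ⟨h.kN hx, mem_of_eq ((map_eq_one_iff_of_ker hk').1 this) (by simp only [coe_mul, coe_inv]; group)⟩

theorem comm_w {x : G} (hx : x ∈ K) : x ∈ Stb N (w * x * w⁻¹) := by
  obtain ⟨X, _, _, f, hw, hk', h1, h2⟩ := h.exq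
  have := (h2.comm_w h1 (mem_im_of_mem (f := f) (mem_sup_left hx) hx)).eq
  rw [← mul_inv_eq_one] at this
  simp only [← map_mul, ← map_inv] at this
  exact ⟨h.kN hx, mem_of_eq ((map_eq_one_iff_of_ker hk').1 this) (by simp only [coe_mul, coe_inv]; group)⟩

theorem im_Stb {X : Type*} [Group X] {f : ↥(K ⊔ zpowers w) →* X} (hk : f.ker = N.subgroupOf _)
    {x y : G} (hx : x ∈ K) (hy : y ∈ K) :
    x ∈ Stb N y ↔ f ⟨x, mem_sup_left hx⟩ ∈ Cen1 (f ⟨y, mem_sup_left hy⟩) := by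
  rw [c1', ← mul_inv_eq_one, ← map_inv, ← map_inv, ← map_mul, ← map_mul, ← map_mul,
    map_eq_one_iff_of_ker hk, mem_Stb]
  exact and_iff_right (h.kN hx)

theorem cen_index_ne {y : G} (hy : y ∈ K) : (Stb N y).relIndex K ≠ 2 := fun e => by
  obtain ⟨X, _, _, f, hw, hk', h1, h2⟩ := h.exq
  refine h2.cen_index_ne h1 (mem_im_of_mem (f := f) (mem_sup_left hy) hy) ?_
  rw [relIndex_eq_two_iff] at e ⊢
  obtain ⟨a, ha, e⟩ := e
  refine ⟨_, mem_im_of_mem (f := f) (mem_sup_left ha) ha, fun b hb => ?_⟩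
  obtain ⟨⟨c, hc⟩, hb, rfl⟩ := hb
  rename' c => b
  replace hb : b ∈ K := hb
  have := e b hb
  rwa [h.im_Stb hk' (mul_mem hb ha) hy, h.im_Stb hk' hb hy, ← MulMemClass.mk_mul_mk, map_mul] at this

theorem le_Stb {y : G} (hy : y ∈ K) (e : (Stb N y).relIndex K ∣ 2) : K ≤ Stb N y :=
  relIndex_eq_one.1 (((Nat.dvd_prime Nat.prime_two).1 e).resolve_right (h.cen_index_ne hy))

/-- elements of coprime orders commute -/
theorem cop_comm {x y : G} (hx : x ∈ K) (hy : y ∈ K) (hc : (orderOf x).Coprime (orderOf y)) :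
    x ∈ Stb N y := by
  obtain ⟨X, _, _, f, hw, hk', h1, h2⟩ := h.exq
  rw [h.im_Stb hk' hx hy]
  have a := mem_im_of_mem (f := f) (mem_sup_left hx) hx
  have b := mem_im_of_mem (f := f) (mem_sup_left hy) hy
  have c : (orderOf (f ⟨x, mem_sup_left hx⟩)).Coprime (orderOf (f ⟨y, mem_sup_left hy⟩)) :=
    Nat.Coprime.coprime_dvd_left (orderOf_map_dvd f _) (Nat.Coprime.coprime_dvd_right
      (orderOf_map_dvd f _) (by simpa only [← Subgroup.orderOf_coe] using hc))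
  generalize f ⟨x, mem_sup_left hx⟩ = a' at *
  generalize f ⟨y, mem_sup_left hy⟩ = b' at *
  have e1 : (a' * (b' * a' * b'⁻¹)⁻¹) ^ orderOf a' = 1 := by
    rw [(h2.comm_k h1 a b).inv_right.mul_pow, pow_orderOf_eq_one, inv_pow, conj_pow,
      pow_orderOf_eq_one]; simp
  have e2 : (a' * (b' * a' * b'⁻¹)⁻¹) ^ orderOf b' = 1 := by
    rw [show a' * (b' * a' * b'⁻¹)⁻¹ = a' * b' * a'⁻¹ * b'⁻¹ by group,
      (h2.comm_k h1 b a).symm.inv_right.mul_pow, conj_pow, inv_pow, pow_orderOf_eq_one]; simp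
  have e3 := orderOf_eq_one_iff.1 (Nat.eq_one_of_dvd_coprimes c (orderOf_dvd_of_pow_eq_one e1)
    (orderOf_dvd_of_pow_eq_one e2))
  rw [mul_inv_eq_one, eq_mul_inv_iff_mul_eq] at e3
  exact c1.2 e3

end Fp

/-- `f` inverts `w` modulo `K C(K)` -/
def Rf (f w : G) (K : Subgroup G) : Prop :=
  ∃ k ∈ K, ∃ d ∈ Cen K, f * w * f⁻¹ = w⁻¹ * k * d

theorem Fp.refl {w f b : G} {K N : Subgroup G} (h : Fp w K N) (r : Rf f w K) (hb : b ∈ K)
    (h1 : f ∈ Stb N b) (h2 : f ∈ Stb N (w⁻¹ * b * w)) : b ∈ N := by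
  obtain ⟨k, hk, d, hd, e⟩ := r
  have h3 := Stb_conj h2 h.nN
  rw [show w * (w⁻¹ * b * w) * w⁻¹ = b by group] at h3
  have h4 := mul_mem h1 (inv_mem h3)
  have h5 := cmem (mcen h.nK) hd
  have h6 : w * d * w⁻¹ ∈ Stb N b :=
    Stb_of_cen (mcnor (centralizer_anti h.le h5)) (c1s.1 (cen_iff_le.1 h5 hb))
  refine h.fix_mul hb (cmem h.nK hk) (mem_of_eq (mul_mem h4 (inv_mem h6)) ?_)
  calc _ = f * w * f⁻¹ * d⁻¹ * w⁻¹ := by group
    _ = _ := by rw [e, ← h.ww]; group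

end Z6
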