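import Cfsg.Agent.Z6.St

/-! The basic hypothesis: one class of involutions and `C(z) ∩ C(w) = ⟨z, w⟩`. -/

set_option autoImplicit false
set_option linter.unusedVariables false
set_option linter.unusedSectionVars false

namespace Z6

open Cfsg Subgroup FT H4 H5 GW P

universe u

variable {G : Type u} [Group G] [Finite G]

/-- a 2-element -/
def E2 (x : G) : Prop := ∃ k, x ^ 2 ^ k = 1

theorem e2_of_mem {R : Subgroup G} (hR : IsPGroup 2 R) {x : G} (hx : x ∈ R) : E2 x :=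
  H7.pow_eq_one_of_mem hR hx

theorem E2.two {x : G} (h : E2 x) : IsPGroup 2 (zpowers x) := L.PElt.isPGroup_zpowers h

theorem E2.cop {x y : G} (h : E2 x) (hy : Odd (orderOf y)) : (orderOf y).Coprime (orderOf x) := by
  obtain ⟨k, hk⟩ := h
  exact Nat.Coprime.coprime_dvd_right (orderOf_dvd_of_pow_eq_one hk)
    ((odd_iff_cop.1 hy).pow_right k)

theorem E2.eq_one {x : G} (h : E2 x) (hy : Odd (orderOf x)) : x = 1 :=
  orderOf_eq_one_iff.1 (Nat.coprime_self _ |>.1 (h.cop hy))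

theorem mzi {z x : G} (hz : orderOf z = 2) : x ∈ zpowers z ↔ x = 1 ∨ x = z :=
  H9.mem_zpowers_two hz

theorem czi {z : G} (hz : orderOf z = 2) : Nat.card (zpowers z) = 2 := by rw [Nat.card_zpowers, hz]

/-- an element of odd order acting trivially modulo `z` -/
theorem cen_of_Stb {z g y : G} (hz : orderOf z = 2) (hg : Odd (orderOf g))
    (h : g ∈ Stb (zpowers z) y) (hc : g ∈ Cen1 z) : g ∈ Cen1 y := by
  rcases (mzi hz).1 h.2 with e | e
  · exact c1'.2 (mul_inv_eq_one.1 e)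
  · refine absurd (fix_of_odd (y := y⁻¹) (w := z) hg (k := 1) (by rw [pow_one, sq, ii hz])
      (c1.1 hc) ?_) (ine hz)
    rw [← iinv hz, ← e]; group

/-- the basic hypothesis -/
structure Hy (z w : G) : Prop where
  hz : orderOf z = 2
  hw : orderOf w = 3
  c : w ∈ Cen1 z
  cen : Cen1 z ⊓ Cen1 w ≤ zpowers w ⊔ zpowers z
  one : ∀ a, orderOf a = 2 → IsConj z a

/-- `O_{3'}(C(z))` -/
abbrev Kz (z : G) : Subgroup G := pPrimeCoreIn 3 (Cen1 z)
/-- `O_2(C(z))` -/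
abbrev Qz (z : G) : Subgroup G := pCoreIn 2 (Cen1 z)
/-- `O(O_{3'}(C(z)))` -/
abbrev Oz (z : G) : Subgroup G := Oo (Kz z)

theorem conj_Qz (g z : G) : conjS g (Qz z) = Qz (g * z * g⁻¹) := by rw [conjS_pCoreIn, conj_c1]
theorem Qz_le (z : G) : Qz z ≤ Cen1 z := pCoreIn_le _ _
theorem nQz (z : G) : Cen1 z ≤ Nor (Qz z) := le_normalizer_pCoreIn _ _
theorem two_Qz (z : G) : IsPGroup 2 (Qz z) := isPGroup_pCoreIn _ _
theorem Kz_le (z : G) : Kz z ≤ Cen1 z := pPrimeCoreIn_le _ _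
theorem nKz (z : G) : Cen1 z ≤ Nor (Kz z) := le_normalizer_pPrimeCoreIn _ _
theorem nd_Kz (z : G) : ¬ 3 ∣ Nat.card (Kz z) := cop3.1 (coprime_card_pPrimeCoreIn _ _)
theorem Qz_le_Kz (z : G) : Qz z ≤ Kz z :=
  le_pPrimeCoreIn (Qz_le z) (nQz z) (cop3.2 (nd_two (two_Qz z)))
theorem Oz_le (z : G) : Oz z ≤ Kz z := pPrimeCoreIn_le _ _
theorem nOz (z : G) : Cen1 z ≤ Nor (Oz z) := (nKz z).trans (nOo _)
theorem Oz_cen (z : G) : Oz z ≤ Cen (Qz z) :=
  (le_Oo ((Oz_le z).trans (Kz_le z)) (nOz z) (odd_Oo _)).trans (H5.SS.pPrimeCoreIn_le_cen 2 _)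
theorem nzz (z : G) : Cen1 z ≤ Nor (zpowers z) := nzp le_rfl
theorem z_Qz {z : G} (hz : orderOf z = 2) : zpowers z ≤ Qz z :=
  le_pCoreIn (zpowers_le.2 (c1.2 rfl)) (nzz z) (two_zp hz)
theorem Qz_le_syl {z : G} {S : Subgroup G} (hS : IsSylowOf 2 S (Cen1 z)) : Qz z ≤ S :=
  hS.le_of_le_normalizer (two_Qz z) (Qz_le z) (hS.le.trans (nQz z))

namespace Hy
variable {z w : G} (h : Hy z w)
include h

theorem conj (g : G) : Hy (g * z * g⁻¹) (g * w * g⁻¹) :=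
  ⟨iconj h.hz g, by rw [oconj, h.hw], by rw [← conj_c1]; exact conj_mem_conjS h.c, by
    rw [← conj_c1, ← conj_c1, ← conjS_inf]
    refine (conjS_mono g h.cen).trans ?_
    rw [conjS_sup, conjS, conjS, MonoidHom.map_zpowers, MonoidHom.map_zpowers]; rfl,
  fun a ha => (isConj_iff.2 ⟨g, rfl⟩).symm.trans (h.one a ha)⟩

theorem w3 : w ^ 3 = 1 := h.hw ▸ pow_orderOf_eq_one w

theorem exq : ∃ (X : Type u) (_ : Group X) (_ : Finite X) (f : Cen1 z →* X),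
    Function.Surjective f ∧ f.ker = (zpowers z).subgroupOf _ ∧ SC (f ⟨w, h.c⟩) := by
  obtain ⟨X, _, _, f, hf, hk⟩ := exists_hom_ker_eq (nzz z)
  exact ⟨X, _, inferInstance, f, hf, hk, sc_im hf hk (zpowers_le.2 (c1.2 rfl))
    (by rw [czi h.hz]; decide) h.c h.hw h.cen⟩

theorem other {x : G} (hx : x ∈ Cen1 z) (ox : orderOf x = 3) : Hy z x := by
  obtain ⟨X, _, _, f, hf, hk, s⟩ := h.exq
  have zz : zpowers z ≤ Cen1 z := zpowers_le.2 (c1.2 rfl)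
  have s' := s.sc_three (y := f ⟨x, hx⟩) (by
    rw [← map_pow, show (⟨x, hx⟩ : Cen1 z) ^ 3 = 1 from Subtype.ext (ox ▸ pow_orderOf_eq_one x),
      map_one]) fun e => by
    have := (zpowers z).orderOf_dvd_natCard ((map_eq_one_iff_of_ker hk).1 e)
    rw [czi h.hz] at this
    exact absurd (ox ▸ this) (by decide)
  refine ⟨h.hz, ox, hx, (im_le_im_iff hk zz inf_le_left (zpowers_le.2 hx)).1 ?_, h.one⟩
  rw [im_zpowers hx]
  exact ((im_mono inf_le_right).trans (im_centralizer_singleton_le hx)).trans s'.cen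

theorem any {y x : G} (hy : orderOf y = 2) (hx : x ∈ Cen1 y) (ox : orderOf x = 3) : Hy y x := by
  obtain ⟨g, rfl⟩ := isConj_iff.1 (h.one y hy)
  exact (h.conj g).other hx ox

theorem dec {g : G} (h1 : g ∈ Cen1 z) (h2 : g ∈ Cen1 w) :
    ∃ v ∈ zpowers w, ∃ a ∈ zpowers z, v * a = g :=
  (mem_sup_of_le_normalizer_right (nzp (zpowers_le.2 h.c))).1 (h.cen ⟨h1, h2⟩)

theorem fp {K N : Subgroup G} (nK : w ∈ Nor K) (nN : w ∈ Nor N) (le : N ≤ K) (kN : K ≤ Nor N)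
    (nd : ¬ 3 ∣ Nat.card K) (zN : z ∈ N) (hc : ∀ y ∈ K, y ∈ Cen1 w → y ∈ Cen1 z) : Fp w K N := by
  refine ⟨h.hw, nK, nN, le, kN, nd, fun y hy e => ?_⟩
  obtain ⟨v, hv, a, ha, rfl⟩ := h.dec (hc y hy e) e
  have h1 := zpowers_le.2 zN ha
  have h2 := (mul_mem_cancel_right (le h1)).1 hy
  rcases (H9.mem_zpowers_three h.hw).1 hv with rfl | rfl | rfl
  · rwa [one_mul]
  · exact absurd (h.hw ▸ K.orderOf_dvd_natCard h2) nd
  · exact absurd (h.hw ▸ K.orderOf_dvd_natCard (inv_mem_iff.1 h2)) nd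

theorem fp' {K : Subgroup G} (nK : w ∈ Nor K) (nd : ¬ 3 ∣ Nat.card K) (zN : z ∈ K)
    (hc : K ≤ Cen1 z) : Fp w K (zpowers z) :=
  h.fp nK (nzz z h.c) (zpowers_le.2 zN) (hc.trans (nzz z)) nd (mem_zpowers z) fun y hy _ => hc hy

theorem fpK : Fp w (Kz z) (zpowers z) :=
  h.fp' (nKz z h.c) (nd_Kz z) (Qz_le_Kz z (z_Qz h.hz (mem_zpowers z))) (Kz_le z)

theorem fpQ : Fp w (Qz z) (zpowers z) := h.fpK.sub (Qz_le_Kz z) (z_Qz h.hz) (nQz z h.c)

theorem two {y : G} (h1 : y ∈ Cen1 z) (h2 : y ∈ Cen1 w) (e : E2 y) : y ∈ zpowers z :=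
  have n : zpowers y ≤ Nor (zpowers z) := nzp (zpowers_le.2 h1)
  (h.fp' (K := zpowers y ⊔ zpowers z) (msup (mzp (c1s.1 h2)) (mzp h.c))
    (nd_two (e.two.to_sup_of_normal_right' (two_zp h.hz) n)) (mem_sup_right (mem_zpowers z))
    (sup_le (zpowers_le.2 h1) (zpowers_le.2 (c1.2 rfl)))).fix y (mem_sup_left (mem_zpowers y)) h2

/-- an element of order three centralizes at most one non-trivial element of a 2-subgroup -/
theorem fix_uniq {x a b : G} {R : Subgroup G} (ox : orderOf x = 3) (hR : IsPGroup 2 R) (ha : a ∈ R)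
    (hb : b ∈ R) (ca : a ∈ Cen1 x) (cb : b ∈ Cen1 x) (a1 : a ≠ 1) (b1 : b ≠ 1) : a = b := by
  obtain ⟨y, hy, oy, hc⟩ := exists_zinv (P := R ⊓ Cen1 x) hR.to_inf_left fun e =>
    a1 (mem_bot.1 (e ▸ ⟨ha, ca⟩))
  have h1 := h.any oy (c1s.1 hy.2) ox
  rw [((mzi oy).1 (h1.two (hc ⟨ha, ca⟩) ca (e2_of_mem hR ha))).resolve_left a1,
    ((mzi oy).1 (h1.two (hc ⟨hb, cb⟩) cb (e2_of_mem hR hb))).resolve_left b1]

theorem nd3 {a b : G} (f : F4 a b) : ¬ 3 ∣ Nat.card ↥(Cen1 a ⊓ Cen1 b) := fun e => by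
  obtain ⟨x, hx, ox⟩ := exists_orderOf_eq_prime_mem e
  exact f.ne (h.fix_uniq ox f.two_V (a_V a b) (t_V a b) (c1s.1 hx.2) (c1s.1 hx.1) (ine f.ha)
    (ine f.ht))

/-- in an invariant `3'`-subgroup of `C(z)` elements of coprime orders commute -/
theorem nilp {K : Subgroup G} (f : Fp w K (zpowers z)) (hc : K ≤ Cen1 z) : Group.IsNilpotent K :=
  nilp_of_cop fun x hx y hy e => by
    rcases Nat.even_or_odd (orderOf x) with o | o
    · exact c1s.1 (cen_of_Stb h.hz ((Nat.Coprime.coprime_dvd_left o.two_dvd e).odd_of_left)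
        (f.cop_comm hy hx e.symm) (hc hy))
    · exact cen_of_Stb h.hz o (f.cop_comm hx hy e) (hc hx)

theorem mem_Q {x : G} (hx : x ∈ Kz z) (e : E2 x) : x ∈ Qz z :=
  H5.SS.le_pCoreIn_of_le_fit ((zpowers_le.2 hx).trans (le_fittingIn (Kz_le z) (nKz z)
    (h.nilp h.fpK (Kz_le z)))) e.two (mem_zpowers x)

theorem mem_O {x : G} (hx : x ∈ Kz z) (e : Odd (orderOf x)) : x ∈ Oz z :=
  H5.SS.le_pPrimeCoreIn_of_le_fit ((zpowers_le.2 hx).trans (le_fittingIn le_rfl le_normalizer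
    (h.nilp h.fpK (Kz_le z)))) (by rw [Nat.card_zpowers]; exact odd_iff_cop.1 e) (mem_zpowers x)

theorem decK {x : G} (hx : x ∈ Kz z) : ∃ q ∈ Qz z, ∃ o ∈ Oz z, x = q * o := by
  obtain ⟨a, ha, b, hb, e, h1, h2⟩ := exists_pPart 2 x
  exact ⟨a, h.mem_Q (zpowers_le.2 hx ha) h1, b, h.mem_O (zpowers_le.2 hx hb) (odd_iff_cop.2 h2), e⟩

theorem syl_cen {S : Subgroup G} (hS : IsSylowOf 2 S (Cen1 z)) : IsSylowOf 2 S ⊤ := by
  obtain ⟨T, hT, h1⟩ := exists_isSylowOf_ge (two_zp h.hz) le_top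
  obtain ⟨y, h2, h3, h4⟩ := exists_zinv hT.isPGroup fun e =>
    ine h.hz (mem_bot.1 (e ▸ h1 (mem_zpowers z)))
  obtain ⟨g, rfl⟩ := isConj_iff.1 (h.one y h3).symm
  have h5 := hT.map_conj (g := g) (le_normalizer (mem_top g))
  exact h5.of_card_le hS.isPGroup le_top (hS.card_le h5.isPGroup (conj_c1 g y ▸ conjS_mono g h4))

end Hy

end Z6
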