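import Cfsg.Agent.Z6.Ty

/-! A normal four-subgroup of a Sylow 2-subgroup with cyclic centre. -/

set_option autoImplicit false
set_option linter.unusedVariables false
set_option linter.unusedSectionVars false

namespace Z6

open Cfsg Subgroup FT H4 H5 GW P
open H5.Dich (NF)

universe u

variable {G : Type u} [Group G] [Finite G]

theorem o2 {a : G} (h : a * a = 1) (h1 : a ≠ 1) : orderOf a = 2 :=
  orderOf_eq_prime (by rwa [sq]) h1

omit [Finite G] in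
theorem comm_of_sq {a b : G} (ha : a * a = 1) (hb : b * b = 1) (h : a * b * (a * b) = 1) :
    a * b = b * a := by
  rw [← inv_eq_of_mul_eq_one_right h, mul_inv_rev, inv_eq_of_mul_eq_one_right ha,
    inv_eq_of_mul_eq_one_right hb]

omit [Finite G] in
theorem sq_conj {a : G} (ha : a * a = 1) (g : G) : g * a * g⁻¹ * (g * a * g⁻¹) = 1 := by
  rw [show g * a * g⁻¹ * (g * a * g⁻¹) = g * (a * a) * g⁻¹ by group, ha]; group

/-- an involution commutes with its image under `w` -/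
theorem Fp.comm8 {z w a : G} {K : Subgroup G} (f : Fp w K (zpowers z)) (hz : orderOf z = 2)
    (hc : K ≤ Cen1 z) (ha : a ∈ K) (aa : a * a = 1) : w * a * w⁻¹ ∈ Cen1 a := by
  have h1 := f.tri ha
  have h2 := cmem f.nK ha
  have h3 := sq_conj aa w
  have h4 := sq_conj aa w⁻¹
  rw [inv_inv] at h4
  generalize w * a * w⁻¹ = b at *
  generalize w⁻¹ * a * w = c at *
  have e : ∀ d, b * c * a = d → c = b * d * a := fun d e => by
    rw [← e, ← mul_assoc, ← mul_assoc, h3, one_mul, mul_assoc, aa, mul_one]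
  refine c1.2 (comm_of_sq h3 aa ?_)
  rcases (mzi hz).1 h1 with e' | e'
  · rwa [e _ e', mul_one] at h4
  · rw [e _ e', c1.1 (hc h2), mul_assoc z, mul_assoc z, ← mul_assoc (b * a),
      c1.1 (hc (mul_mem h2 ha)), mul_assoc z, ← mul_assoc z z, ii hz, one_mul] at h4
    exact h4

theorem Fp.exists_NF {z w a : G} {K S : Subgroup G} (f : Fp w K (zpowers z)) (hz : orderOf z = 2)
    (hS : IsPGroup 2 S) (hK : K ≤ S) (hc : S ≤ Cen1 z) (ha : a ∈ K) (oa : orderOf a = 2)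
    (az : a ≠ z) : ∃ u, NF S z u := by
  have zK : z ∈ K := f.le (mem_zpowers z)
  have h1 := cmem f.nK ha
  have h2 : ∀ c ∈ zpowers z, w * a * w⁻¹ ≠ c * a := fun c hc e =>
    ((mzi hz).1 (f.fixm ha ⟨f.nN, by rw [e]; simpa using hc⟩)).elim (ine oa) az
  refine H5.Dich.exists_NF hS ⟨_, H5.Dich.r3_of_three (ii hz) (ii oa) (ii (iconj oa w))
    (c1.1 (hc (hK ha))).symm (c1.1 (hc (hK h1))).symm (c1.1 (f.comm8 hz (hK.trans hc) ha (ii oa))).symm
    (ine hz) (ine oa) az.symm (ine (iconj oa w)) (fun e => ?_) (by simpa using h2 1 (one_mem _))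
    (h2 z (mem_zpowers z)) (hK zK) (hK ha) (hK h1)⟩ (hK zK) (ii hz) (ine hz) hc
  have := cmem' f.nN (e ▸ mem_zpowers z : w * a * w⁻¹ ∈ zpowers z)
  rw [show w⁻¹ * (w * a * w⁻¹) * w = a by group] at this
  exact ((mzi hz).1 this).elim (ine oa) az

/-- `⟨z, u⟩` is normal in the Sylow subgroup `S`, whose centre has `z` as unique involution -/
structure NV (z u : G) (S : Subgroup G) : Prop where
  syl : IsSylowOf 2 S (Cen1 z)
  nf : NF S z u
  uq : ∀ y ∈ S, orderOf y = 2 → S ≤ Cen1 y → y = z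

namespace NV
variable {z u : G} {S : Subgroup G} (h : NV z u S)
include h

theorem f4 : F4 z u := ⟨o2 h.nf.tt h.nf.t1, o2 h.nf.uu h.nf.u1, h.nf.comm, h.nf.ne.symm⟩

theorem two : IsPGroup 2 ↥(S ⊓ Cen1 u) := h.syl.isPGroup.to_inf_left

theorem V_le : V4 z u ≤ S ⊓ Cen1 u :=
  GW.V_le ⟨h.nf.t_mem, h.f4.tH⟩ ⟨h.nf.u_mem, c1.2 rfl⟩

theorem T_le : S ⊓ Cen1 u ≤ Cen1 z ⊓ Cen1 u := inf_le_inf_right _ h.nf.cen

theorem not_le : ¬ S ≤ Cen1 u := fun e => h.f4.ne (h.uq u h.nf.u_mem h.f4.ha e)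

theorem idx : (Cen1 u).relIndex S = 2 :=
  ((Nat.dvd_prime Nat.prime_two).1 (h.nf.index le_rfl)).resolve_left fun e =>
    h.not_le (relIndex_eq_one.1 e)

theorem card : Nat.card S = Nat.card ↥(S ⊓ Cen1 u) * 2 := by
  rw [← h.idx, inf_comm, H5.card_inf_mul_relIndex]

theorem act {s : G} (hs : s ∈ S) (h1 : s ∉ Cen1 u) : s * u * s⁻¹ = z * u :=
  ((h.nf.act s hs).resolve_left fun e => h1 (c1'.2 e)).trans h.f4.c.symm

theorem stb {s : G} (hs : s ∈ S) : s ∈ Stb (zpowers z) u :=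
  ⟨mzp (h.nf.cen hs), by
    by_cases e : s ∈ Cen1 u
    · rw [c1'.1 e, mul_inv_cancel]; exact one_mem _
    · rw [h.act hs e, mul_inv_cancel_right]; exact mem_zpowers z⟩

theorem nC : S ≤ Nor (Cen1 z ⊓ Cen1 u) := fun s hs => mnor fun k hk =>
  mem_inf.2 ⟨mul_mem (mul_mem (h.nf.cen hs) hk.1) (inv_mem (h.nf.cen hs)), by
    by_cases e : s ∈ Cen1 u
    · exact mul_mem (mul_mem e hk.2) (inv_mem e)
    · have e1 := h.act (inv_mem hs) fun e' => e (inv_mem_iff.1 e')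
      have e2 := c1'.1 (h.f4.cen_ta hk.1 hk.2)
      rw [inv_inv] at e1
      refine c1'.2 ?_
      calc _ = s * (k * (s⁻¹ * u * s) * k⁻¹) * s⁻¹ := by group
        _ = u := by rw [e1, e2, ← e1]; group⟩

theorem T_eq : S ⊓ (Cen1 z ⊓ Cen1 u) = S ⊓ Cen1 u := by
  rw [← inf_assoc, inf_eq_left.2 h.nf.cen]

theorem nT : S ≤ Nor (S ⊓ Cen1 u) := h.T_eq ▸ ninf le_normalizer h.nC

theorem sylT : IsSylowOf 2 (S ⊓ Cen1 u) (Cen1 z ⊓ Cen1 u) :=
  h.T_eq ▸ h.syl.inf_of_le_normalizer inf_le_left h.nC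

/-- `⟨z, u⟩ = Ω₁ Z(T)` -/
theorem omega {y : G} (hy : y ∈ S) (yy : y * y = 1) (hc : S ⊓ Cen1 u ≤ Cen1 y) : y ∈ V4 z u := by
  obtain ⟨s, hs, h1⟩ := SetLike.not_le_iff_exists.1 h.not_le
  have key : ∀ y ∈ S, y * y = 1 → S ⊓ Cen1 u ≤ Cen1 y → s ∈ Cen1 y → y = 1 ∨ y = z :=
    fun y hy yy hc h2 => or_iff_not_imp_left.2 fun e => h.uq y hy (o2 yy e) fun g hg => by
      by_cases e' : g ∈ Cen1 u
      · exact hc ⟨hg, e'⟩
      · exact (mul_mem_cancel_left h2).1 (hc ⟨mul_mem hs hg, h.nf.mul_mem_cen hs hg h1 e'⟩)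
  have yu : y ∈ Cen1 u := c1s.1 (hc (h.V_le (a_V z u)))
  have h2 : S ⊓ Cen1 u ≤ Cen1 (s * y * s⁻¹) := fun g hg => by
    rw [← conj_c1, mem_conjS]; exact hc (cmem' (h.nT hs) hg)
  have h3 : s * y * s⁻¹ * y = y * (s * y * s⁻¹) := (c1.1 (h2 ⟨hy, yu⟩)).symm
  have h4 := c1'.1 (hc ⟨mul_mem hs hs, h.nf.sq_mem hs⟩)
  have m : ∀ {a b : G}, S ⊓ Cen1 u ≤ Cen1 a → S ⊓ Cen1 u ≤ Cen1 b → S ⊓ Cen1 u ≤ Cen1 (a * b) :=
    fun ha hb g hg => c1s.1 (mul_mem (c1s.1 (ha hg)) (c1s.1 (hb hg)))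
  have zV := t_V z u
  have uV := a_V z u
  rcases key (s * y * s⁻¹ * y) (mul_mem (mul_mem (mul_mem hs hy) (inv_mem hs)) hy) (by
      nth_rewrite 2 [h3]
      rw [mul_assoc, ← mul_assoc y, yy, one_mul, sq_conj yy]) (m h2 hc) (c1'.2 (by
      rw [show s * (s * y * s⁻¹ * y) * s⁻¹ = s * s * y * (s * s)⁻¹ * (s * y * s⁻¹) by group, h4,
        h3])) with e | e
  · rcases key y hy yy hc (c1'.2 (by
      rw [eq_inv_of_mul_eq_one_left e, inv_eq_of_mul_eq_one_right yy])) with rfl | rfl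
    exacts [one_mem _, zV]
  · have e1 : s * y * s⁻¹ = z * y := by rw [← e, mul_assoc _ y y, yy, mul_one]
    have e2 := c1.1 (h.nf.cen hy)
    refine (mul_mem_cancel_right uV).1 ((key (y * u) (mul_mem hy h.nf.u_mem) (by
      rw [mul_assoc, ← mul_assoc u, ← c1.1 yu, mul_assoc, h.nf.uu, mul_one, yy])
      (m hc inf_le_right) (c1'.2 ?_)).elim (· ▸ one_mem _) (· ▸ zV))
    rw [show s * (y * u) * s⁻¹ = s * y * s⁻¹ * (s * u * s⁻¹) by group, e1, h.act hs h1, ← e2,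
      mul_assoc, ← mul_assoc z, h.nf.tt, one_mul]

theorem exists_x {w : G} (hy : Hy z w) : ∃ x, orderOf x = 3 ∧ x ∈ Nor (S ⊓ Cen1 u) ∧
    x * z * x⁻¹ = u ∧ x * u * x⁻¹ = z * u := by
  have f := h.f4
  obtain ⟨s, hs, h1⟩ := SetLike.not_le_iff_exists.1 h.not_le
  obtain ⟨R, hR, h2⟩ := exists_isSylowOf_ge h.two inf_le_right
  obtain ⟨g, e⟩ := isConj_iff.1 (hy.one u f.ha)
  have c : Nat.card R = Nat.card S := by
    have := hy.conj g
    rw [e] at this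
    rw [(this.syl_cen hR).card_eq, (hy.syl_cen h.syl).card_eq]
  have h3 := lt_inf_normalizer_of_isPGroup hR.isPGroup (lt_of_le_of_ne h2 fun e => by
    have := h.card
    rw [e, ← c] at this
    have := Nat.card_pos (α := R)
    omega)
  obtain ⟨r, h4, h6⟩ := SetLike.exists_of_lt h3
  obtain ⟨h4, h5⟩ := mem_inf.1 h4
  have ru := hR.le h4
  have h7 : r * z * r⁻¹ = z * u := by
    rcases f.mem_V.1 (h.omega (cmem h5 (h.V_le (t_V z u))).1 (sq_conj h.nf.tt r) fun k hk => by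
      rw [← conj_c1, mem_conjS]; exact (h.T_le (cmem' h5 hk)).1) with e | e | e | e
    · exact absurd e (ine (iconj f.ht r))
    · exact absurd (h.sylT.le_of_le_normalizer' (e2_of_mem hR.isPGroup h4).two
        (zpowers_le.2 ⟨c1'.2 e, ru⟩) (zpowers_le.2 h5) (mem_zpowers r)) h6
    · exact absurd ((conj_injective (x := r) (e.trans (c1'.1 ru).symm)).symm) f.ne
    · exact e
  have sz := c1'.1 (h.nf.cen hs)
  have a1 : s * r * z * (s * r)⁻¹ = u := by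
    rw [show s * r * z * (s * r)⁻¹ = s * (r * z * r⁻¹) * s⁻¹ by group, h7,
      show s * (z * u) * s⁻¹ = s * z * s⁻¹ * (s * u * s⁻¹) by group, sz, h.act hs h1, f.tta]
  have a2 : s * r * u * (s * r)⁻¹ = z * u := by
    rw [show s * r * u * (s * r)⁻¹ = s * (r * u * r⁻¹) * s⁻¹ by group, c1'.1 ru, h.act hs h1]
  have a0 := mul_mem (h.nT hs) h5
  generalize s * r = g at a0 a1 a2
  have a3 : g * (z * u) * g⁻¹ = z := by
    rw [show g * (z * u) * g⁻¹ = g * z * g⁻¹ * (g * u * g⁻¹) by group, a1, a2, f.ata]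
  have a4 : g ^ 3 ∈ Cen1 z ⊓ Cen1 u := ⟨c1'.2 (by
      rw [show g ^ 3 * z * (g ^ 3)⁻¹ = g * (g * (g * z * g⁻¹) * g⁻¹) * g⁻¹ by rw [pow_three']; group,
        a1, a2, a3]),
    c1'.2 (by
      rw [show g ^ 3 * u * (g ^ 3)⁻¹ = g * (g * (g * u * g⁻¹) * g⁻¹) * g⁻¹ by rw [pow_three']; group,
        a2, a3, a1])⟩
  have a5 : ¬ 3 ∣ orderOf (g ^ 3) := fun e => hy.nd3 f (e.trans (orderOf_dvd_natCard _ a4))
  obtain ⟨k, hk⟩ : ∃ k, orderOf (g ^ 3) * orderOf (g ^ 3) = 1 + 3 * k := by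
    generalize orderOf (g ^ 3) = m at a5
    refine ⟨m * m / 3, ?_⟩
    have : m * m % 3 = 1 := by
      rw [Nat.mul_mod]
      rcases (by omega : m % 3 = 1 ∨ m % 3 = 2) with e | e <;> rw [e]
    omega
  have a6 := pow_mem a4 k
  have b1 : g * (g ^ 3) ^ k * z * (g * (g ^ 3) ^ k)⁻¹ = u := by
    rw [← a1]; nth_rewrite 2 [← c1'.1 a6.1]; group
  refine ⟨g * (g ^ 3) ^ k, orderOf_eq_prime (p := 3) ?_ fun e => f.ne ?_,
    mul_mem a0 (pow_mem (pow_mem a0 3) k), b1, ?_⟩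
  · rw [← pow_mul, ← pow_succ', add_comm, ← hk, ← pow_mul, mul_comm, pow_mul, pow_mul,
      pow_orderOf_eq_one, one_pow]
  · rw [← b1, e]; group
  · rw [← a2]; nth_rewrite 2 [← c1'.1 a6.2]; group

end NV

end Z6
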