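import Cfsg.Agent.Z6.F
import Cfsg.Agent.J1.Loc
import Cfsg.Agent.BS.SE

/-! Groups with a self-centralizing element of order three. -/

set_option autoImplicit false
set_option linter.unusedVariables false
set_option linter.unusedSectionVars false

namespace Z6

open Cfsg Subgroup FT H4 H5 GW P
open scoped MatrixGroups

universe u

variable {G : Type u} [Group G] [Finite G]

theorem cop3 {n : ℕ} : n.Coprime 3 ↔ ¬ 3 ∣ n := by
  rw [Nat.coprime_comm, Nat.Prime.coprime_iff_not_dvd Nat.prime_three]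

omit [Finite G] in
theorem comm_sq {V : Subgroup G} (h : ∀ v ∈ V, v * v = 1) {a b : G} (ha : a ∈ V) (hb : b ∈ V) :
    a * b = b * a := by
  rw [← inv_eq_of_mul_eq_one_right (h _ (mul_mem ha hb)), mul_inv_rev,
    inv_eq_of_mul_eq_one_right (h a ha), inv_eq_of_mul_eq_one_right (h b hb)]

theorem nilp_of_cop {K : Subgroup G}
    (h : ∀ x ∈ K, ∀ y ∈ K, (orderOf x).Coprime (orderOf y) → x ∈ Cen1 y) : Group.IsNilpotent K := by
  refine ((Group.isNilpotent_of_finite_tfae (G := K)).out 0 3).mpr fun p hp P => ?_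
  refine normal_of_top_le_normalizer (le_of_forall_sylow fun r _ _ => ?_)
  by_cases e : r = p
  · subst e; exact ⟨P, isSylowOf_top P, le_normalizer⟩
  · obtain ⟨R, hR⟩ := exists_isSylowOf r (⊤ : Subgroup K)
    refine ⟨R, hR, cnor fun x hx => cen.2 fun y hy => Subtype.ext (c1.1 (h _ x.2 _ y.2 ?_))⟩
    obtain ⟨a, ha⟩ := H7.pow_eq_one_of_mem hR.isPGroup hx
    obtain ⟨b, hb⟩ := H7.pow_eq_one_of_mem P.isPGroup' hy
    rw [orderOf_coe, orderOf_coe]
    exact Nat.Coprime.coprime_dvd_left (orderOf_dvd_of_pow_eq_one ha) (Nat.Coprime.coprime_dvd_right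
      (orderOf_dvd_of_pow_eq_one hb) (Nat.Coprime.pow _ _ ((Nat.coprime_primes Fact.out hp.out).2 e)))

theorem sc_im {X : Type*} [Group X] {L M : Subgroup G} {f : L →* X} (hf : Function.Surjective f)
    (hk : f.ker = M.subgroupOf L) (hM : M ≤ L) (h3 : ¬ 3 ∣ Nat.card M) {w : G} (hw : w ∈ L)
    (ow : orderOf w = 3) (hc : L ⊓ Cen1 w ≤ zpowers w ⊔ M) : SC (f ⟨w, hw⟩) := by
  refine ⟨orderOf_map_eq_prime f (by rw [← Subgroup.orderOf_coe]; exact ow) fun e =>
      h3 (ow ▸ M.orderOf_dvd_natCard ((map_eq_one_iff_of_ker hk).1 e)), ?_⟩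
  have := im_inf_centralizer_singleton hk (K := L) hw (le_normalizer hw) (by
      rw [ow]
      exact (Nat.Prime.coprime_iff_not_dvd Nat.prime_three).2 (not_dvd_of_le inf_le_right h3))
  rw [im_self hf, top_inf_eq] at this
  rw [Cen1, ← this, ← im_zpowers hw]
  exact (im_le_im_iff hk hM inf_le_left (zpowers_le.2 hw)).2 hc

theorem fp_of {w : G} {K : Subgroup G} (h : SC w) (k : I3 w K) : Fp w K ⊥ :=
  ⟨h.ord, k.nor, le_normalizer_bot ⊤ (mem_top _), bot_le, le_normalizer_bot _, k.nd,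
    fun y hy e => k.fpf h hy (c1.1 e)⟩

theorem sc_mem {w : G} (h : SC w) {N : Subgroup G} (hN : N.Normal) (h3 : 3 ∣ Nat.card N) :
    w ∈ N := by
  obtain ⟨y, hy, oy⟩ := exists_orderOf_eq_prime_mem h3
  obtain ⟨g, e | e⟩ := h.conj_three (oy ▸ pow_orderOf_eq_one y) fun e => by simp [e] at oy
  · exact e ▸ hN.conj_mem y hy g
  · exact inv_mem_iff.1 (e ▸ hN.conj_mem y hy g)

theorem sc_simple {w u : G} (h : SC w) (h0 : pPrimeCoreIn 3 (⊤ : Subgroup G) = ⊥)
    (hu : orderOf u = 2) (h3 : (u * w) ^ 3 = 1) : IsSimpleGroup G ∧ ¬ IsMulCommutative G := by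
  have : Nontrivial G := ⟨w, 1, h.ne⟩
  have hn : u ∉ Nor (zpowers w) := fun e => (h.nor_cases e).elim (fun e => by
    have := (zpowers w).orderOf_dvd_natCard e
    rw [hu, h.card_zp] at this; omega) fun e => by
    have h1 := h.ord_inv (t := u * w) (by rw [← e]; group)
    have := orderOf_dvd_of_pow_eq_one h3
    rw [h1] at this; omega
  refine ⟨⟨fun N hN => or_iff_not_imp_left.2 fun h1 => ?_⟩, fun hc =>
    hn (mzp (c1.2 (hc.is_comm.comm _ _)))⟩
  have nN : ⊤ ≤ Nor N := le_normalizer_of_normal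
  have hw : w ∈ N := sc_mem h hN (by
    by_contra e
    exact h1 (le_bot_iff.1 (h0 ▸ le_pPrimeCoreIn le_top nN (cop3.2 e))))
  have s := h.syl.of_le (zpowers_le.2 hw) le_top
  have fr : ∀ g, ∃ n ∈ N, n⁻¹ * g ∈ Nor (zpowers w) := fun g => s.frattini (nN (mem_top g))
  by_cases ht : ∃ t ∈ N, t * w * t⁻¹ = w⁻¹
  · obtain ⟨t, ht, e⟩ := ht
    refine eq_top_iff.2 fun g _ => ?_
    obtain ⟨n, h2, h4⟩ := fr g
    refine (mul_mem_cancel_left (inv_mem h2)).1 ((h.nor_cases h4).elim (zpowers_le.2 hw ·)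
      fun e' => (mul_mem_cancel_left (inv_mem ht)).1 (zpowers_le.2 hw (h.inv_mul_mem e e')))
  · have h2 := Burnside_normal_complement s (fun n hn => (cen_zp w).ge (h.cen_eq.ge
      ((h.nor_cases hn.2).resolve_right fun e => ht ⟨n, hn.1, e⟩)))
    have h4 : pPrimeCoreIn 3 N = ⊥ := le_bot_iff.1 (h0 ▸ le_pPrimeCoreIn le_top
      (nN.trans (normalizer_le_normalizer_pPrimeCoreIn 3 N)) (coprime_card_pPrimeCoreIn 3 N))
    obtain ⟨n, h5, h6⟩ := fr u
    rw [← h2.sup, h4, bot_sup_eq] at h5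
    exact absurd ((mul_mem_cancel_left (inv_mem (le_normalizer h5))).1 h6) hn

theorem sc_kill {X : Type*} [Group X] [Finite X] [IsSimpleGroup X] {w : G} (h : SC w)
    {K : Subgroup G} {f : (⊤ : Subgroup G) →* X} (hf : Function.Surjective f)
    (hk : f.ker = K.subgroupOf ⊤) (h3 : ¬ 3 ∣ Nat.card K) {r : ℕ} [hr : Fact r.Prime] (r3 : r ≠ 3)
    {R : Subgroup X} (hR : IsPGroup r R) (h0 : R ≠ ⊥) (hv : f ⟨w, mem_top w⟩ ∈ Nor R) :
    IsPGroup r K := by
  have nK := le_normalizer_of_ker hk le_top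
  have i3 : I3 w (pre f R) := ⟨le_normalizer_pre le_top (A := zpowers w)
    (by rw [im_zpowers (mem_top w)]; exact zpowers_le.2 hv) (mem_zpowers w), by
      rw [card_pre hf hk le_top]
      obtain ⟨n, hn⟩ := H7.card_eq_pow_of_le hR
      exact fun e => (Nat.prime_three.dvd_mul.1 e).elim (fun e => r3 ((Nat.prime_dvd_prime_iff_eq
        Nat.prime_three hr.out).1 (Nat.prime_three.dvd_of_dvd_pow (hn ▸ e))).symm) h3⟩
  have fp := fp_of h i3
  have KR := le_pre_of_ker hk le_top R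
  let C : Subgroup G := centralizer {k | k ∈ K ∧ (orderOf k).Coprime r}
  have nC : C.Normal := ⟨fun c hc g => mem_centralizer_iff.2 fun k hk' => by
    have := hc (g⁻¹ * k * g) ⟨cmem' (nK (mem_top g)) hk'.1, by rw [H9.orderOf_conj']; exact hk'.2⟩
    calc _ = g * (g⁻¹ * k * g * c) * g⁻¹ := by group
      _ = _ := by rw [this]; group⟩
  obtain ⟨b, hb, b1⟩ := (ne_bot_iff_exists_ne_one.1 h0 : ∃ b : R, b ≠ 1).imp' Subtype.val
    (q := fun b => b ∈ R ∧ b ≠ 1) fun b e => ⟨b.2, fun e' => e (Subtype.ext e')⟩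
  obtain ⟨⟨a, ta⟩, rfl⟩ := hf b
  obtain ⟨a1, h1, a2, h2, e, ⟨n, hn⟩, h4⟩ := exists_pPart r a
  have ha : zpowers a ≤ pre f R := zpowers_le.2 (mem_pre.2 ⟨ta, hb⟩)
  have h5 : a1 ∈ C := mem_centralizer_iff.2 fun k hk' => (c1.1 (Stb_bot k ▸ fp.cop_comm (ha h1)
    (KR hk'.1) (Nat.Coprime.coprime_dvd_left (orderOf_dvd_of_pow_eq_one hn)
      (hk'.2.symm.pow_left n)))).symm
  have h6 : f ⟨a2, mem_top _⟩ = 1 := by
    obtain ⟨_, h6⟩ := mem_pre.1 (ha h2)
    obtain ⟨m, hm⟩ := H7.pow_eq_one_of_mem hR h6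
    exact orderOf_eq_one_iff.1 (Nat.eq_one_of_dvd_coprimes (h4.pow_right m) (by
      rw [← orderOf_mk a2 (mem_top _)]; exact orderOf_map_dvd f _) (orderOf_dvd_of_pow_eq_one hm))
  have h7 : (im f C).Normal := normal_of_top_le_normalizer (im_self hf ▸ im_le_normalizer
    (le_normalizer_of_normal (H := C) (K := ⊤)))
  have h8 := (h7.eq_bot_or_eq_top).resolve_left fun e' => b1 (by
    have := mem_bot.1 (e' ▸ mem_im_of_mem (f := f) (mem_top a1) h5)
    rw [show (⟨a, ta⟩ : (⊤ : Subgroup G)) = ⟨a1, mem_top _⟩ * ⟨a2, mem_top _⟩ from Subtype.ext e,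
      map_mul, this, h6, mul_one])
  have h9 : w ∈ C := sc_mem h nC (by
    have e1 := pre_im hk le_top (le_top : C ≤ ⊤)
    rw [h8, pre_top] at e1
    have e2 := card_sup_dvd (K := C) (A := K) le_normalizer_of_normal
    rw [← e1] at e2
    exact (Nat.prime_three.dvd_mul.1 ((h.ord ▸ (⊤ : Subgroup G).orderOf_dvd_natCard
      (mem_top w)).trans e2)).resolve_right h3)
  intro k
  obtain ⟨k1, h1, k2, h2, e, ⟨n, hn⟩, h4⟩ := exists_pPart r (k : G)
  have := i3.fpf h (KR (zpowers_le.2 k.2 h2)) (h9 k2 ⟨zpowers_le.2 k.2 h2, h4⟩)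
  exact ⟨n, Subtype.ext (by rw [coe_pow, e, this, mul_one, hn, coe_one])⟩

/-- the structure of a group with a self-centralizing element of order three -/
theorem sc_struct {w : G} (h : SC w) :
    (∀ g, ∃ k ∈ pPrimeCoreIn 3 (⊤ : Subgroup G), ∃ n ∈ Nor (zpowers w), k * n = g) ∨
    (IsPGroup 2 (pPrimeCoreIn 3 (⊤ : Subgroup G)) ∧ ∃ f : (⊤ : Subgroup G) →* alternatingGroup (Fin 5),
      Function.Surjective f ∧ f.ker = (pPrimeCoreIn 3 ⊤).subgroupOf ⊤) ∨
    (Nat.card G = 168 ∧ (∀ a b : G, orderOf a = 2 → orderOf b = 2 → IsConj a b) ∧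
      ∃ v : G, orderOf v = 4) := by
  have h3 := cop3.1 (coprime_card_pPrimeCoreIn 3 (⊤ : Subgroup G))
  obtain ⟨X, _, _, f, hf, hk⟩ := exists_hom_ker_eq (le_normalizer_pPrimeCoreIn 3 (⊤ : Subgroup G))
  have s := sc_im hf hk le_top h3 (mem_top w) h.ord (inf_le_right.trans (h.cen.trans le_sup_left))
  have h0 := pPrimeCoreIn_im_eq_bot hf hk le_rfl
  rw [im_self hf] at h0
  by_cases hu : ∀ u, orderOf u = 2 → (u * f ⟨w, mem_top w⟩) ^ 3 ≠ 1
  · refine Or.inl fun g => ?_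
    obtain ⟨K, k1, k2, k3⟩ := s.lemX hu
    obtain ⟨k, hk', n, hn, e⟩ := k3 (f ⟨g, mem_top g⟩)
    rw [mem_bot.1 (h0.le (le_pPrimeCoreIn le_top le_normalizer_of_normal (cop3.2 k2) hk')),
      one_mul] at e
    rw [← im_zpowers, Nor, ← im_normalizer hf hk le_top (by rw [h.card_zp]; exact (cop3.2 h3).symm)
      (Or.inl (solv_zp w)), e] at hn
    obtain ⟨m, h1, h2⟩ := mem_im.1 hn
    refine ⟨g * (m : G)⁻¹, (map_eq_one_iff_of_ker hk (x := ⟨g, mem_top g⟩ * m⁻¹)).1 ?_, m, h1, by simp⟩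
    rw [map_mul, map_inv, h2, mul_inv_cancel]
  push Not at hu
  obtain ⟨u, hu, u3⟩ := hu
  obtain ⟨_, hc⟩ := sc_simple s h0 hu u3
  obtain ⟨f4, n4⟩ := s.four hu u3
  have k2 := sc_kill h hf hk h3 (r := 2) (by decide) f4.two_V
    (fun e => ine hu (mem_bot.1 (e ▸ t_V _ _))) n4
  right
  rcases three hc BS.seThm s with ⟨⟨e⟩⟩ | ⟨⟨e⟩⟩ | ⟨⟨e⟩⟩
  · exact Or.inl ⟨k2, e.toMonoidHom.comp f, e.surjective.comp hf, by
      rw [← hk, MonoidHom.ker_comp_of_injective _ _ e.injective]⟩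
  · have := s.syl.card_eq
    rw [s.card_zp, card_top, Nat.card_congr e.toEquiv, nat_card_alternatingGroup] at this
    simp only [Nat.card_eq_fintype_card, Fintype.card_fin] at this
    exact absurd this (by decide +kernel)
  right
  have := Fact.mk (show Nat.Prime 7 by decide)
  have c : Nat.card X = 168 := by
    have := card_psl (F := ZMod 7) (by rw [ZMod.card]; decide)
    rw [ZMod.card, ← Nat.card_congr e.toEquiv] at this
    omega
  obtain ⟨σ, s1, s2, k, s3⟩ := J1.fix7 c s.cube s.ne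
  have k7 := sc_kill h hf hk h3 (r := 7) (by decide) (R := zpowers σ)
    (IsPGroup.of_card (n := 1) (by rw [Nat.card_zpowers, orderOf_eq_prime s1 s2]; rfl))
    (zpowers_ne_bot.2 s2) (mnor fun y hy => by
      obtain ⟨i, rfl⟩ := mem_zpowers_iff.1 hy
      rw [← conj_zpow, s3]; exact zpow_mem (pow_mem (mem_zpowers _) _) _)
  have k0 := eq_bot_of_isPGroup_of_not_dvd k7 (by
    obtain ⟨n, hn⟩ := H7.card_eq_pow_of_le k2
    rw [hn]; exact fun e => absurd ((show Nat.Prime 7 by decide).dvd_of_dvd_pow e) (by decide))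
  let e' : G ≃* X := topEquiv.symm.trans (MulEquiv.ofBijective f ⟨(MonoidHom.ker_eq_bot_iff f).1
    (by rw [hk, k0, bot_subgroupOf]), hf⟩)
  obtain ⟨t, ht⟩ := s.exists_inv hc
  have c1 := (s.exists_num hc ht).1
  refine ⟨by rw [Nat.card_congr e'.toEquiv, c], fun a b ha hb => ?_, ?_⟩
  · have := e'.symm.toMonoidHom.map_isConj ((c1 _ ((e'.orderOf_eq a).trans ha)).symm.trans
      (c1 _ ((e'.orderOf_eq b).trans hb)))
    simpa using this
  suffices ∃ v : X, orderOf v = 4 from this.elim fun v hv => ⟨e'.symm v, by rw [e'.symm.orderOf_eq, hv]⟩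
  by_contra h4
  obtain ⟨T, hT, hV⟩ := exists_isSylowOf_ge f4.two_V le_top
  have c8 : Nat.card T = 8 := by rw [hT.card_eq, card_top, c]; decide +kernel
  have sq : ∀ y ∈ T, y * y = 1 := fun y hy => by
    have := T.orderOf_dvd_natCard hy
    rw [c8] at this
    rcases (Nat.dvd_prime_pow (m := 3) Nat.prime_two).1 this with ⟨i, hi, e⟩
    interval_cases i
    · rw [orderOf_eq_one_iff.1 e, mul_one]
    · exact ii e
    · exact absurd ⟨y, e⟩ h4
    · exact absurd ⟨y ^ 2, by rw [orderOf_pow' _ two_ne_zero, e]; rfl⟩ h4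
  have hC : T ≤ Cen (V4 u (f ⟨w, mem_top w⟩ * u * (f ⟨w, mem_top w⟩)⁻¹)) := fun x hx =>
    cen.2 fun y hy => comm_sq sq hx (hV hy)
  have n3 := not_dvd_of_le ((cen_V u (f ⟨w, mem_top w⟩ * u * (f ⟨w, mem_top w⟩)⁻¹)).le.trans
    inf_le_left) (s.nd_cen hu)
  have m := (I3.mk (mcen n4) n3).card_mod s
  have d1 := c8 ▸ card_dvd_of_le hC
  have d2 := c ▸ card_subgroup_dvd_card (Cen (V4 u (f ⟨w, mem_top w⟩ * u * (f ⟨w, mem_top w⟩)⁻¹)))
  generalize Nat.card (Cen (V4 u (f ⟨w, mem_top w⟩ * u * (f ⟨w, mem_top w⟩)⁻¹))) = n at *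
  have := Nat.le_of_dvd (by norm_num) d2
  obtain ⟨j, rfl⟩ := d1
  have : j ≤ 21 := by omega
  interval_cases j <;> omega

end Z6
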