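import Cfsg.Agent.Z6.Nf
import Cfsg.Agent.H3.SimpleCrit

/-! The case where `w` normalizes a Sylow 2-subgroup. -/

set_option autoImplicit false
set_option linter.unusedVariables false
set_option linter.unusedSectionVars false

namespace Z6

open Cfsg Subgroup FT H4 H5 GW P
open H5.Dich (NF)

universe u

variable {G : Type u} [Group G] [Finite G]

theorem Hy.card_fix {z w x : G} (h : Hy z w) (ox : orderOf x = 3) {T : Subgroup G}
    (hT : IsPGroup 2 T) (hx : x ∈ Nor T) :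
    (Nat.card T % 3 = 1 ∧ Fp x T ⊥) ∨ (Nat.card T % 3 = 2 ∧ ∃ y ∈ T, y ∈ Cen1 x ∧ orderOf y = 2) := by
  have e := H3.card_modEq_inf_centralizer Nat.prime_three (ox ▸ pow_orderOf_eq_one x) T
    fun y hy => cmem hx hy
  by_cases h0 : T ⊓ Cen1 x = ⊥
  · rw [h0, card_bot] at e
    exact Or.inl ⟨e, ox, hx, le_normalizer_bot ⊤ (mem_top _), bot_le, le_normalizer_bot _, nd_two hT,
      fun y h1 h2 => h0 ▸ ⟨h1, h2⟩⟩
  · obtain ⟨y, h1, h2⟩ := exists_inv_mem hT.to_inf_left h0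
    rw [le_antisymm (fun a ha => (eq_or_ne a 1).elim (· ▸ one_mem _) fun a1 =>
      h.fix_uniq ox hT ha.1 h1.1 ha.2 h1.2 a1 (ine h2) ▸ mem_zpowers a) (zpowers_le.2 h1), czi h2] at e
    exact Or.inr ⟨e, y, h1.1, h1.2, h2⟩

theorem NV.not_nor {z u w : G} {S : Subgroup G} (n : NV z u S) (h : Hy z w) : w ∉ Nor S := fun hw => by
  have f := h.fp' hw (nd_two n.syl.isPGroup) n.nf.t_mem n.nf.cen
  obtain ⟨x, ox, hx, x1, x2⟩ := n.exists_x h
  have c := f.card_mod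
  have c2 := H5.card_mul_relIndex f.le
  rw [czi h.hz, n.card] at c2
  rcases h.card_fix ox n.two hx with ⟨-, g⟩ | ⟨e, -⟩
  swap; · omega
  have uS := n.nf.u_mem
  have e1 : w * u * w⁻¹ ∈ S ⊓ Cen1 u := ⟨cmem hw uS, f.comm8 h.hz n.nf.cen uS n.nf.uu⟩
  have e2 := g.le_Stb e1 (by
    rw [Stb_bot]
    refine H5.Dich.relIndex_dvd_two (w := z * (w * u * w⁻¹)) fun y hy => ?_
    have := (Stb_conj (n.stb (cmem' hw hy.1)) f.nN).2
    rw [show w * (w⁻¹ * y * w) * w⁻¹ = y by group] at this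
    exact ((mzi h.hz).1 this).imp mul_inv_eq_one.1 mul_inv_eq_iff_eq_mul.1)
  rw [Stb_bot] at e2
  have e3 : u ∉ zpowers z := fun e => ((mzi h.hz).1 e).elim n.nf.u1 n.f4.ne
  rcases n.f4.mem_V.1 (n.omega e1.1 (sq_conj n.nf.uu w) e2) with e | e | e | e
  · exact ine (iconj n.f4.ha w) e
  · exact n.f4.ne (conj_injective (x := w) (e.trans (c1'.1 h.c).symm))
  · exact e3 (f.fixm uS ⟨f.nN, by rw [e, mul_inv_cancel]; exact one_mem _⟩)
  · exact e3 (f.fixm uS ⟨f.nN, by rw [e, mul_inv_cancel_right]; exact mem_zpowers z⟩)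

/-- `Ω₁ Z(S)` -/
def ZS (S : Subgroup G) : Subgroup G where
  carrier := {y | y ∈ S ∧ y * y = 1 ∧ S ≤ Cen1 y}
  one_mem' := ⟨one_mem _, mul_one _, fun g _ => c1.2 (by simp)⟩
  mul_mem' {a b} ha hb := ⟨mul_mem ha.1 hb.1, by
    rw [mul_assoc, ← mul_assoc b, c1.1 (ha.2.2 hb.1), mul_assoc, hb.2.1, mul_one, ha.2.1],
    fun g hg => c1s.1 (mul_mem (c1s.1 (ha.2.2 hg)) (c1s.1 (hb.2.2 hg)))⟩
  inv_mem' {a} ha := by rwa [inv_eq_of_mul_eq_one_right ha.2.1]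

theorem nZS (S : Subgroup G) : Nor S ≤ Nor (ZS S) := fun g hg => mnor fun k hk =>
  ⟨cmem hg hk.1, sq_conj hk.2.1 g, le_cen_conj hg hk.2.2⟩

theorem Hy.fuse {z w y : G} (h : Hy z w) {S : Subgroup G} (hS : IsSylowOf 2 S (Cen1 z))
    (oy : orderOf y = 2) (hy : S ≤ Cen1 y) : ∃ n ∈ Nor S, n * z * n⁻¹ = y := by
  obtain ⟨g, e⟩ := isConj_iff.1 (h.one y oy)
  obtain ⟨n, -, h1, h2⟩ := W.burnside_fusion (h.syl_cen hS) (cen_iff_le.2 hS.le) (mem_top g)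
    (e ▸ cen_iff_le.2 hy)
  exact ⟨n, h1, h2.trans e⟩

theorem Hy.elem_of {z w y : G} (h : Hy z w) {S : Subgroup G} (hS : IsSylowOf 2 S (Cen1 z))
    (hw : w ∈ Nor S) (oy : orderOf y = 2) (hy : S ≤ Cen1 y) (yz : y ≠ z) : S ≤ ZS S := by
  have zS : z ∈ S := Qz_le_syl hS (z_Qz h.hz (mem_zpowers z))
  have s' := (h.syl_cen hS).of_le le_normalizer le_top
  have hc : ∀ g ∈ Nor S, g ∈ Cen1 w → g ∈ Cen1 z := fun g h1 h2 => c1'.2 (((mzi h.hz).1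
    (h.two (hS.le (cmem h1 zS)) (by
      have := cmem (mc1 h2) (c1s.1 h.c); exact this) (e2_of_mem hS.isPGroup (cmem h1 zS)))).resolve_left
      (ine (iconj h.hz g)))
  obtain ⟨X, _, _, f, hf, hk⟩ := exists_hom_ker_eq (le_rfl : Nor S ≤ Nor S)
  have s := sc_im hf hk le_normalizer (nd_two hS.isPGroup) hw h.hw fun g hg =>
    sup_le_sup_left (zpowers_le.2 zS) _ (h.cen ⟨hc g hg.1 hg.2, hg.2⟩)
  have od : ∀ u : X, orderOf u ≠ 2 := fun u hu => s'.not_dvd (by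
    have e1 := card_eq_card_im_mul hk (le_rfl : Nor S ≤ _)
    rw [inf_eq_right.2 le_normalizer, ← H5.card_mul_relIndex (le_normalizer (H := S)), mul_comm,
      im_self hf, card_top] at e1
    rw [Nat.eq_of_mul_eq_mul_right Nat.card_pos e1, ← hu]
    exact orderOf_dvd_natCard u)
  obtain ⟨K, k1, k2, k3⟩ := s.lemX fun u hu => absurd hu (od u)
  have nK : Nor S ≤ Nor (pre f K) := le_normalizer_pre le_rfl le_normalizer_of_normal
  have SK := le_pre_of_ker hk le_normalizer K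
  have nd : ¬ 3 ∣ Nat.card (pre f K) := by
    rw [card_pre hf hk le_normalizer]
    exact fun e => (Nat.prime_three.dvd_mul.1 e).elim k2 (nd_two hS.isPGroup)
  have fp : Fp w (pre f K) (ZS S) := h.fp (nK hw) (nZS S hw) (fun y hy => SK hy.1)
    ((pre_le K).trans (nZS S)) nd ⟨zS, ii h.hz, hS.le⟩ fun y hy => hc y (pre_le K hy)
  obtain ⟨n, hn, e⟩ := h.fuse hS oy hy
  obtain ⟨k, hk', m, hm, e1⟩ := k3 (f ⟨n, hn⟩)
  obtain ⟨i, rfl⟩ := mem_zpowers_iff.1 ((s.nor_cases hm).resolve_right fun e => od _ (s.ord_inv e))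
  have h1 : n * (w ^ i)⁻¹ ∈ pre f K := mem_pre.2 ⟨mul_mem hn (inv_mem (zpow_mem hw i)), by
    rw [show (⟨_, mul_mem hn (inv_mem (zpow_mem hw i))⟩ : Nor S) = ⟨n, hn⟩ * (⟨w, hw⟩ ^ i)⁻¹ from rfl,
      map_mul, map_inv, map_zpow, ← e1, mul_inv_cancel_right]; exact hk'⟩
  obtain ⟨a, ha, d, hd, e2, ea, od'⟩ := exists_pPart 2 (n * (w ^ i)⁻¹)
  have dK := zpowers_le.2 h1 hd
  have dS := pre_le K dK
  have aS := s'.le_of_le_normalizer' (E2.two ea) (zpowers_le.2 (pre_le K (zpowers_le.2 h1 ha)))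
    (zpowers_le.2 (pre_le K (zpowers_le.2 h1 ha))) (mem_zpowers a)
  have od2 := odd_iff_cop.2 od'
  have dz : d ∉ Cen1 z := fun e' => yz (by
    have := mul_mem (e2 ▸ mul_mem (hS.le aS) e' : n * (w ^ i)⁻¹ ∈ Cen1 z) (zpow_mem h.c i)
    rw [inv_mul_cancel_right] at this
    rw [← e, c1'.1 this])
  have A : ∀ b ∈ ZS S, d ∈ Cen1 b → b = 1 := fun b hb db => by
    by_contra b1
    obtain ⟨n, hn, rfl⟩ := h.fuse hS (o2 hb.2.1 b1) hb.2.2
    have h' := h.conj n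
    have := h'.fp' (K := pre f K ⊓ Cen1 (n * z * n⁻¹))
      (minf (nK (mul_mem (mul_mem hn hw) (inv_mem hn))) (mc1 h'.c)) (not_dvd_of_le inf_le_left nd)
      ⟨SK hb.1, c1.2 rfl⟩ inf_le_right
    exact dz (cen_of_Stb h'.hz od2 (this.cop_comm ⟨dK, db⟩ ⟨SK zS, hb.2.2 zS⟩
      ((e2_of_mem hS.isPGroup zS).cop od2)) db)
  have B : ∀ s ∈ S, ∃ b ∈ ZS S, s * b ∈ Cen1 d := fun s hs => by
    have h2 : zpowers d ≤ Stb (ZS S) s⁻¹ := zpowers_le.2 (fp.cop_comm dK (SK (inv_mem hs))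
      ((e2_of_mem hS.isPGroup (inv_mem hs)).cop od2))
    obtain ⟨b, hb, e⟩ := exists_mul_mem_centralizer (A := zpowers d) (H := ZS S)
      (zpowers_le.2 (nZS S dS)) (by
        obtain ⟨j, hj⟩ := H7.card_eq_pow_of_le (hS.isPGroup.to_le (show ZS S ≤ S from fun y hy => hy.1))
        rw [hj, Nat.card_zpowers]; exact od'.pow_right j) (Or.inl (solv_zp d)) (g := s) fun a ha =>
      mem_of_eq (inv_mem (h2 ha).2) (by group)
    exact ⟨b, hb, (cen_zp d).le e⟩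
  have R : S ⊓ Cen1 d = ⊥ := by
    by_contra h0
    obtain ⟨b, h2, h3, h4⟩ := exists_zinv hS.isPGroup.to_inf_left h0
    refine ine h3 (A b ⟨h2.1, ii h3, fun s hs => ?_⟩ (c1s.1 h2.2))
    obtain ⟨c, h5, h6⟩ := B s hs
    exact (mul_mem_cancel_right (c1s.1 (h5.2.2 h2.1))).1 (h4 ⟨mul_mem hs h5.1, h6⟩)
  intro s hs
  obtain ⟨c, h5, h6⟩ := B s hs
  rw [eq_inv_of_mul_eq_one_left (mem_bot.1 (R.le ⟨mul_mem hs h5.1, h6⟩))]
  exact inv_mem h5

theorem Hy.typeN [IsSimpleGroup G] (hG : ¬ IsMulCommutative G) {z w : G} (h : Hy z w)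
    {S : Subgroup G} (hS : IsSylowOf 2 S (Cen1 z)) (hw : w ∈ Nor S) : S ≤ ZS S := by
  by_cases uq : ∀ y ∈ S, orderOf y = 2 → S ≤ Cen1 y → y = z
  · have zS : z ∈ S := Qz_le_syl hS (z_Qz h.hz (mem_zpowers z))
    obtain ⟨a, h1, h2, h3⟩ := exists_other hG (h.syl_cen hS) h.hz hS.le
    obtain ⟨u, hu⟩ := (h.fp' hw (nd_two hS.isPGroup) zS hS.le).exists_NF h.hz hS.isPGroup le_rfl
      hS.le h1 h2 h3
    exact absurd hw (NV.not_nor ⟨hS, hu, uq⟩ h)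
  · push Not at uq
    obtain ⟨y, -, h1, h2, h3⟩ := uq
    exact h.elem_of hS hw h1 h2 h3

end Z6
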