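import Cfsg.Agent.Z6.Hy
import Cfsg.Agent.W.Brauer

/-! The possible types of the involution centralizer. -/

set_option autoImplicit false
set_option linter.unusedVariables false
set_option linter.unusedSectionVars false

namespace Z6

open Cfsg Subgroup FT H4 H5 GW P

universe u

variable {G : Type u} [Group G] [Finite G]

/-- `C(z) / O_{3'}(C(z))` is symmetric of degree three -/
structure T3 (z w s : G) : Prop extends Hy z w where
  sz : s ∈ Cen1 z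
  sw : s * w * s⁻¹ = w⁻¹
  dc : ∀ g ∈ Cen1 z, g ∈ Kz z ⊔ zpowers w ∨ g * s⁻¹ ∈ Kz z ⊔ zpowers w

theorem conj_zp (g a : G) : conjS g (zpowers a) = zpowers (g * a * g⁻¹) := by
  rw [conjS, MonoidHom.map_zpowers]; rfl

theorem Hy.memM {z w : G} (h : Hy z w) {g : G} (hg : g ∈ Kz z ⊔ zpowers w) :
    g ∈ Kz z ∨ g * w⁻¹ ∈ Kz z ∨ g * w ∈ Kz z := by
  obtain ⟨k, hk, v, hv, rfl⟩ := (mem_sup_left_iff (zpowers_le.2 (nKz z h.c))).1 hg
  rcases (H9.mem_zpowers_three h.hw).1 hv with rfl | rfl | rfl <;> simp [hk]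

theorem Hy.memK {z w : G} (h : Hy z w) {g : G} (hg : g ∈ Kz z ⊔ zpowers w)
    (h3 : ¬ 3 ∣ orderOf g) : g ∈ Kz z := by
  have key : ∀ {w : G}, Fp w (Kz z) (zpowers z) → g * w⁻¹ ∈ Kz z → g ∈ Kz z := fun {w} f e =>
    H7.zpowers_le_of_pow_mem (p := 3) (i := orderOf g) (f.le (mem_of_eq (f.cube (cmem' f.nK e))
      (by congr 1; group))) h3 (by rw [pow_orderOf_eq_one]; exact one_mem _)
  rcases h.memM hg with e | e | e
  · exact e
  · exact key h.fpK e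
  · exact key h.fpK.inv (by rwa [inv_inv])

theorem E2.nd3 {g : G} (e : E2 g) : ¬ 3 ∣ orderOf g := by
  rw [← Nat.card_zpowers]; exact nd_two e.two

theorem Hy.memQ {z w : G} (h : Hy z w) {g : G} (hg : g ∈ Kz z ⊔ zpowers w) (e : E2 g) :
    g ∈ Qz z := h.mem_Q (h.memK hg e.nd3) e

namespace T3
variable {z w s : G} (h : T3 z w s)
include h

theorem conj (g : G) : T3 (g * z * g⁻¹) (g * w * g⁻¹) (g * s * g⁻¹) :=
  ⟨h.toHy.conj g, by rw [← conj_c1]; exact conj_mem_conjS h.sz, by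
    rw [show (g * w * g⁻¹)⁻¹ = g * w⁻¹ * g⁻¹ by group, ← h.sw]; group, fun x hx => by
    rw [← conj_c1, mem_conjS] at hx
    rw [Kz, ← conj_c1, ← conjS_pPrimeCoreIn, ← conj_zp, ← conjS_sup, mem_conjS, mem_conjS]
    exact (h.dc _ hx).imp_right fun e => mem_of_eq e (by group)⟩

theorem any {y : G} (hy : orderOf y = 2) : ∃ w s, T3 y w s := by
  obtain ⟨g, rfl⟩ := isConj_iff.1 (h.one y hy)
  exact ⟨_, _, h.conj g⟩

theorem snor : s ∈ Nor (zpowers w) := mem_normalizer_iff_conjS.2 (by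
  rw [conj_zp, h.sw, zpowers_inv])

theorem M_le : Kz z ⊔ zpowers w ≤ Cen1 z := sup_le (Kz_le z) (zpowers_le.2 h.c)

theorem nM : Cen1 z ≤ Nor (Kz z ⊔ zpowers w) := fun g hg => (h.dc g hg).elim (le_normalizer ·)
  fun e => (mul_mem_cancel_right (inv_mem (msup (nKz z h.sz) h.snor))).1 (le_normalizer e)

theorem s2 : s * s ∈ zpowers z := by
  obtain ⟨v, hv, a, ha, e⟩ := h.dec (mul_mem h.sz h.sz) (c1'.2 (by
    calc _ = s * (s * w * s⁻¹) * s⁻¹ := by group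
      _ = (s * w * s⁻¹)⁻¹ := by nth_rewrite 1 [h.sw]; group
      _ = w := by rw [h.sw, inv_inv]))
  have h1 : s ∈ Cen1 v := c1s.1 ((mul_mem_cancel_right (zpowers_le.2 (c1s.1 h.sz) ha)).1
    (e ▸ c1.2 (by group)))
  have h2 : w⁻¹ ≠ w := fun e => by
    have := orderOf_dvd_of_pow_eq_one (show w ^ 2 = 1 by rw [sq]; nth_rewrite 1 [← e]; simp)
    rw [h.hw] at this; omega
  rcases (H9.mem_zpowers_three h.hw).1 hv with rfl | rfl | rfl
  · rwa [← e, one_mul]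
  · exact absurd (h.sw.symm.trans (c1'.1 h1)) h2
  · exact absurd (h.sw.symm.trans (c1'.1 (c1s.1 (inv_mem_iff.1 (c1s.1 h1))))) h2

theorem e2s : E2 s := ⟨2, by
  rcases (mzi h.hz).1 h.s2 with e | e
  · rw [show s ^ 2 ^ 2 = s * s * (s * s) by rw [show 2 ^ 2 = 2 + 2 from rfl, pow_add, sq], e, one_mul]
  · rw [show s ^ 2 ^ 2 = s * s * (s * s) by rw [show 2 ^ 2 = 2 + 2 from rfl, pow_add, sq], e, ii h.hz]⟩

/-- elements outside `M` invert `w` modulo `K` -/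
theorem invK {f : G} (hf : f * s⁻¹ ∈ Kz z ⊔ zpowers w) : w * (f * w * f⁻¹) ∈ Kz z := by
  obtain ⟨k, hk, v, hv, e⟩ := (mem_sup_left_iff (zpowers_le.2 (nKz z h.c))).1 hf
  rw [show f = k * v * s by rw [e]; group,
    show k * v * s * w * (k * v * s)⁻¹ = k * (v * (s * w * s⁻¹) * v⁻¹) * k⁻¹ by group, h.sw,
    c1'.1 (zpowers_le.2 (c1s.1 (inv_mem (c1.2 rfl))) hv)]
  exact mem_of_eq (mul_mem (cmem (nKz z h.c) hk) (inv_mem hk)) (by group)

theorem s_nmem : s ∉ Kz z ⊔ zpowers w := fun e => by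
  have h1 := h.invK (f := s) (by simp)
  have h2 := Qz_le_Kz z (h.toHy.memQ e h.e2s)
  have h3 := mul_mem (inv_mem h2) (cmem h.fpK.nK h2)
  rw [show s⁻¹ * (w * s * w⁻¹) = s⁻¹ * w * (s * w * s⁻¹)⁻¹ * s by group, h.sw, inv_inv,
    mul_assoc s⁻¹, h.fpK.ww] at h3
  have h4 := cmem (nKz z h.sz) h3
  rw [show s * (s⁻¹ * w⁻¹ * s) * s⁻¹ = w⁻¹ by group] at h4
  exact h.fpK.inv.nmem h4

theorem out {f : G} (hf : f ∈ Cen1 z) (e : E2 f) (hq : f ∉ Qz z) :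
    f * s⁻¹ ∈ Kz z ⊔ zpowers w := (h.dc f hf).resolve_left fun a => hq (h.toHy.memQ a e)

theorem rf {f : G} (hf : f ∈ Cen1 z) (e : E2 f) (hq : f ∉ Qz z) : Rf f w (Qz z) := by
  obtain ⟨q, h1, o, h2, e'⟩ := h.decK (h.invK (h.out hf e hq))
  exact ⟨q, h1, o, Oz_cen z h2, by rw [mul_assoc w⁻¹, ← e']; group⟩

theorem idx {a b : G} (ha : a ∈ Cen1 z) (hb : b ∈ Cen1 z) (ea : E2 a) (eb : E2 b)
    (e : E2 (a * b)) (ha' : a ∉ Qz z) (hb' : b ∉ Qz z) : a * b ∈ Qz z := by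
  refine h.toHy.memQ ?_ e
  have h1 := cmem (h.nM h.sz) (h.out hb eb hb')
  exact mem_of_eq (mul_mem (mul_mem (h.out ha ea ha') h1)
    (mem_sup_left (Qz_le_Kz z (z_Qz h.hz h.s2)))) (by group)

theorem idx' {R : Subgroup G} (hR : IsPGroup 2 R) (h1 : R ≤ Cen1 z) {a b : G} (ha : a ∈ R)
    (hb : b ∈ R) (ha' : a ∉ Qz z) (hb' : b ∉ Qz z) : a * b ∈ Qz z :=
  h.idx (h1 ha) (h1 hb) (e2_of_mem hR ha) (e2_of_mem hR hb) (e2_of_mem hR (mul_mem ha hb)) ha' hb'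

theorem idx_dvd {R : Subgroup G} (hR : IsPGroup 2 R) (h1 : R ≤ Cen1 z) :
    (Qz z).relIndex R ∣ 2 := by
  rw [relIindex_dvd_two_iff']
  by_cases h2 : R ≤ Qz z
  · exact ⟨1, one_mem _, fun b hb => Or.inr (h2 hb)⟩
  · obtain ⟨a, ha, ha'⟩ := SetLike.not_le_iff_exists.1 h2
    exact ⟨a, ha, fun b hb => or_iff_not_imp_right.2 (h.idx' hR h1 ha hb ha')⟩

theorem not_le {S : Subgroup G} (hS : IsSylowOf 2 S (Cen1 z)) : ¬ S ≤ Qz z := fun e => by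
  have := hS.le_of_le_normalizer' h.e2s.two (zpowers_le.2 h.sz)
    (le_antisymm (Qz_le_syl hS) e ▸ zpowers_le.2 (nQz z h.sz))
  exact h.s_nmem (mem_sup_left (Qz_le_Kz z (e (this (mem_zpowers s)))))

theorem idx_eq {S : Subgroup G} (hS : IsSylowOf 2 S (Cen1 z)) : (Qz z).relIndex S = 2 :=
  ((Nat.dvd_prime Nat.prime_two).1 (h.idx_dvd hS.isPGroup hS.le)).resolve_left fun e =>
    h.not_le hS (relIndex_eq_one.1 e)

theorem card_syl {S : Subgroup G} (hS : IsSylowOf 2 S (Cen1 z)) :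
    Nat.card S = Nat.card (Qz z) * 2 := by
  rw [← h.idx_eq hS, H7.card_mul_relIndex (Qz_le_syl hS)]

/-- the reflection lemma in `C(z)` -/
theorem refl {f b : G} {N : Subgroup G} (hf : f ∈ Cen1 z) (e : E2 f) (hq : f ∉ Qz z)
    (h1 : zpowers z ≤ N) (h2 : N ≤ Qz z) (h3 : Cen1 z ≤ Nor N) (hb : b ∈ Qz z) (a1 : f ∈ Stb N b)
    (a2 : f ∈ Stb N (w⁻¹ * b * w)) : b ∈ N :=
  (h.fpQ.big h2 h1 (h3 h.c) ((Qz_le z).trans h3)).refl (h.rf hf e hq) hb a1 a2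

theorem oddM {d : G} (hd : d ∈ Cen1 z) (o : Odd (orderOf d)) : d ∈ Kz z ⊔ zpowers w :=
  (h.dc d hd).elim id fun e => GW.mem_of_sq_mem o (mem_of_eq (mul_mem (mul_mem e
    (cmem (h.nM h.sz) e)) (mem_sup_left (Qz_le_Kz z (z_Qz h.hz h.s2)))) (by group))

theorem memO {d : G} (hd : d ∈ Cen1 z) (o : Odd (orderOf d)) (h3 : ¬ 3 ∣ orderOf d) : d ∈ Oz z :=
  h.mem_O (h.toHy.memK (h.oddM hd o) h3) o

theorem cen_of_O {R : Subgroup G} (hR : IsPGroup 2 R) (h1 : R ≤ Cen1 z) {d : G} (hd : d ∈ Oz z)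
    (hn : d ∈ Nor R) : d ∈ Cen R := cen.2 fun y hy => by
  have h2 : d * y * d⁻¹ * y⁻¹ ∈ Oz z :=
    mem_of_eq (mul_mem hd (cmem (nOz z (h1 hy)) (inv_mem hd))) (by group)
  have := (e2_of_mem hR (mul_mem (cmem hn hy) (inv_mem hy))).eq_one (odd_ord (odd_Oo _) h2)
  rwa [mul_inv_eq_one, mul_inv_eq_iff_eq_mul] at this

theorem cen_of_nor {S : Subgroup G} (hS : IsSylowOf 2 S (Cen1 z)) {d : G} (hd : d ∈ Cen1 z)
    (o : Odd (orderOf d)) (hn : d ∈ Nor S) : d ∈ Cen S := by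
  refine h.cen_of_O hS.isPGroup hS.le (h.mem_O ?_ o) hn
  obtain ⟨f, hf, hq⟩ := SetLike.not_le_iff_exists.1 (h.not_le hS)
  have h1 := h.invK (h.out (hS.le hf) (e2_of_mem hS.isPGroup hf) hq)
  have h2 := Qz_le_Kz z (h.idx' hS.isPGroup hS.le (cmem hn hf) (inv_mem hf) (fun e => hq (by
    simpa [mul_assoc] using cmem' (nQz z hd) e)) fun e => hq (inv_mem_iff.1 e))
  have n := nKz z (hS.le hf)
  have nw := nKz z h.c
  rcases h.toHy.memM (h.oddM hd o) with e | e | e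
  · exact e
  · refine absurd (h.fpK.ww ▸ mem_of_eq (mul_mem (mul_mem (mul_mem (inv_mem e) h2)
      (cmem n e)) (cmem' nw h1)) ?_) h.fpK.inv.nmem
    group
  · refine absurd (h.fpK.inv.ww ▸ mem_of_eq (mul_mem (mul_mem (mul_mem (inv_mem e) h2) (cmem n e))
      (inv_mem h1)) ?_) h.fpK.inv.inv.nmem
    group

end T3

end Z6
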