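import Cfsg.Agent.H8.GL23Pat
import Cfsg.Agent.L.Block3
import Cfsg.Agent.H2.Loc

/-! Computations in `GL₂(3)`. -/

set_option autoImplicit false
set_option linter.unusedVariables false
set_option linter.unusedSectionVars false

namespace Z6

open Cfsg Subgroup H8 H9 L

/-- indices of words -/
abbrev Ix := Fin 4 × Fin 2 × Fin 3 × Fin 2

/-- words -/
def wd (p : Ix) : GL23 := glI ^ p.1.1 * glJ ^ p.2.1.1 * glU ^ p.2.2.1.1 * glT ^ p.2.2.2.1

theorem wd_surj : Function.Surjective wd := fun g => by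
  have h := g.det_ne_zero
  rw [Matrix.det_fin_two] at h
  obtain ⟨p, q, r, s, e⟩ := gl23_word _ _ _ _ h
  exact ⟨(p, q, r, s), Units.ext (e.trans (Matrix.eta_fin_two _).symm)⟩

theorem wd_bij : Function.Bijective wd :=
  wd_surj.bijective_of_nat_card_le (by rw [card_GL23]; simp)

theorem card_wd (P : GL23 → Prop) [DecidablePred P] :
    Nat.card {x // P x} = (Finset.univ.filter fun p => P (wd p)).card := by
  rw [← Fintype.card_subtype, ← Nat.card_eq_fintype_card]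
  exact (Nat.card_congr ((Equiv.ofBijective wd wd_bij).subtypeEquiv fun p => Iff.rfl)).symm

/-- the element of order eight -/
def g8 : GL23 := glT * glJ
/-- the element of order six -/
def y6 : GL23 := glI ^ 2 * glU

/-- representatives -/
def R5 : Fin 5 → GL23 := ![glI ^ 2, glI, y6, g8, g8⁻¹]

theorem R5_pow : ∀ i, ∃ m : Fin 5, R5 i ^ m.1 = glI ^ 2 ∧ (R5 i)⁻¹ ^ m.1 = glI ^ 2 := by
  decide +kernel

/-- the table of the bilinear form -/
def tb : Fin 5 → Fin 5 → ℕ :=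
  ![![48, 0, 0, 0, 0], ![0, 8, 0, 0, 0], ![0, 0, 6, 0, 0], ![0, 0, 0, 0, 8], ![0, 0, 0, 8, 0]]

theorem R5_cnt : ∀ i j, (Finset.univ.filter fun p => wd p * (R5 j)⁻¹ = R5 i * wd p).card =
    tb i j := by
  decide +kernel

theorem x_rel : g8 ^ 2 = glI ∧ g8 ^ 3 = glT * g8 * glT⁻¹ ∧ g8 ^ 4 = glI ^ 2 ∧
    g8 ^ 5 = glT * g8⁻¹ * glT⁻¹ ∧ g8 ^ 6 = glT * glI * glT⁻¹ ∧ g8 ^ 7 = g8⁻¹ ∧ g8 ^ 8 = 1 ∧
    y6 ^ 2 = glT * glU * glT⁻¹ ∧ y6 ^ 3 = glI ^ 2 ∧ y6 ^ 4 = glU ∧ y6 ^ 5 = glT * y6 * glT⁻¹ ∧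
    y6 ^ 6 = 1 ∧ glI ^ 3 = glT * glI * glT⁻¹ ∧ glI ^ 4 = 1 ∧ glU ^ 2 = glT * glU * glT⁻¹ ∧
    glU ^ 3 = 1 ∧ y6⁻¹ = glT * y6 * glT⁻¹ := by
  refine ⟨?_, ?_, ?_, ?_, ?_, ?_, ?_, ?_, ?_, ?_, ?_, ?_, ?_, ?_, ?_, ?_, ?_⟩ <;> decide +kernel

theorem wd24 : ∀ p, wd p ^ 24 = 1 := by decide +kernel

theorem wd3 : ∀ p, wd p ^ 3 = 1 → wd p = 1 ∨ ∃ q, wd q * glU = wd p * wd q := by decide +kernel

theorem cnt3 : (Finset.univ.filter fun p => wd p ^ 3 = 1 ∧ wd p ≠ 1).card = 8 := by decide +kernel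

theorem cnt_pairs : ∀ i : Fin 2, (Finset.univ.filter fun p => wd p * wd p = 1 ∧ wd p ≠ 1 ∧
    wd p * R5 (![0, 2] i) * (wd p * R5 (![0, 2] i)) = 1 ∧ wd p * R5 (![0, 2] i) ≠ 1).card =
    ![12, 6] i := by decide +kernel

open scoped Classical

/-- multiplicities of eigenvalues -/
theorem four {G : Type*} [Group G] [Finite G] {χ : G → ℂ} (hχ : IsCharacter G χ) {x : G} {n : ℕ}
    (hx : x ^ n = 1) {ω : ℂ} (hω : ω ^ n = 1) :
    ∃ m : ℕ, ∑ k ∈ Finset.range n, χ (x ^ k) * ω ^ k = n * m := by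
  obtain ⟨s, h1, -, h2⟩ := char_exists_eigenvalues hχ x
  have h3 : ∀ k : ℕ, χ (x ^ k) = (s.map (· ^ k)).sum := fun k => by
    simpa using h2 k
  have h4 : ∀ ζ ∈ s, (ζ * ω) ^ n = 1 := fun ζ h => by
    obtain ⟨c, hc⟩ := orderOf_dvd_of_pow_eq_one hx
    rw [mul_pow, hω, hc, pow_mul, h1 ζ h, one_pow, one_mul]
  simp only [h3]
  clear h1 h2 h3
  induction s using Multiset.induction_on with
  | empty => exact ⟨0, by simp⟩
  | cons ζ s ih =>
    obtain ⟨m, hm⟩ := ih fun a ha => h4 a (Multiset.mem_cons_of_mem ha)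
    simp only [Multiset.map_cons, Multiset.sum_cons, add_mul, Finset.sum_add_distrib, hm, ← mul_pow]
    by_cases e : ζ * ω = 1
    · exact ⟨m + 1, by simp [e]; ring⟩
    · refine ⟨m, ?_⟩
      rw [geom_sum_eq e, h4 ζ (Multiset.mem_cons_self _ _)]
      simp

theorem exists_w3 : ∃ ω : ℂ, ω ^ 2 + ω + 1 = 0 := by
  obtain ⟨s, hs⟩ := IsAlgClosed.exists_pow_nat_eq (-3 : ℂ) two_pos
  exact ⟨(s - 1) / 2, by linear_combination hs / 4⟩

theorem reg_iff (x : GL23) : Reg 2 x ↔ x ^ 3 = 1 := by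
  refine ⟨fun h => ?_, Reg_of_pow_eq_one (by norm_num)⟩
  obtain ⟨p, rfl⟩ := wd_surj x
  have h1 : orderOf (wd p) ∣ 3 * 2 ^ 3 := orderOf_dvd_of_pow_eq_one (wd24 p)
  exact orderOf_dvd_iff_pow_eq_one.1 ((Nat.Coprime.pow_right 3 h).dvd_of_dvd_mul_right h1)

theorem B0_X [Fintype GL23] (φ : IrrCharacter GL23) : ∑ x, regInd 2 x * φ.1 x ≠ 0 := by
  have hc := irr_class φ
  have e1 : ∑ x, regInd 2 x * φ.1 x = φ.1 1 + 8 * φ.1 glU := by
    rw [← Equiv.sum_comp (Equiv.ofBijective wd wd_bij), Finset.sum_congr rfl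
      (g := fun p => (if wd p = 1 then φ.1 1 else 0) +
        if wd p ^ 3 = 1 ∧ wd p ≠ 1 then φ.1 glU else 0) fun p _ => ?_, Finset.sum_add_distrib,
      ← Finset.sum_filter, ← Finset.sum_filter, Finset.sum_const, Finset.sum_const, cnt3,
      show (Finset.univ.filter fun p => wd p = 1).card = 1 by decide +kernel]
    · simp
    · simp only [Equiv.ofBijective_apply, regInd, reg_iff]
      by_cases h1 : wd p = 1
      · simp [h1]
      by_cases h3 : wd p ^ 3 = 1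
      · obtain ⟨q, hq⟩ := (wd3 p h3).resolve_left h1
        rw [← mul_inv_eq_iff_eq_mul] at hq
        simp only [h1, h3, if_true, if_false, ne_eq, not_false_eq_true, and_self, one_mul, zero_add]
        rw [← hq, hc]
      · simp [h1, h3]
  obtain ⟨ω, hω⟩ := exists_w3
  obtain ⟨m, hm⟩ := four (irr_isCharacter φ.2) x_rel.2.2.2.2.2.2.2.2.2.2.2.2.2.2.2.1 (ω := ω)
    (by linear_combination (ω - 1) * hω)
  simp only [Finset.sum_range_succ, Finset.range_zero, Finset.sum_empty, pow_zero, pow_one,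
    x_rel.2.2.2.2.2.2.2.2.2.2.2.2.2.2.1, hc glU glT] at hm
  have h1 := H2.deg_sq_le φ
  rw [card_GL23] at h1
  have h2 := deg_pos φ
  rw [e1]
  intro h0
  rw [deg_eq] at hm h0
  have h3 : (9 * deg φ : ℂ) = 24 * m := by
    linear_combination h0 + 8 * hm - 8 * φ.1 glU * hω
  have h4 : 9 * deg φ = 24 * m := by exact_mod_cast h3
  have : deg φ < 7 := by nlinarith
  omega

end Z6
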