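import Cfsg.Agent.Z6.Tn

/-! In type `S₃` the centre of a Sylow 2-subgroup of order greater than four is cyclic. -/

set_option autoImplicit false
set_option linter.unusedVariables false
set_option linter.unusedSectionVars false

namespace Z6

open Cfsg Subgroup FT H4 H5 GW P

universe u

variable {G : Type u} [Group G] [Finite G]

theorem out_inv {Q : Subgroup G} {a : G} (h : a ∉ Q) : a⁻¹ ∉ Q := fun e => h (inv_mem_iff.1 e)

namespace T3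
variable {z w s : G} (h : T3 z w s)
include h

theorem comm_ne {e f : G} (he : e ∈ Qz z) (hc : Qz z ≤ Cen1 e) (hf : f ∈ Cen1 z) (e2 : E2 f)
    (hq : f ∉ Qz z) : f * e * f⁻¹ ≠ z * e := fun e1 => by
  obtain ⟨k, hk, d, hd, e3⟩ := h.rf hf e2 hq
  have n := nQz z h.c
  have h1 := h.fpQ.tri he
  have h2 := c1'.1 (c1s.1 (zpowers_le.2 (c1s.1 hf) h1))
  have m : ∀ {a}, a ∈ Qz z → Qz z ≤ Cen1 a → k * d ∈ Cen1 a := fun ha hc =>
    mul_mem (hc hk) (c1s.1 (cen_iff_le.1 hd ha))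
  have zq := z_Qz h.hz (mem_zpowers z)
  have m0 := c1'.1 (m zq (Qz_le z))
  have m1 := c1'.1 (m he hc)
  have m2 := c1'.1 (inv_mem (m (cmem n he) (le_cen_conj n hc)))
  have wz := c1'.1 h.c
  have a1 : f * (w * e * w⁻¹) * f⁻¹ = z * (w⁻¹ * e * w) := by
    calc _ = f * w * f⁻¹ * (f * e * f⁻¹) * (f * w * f⁻¹)⁻¹ := by group
      _ = w⁻¹ * (k * d * z * (k * d)⁻¹ * (k * d * e * (k * d)⁻¹)) * w := by rw [e1, e3]; group
      _ = _ := by rw [m0, m1]; nth_rewrite 1 [← wz]; group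
  have a2 : f * (w⁻¹ * e * w) * f⁻¹ = z * (w * e * w⁻¹) := by
    calc _ = (f * w * f⁻¹)⁻¹ * (f * e * f⁻¹) * (f * w * f⁻¹) := by group
      _ = (k * d)⁻¹ * (w * z * w⁻¹) * (k * d) * ((k * d)⁻¹ * (w * e * w⁻¹) * (k * d)⁻¹⁻¹) := by
        rw [e1, e3]; group
      _ = _ := by rw [wz, m2]; nth_rewrite 1 [← m0]; group
  have b1 := c1.1 (Qz_le z (cmem n he))
  have b2 := c1.1 (Qz_le z (cmem' n he))
  have b3 := c1.1 (le_cen_conj n hc (cmem' n he))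
  rw [show f * (w * e * w⁻¹ * (w⁻¹ * e * w) * e) * f⁻¹ = f * (w * e * w⁻¹) * f⁻¹ *
    (f * (w⁻¹ * e * w) * f⁻¹) * (f * e * f⁻¹) by group, a1, a2, e1] at h2
  generalize w * e * w⁻¹ = A at *
  generalize w⁻¹ * e * w = B at *
  rw [← mul_assoc _ z e, mul_left_inj, ← b2, mul_assoc B, ← mul_assoc z, ii h.hz, one_mul, b3,
    mul_eq_left] at h2
  exact ine h.hz h2

theorem cen_mem (hQ : ¬ Qz z ≤ zpowers z) {y : G} (hy : y ∈ Cen1 z) (e : E2 y)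
    (hc : ∀ q ∈ Qz z, y ∈ Stb (zpowers z) q) : y ∈ Qz z := by
  by_contra hn
  exact hQ fun q hq => h.refl hy e hn le_rfl (z_Qz h.hz) (nzz z) hq (hc q hq)
    (hc _ (cmem' (nQz z h.c) hq))

theorem nt {S : Subgroup G} (hS : IsSylowOf 2 S (Cen1 z)) (h4 : Nat.card S ≠ 4) :
    ¬ Qz z ≤ zpowers z := fun e => h4 (by
  rw [h.card_syl hS, le_antisymm e (z_Qz h.hz), czi h.hz])

theorem abel {S : Subgroup G} (hS : IsSylowOf 2 S (Cen1 z)) (ab : Qz z ≤ Cen (Qz z)) {e f : G}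
    (he : e ∈ S) (hf : f ∈ S) : f * e * f⁻¹ ≠ z * e := by
  have A : ∀ {e f : G}, e ∈ Qz z → f ∈ S → f * e * f⁻¹ ≠ z * e := fun {e f} he hf e1 => by
    by_cases hq : f ∈ Qz z
    · rw [c1'.1 (c1s.1 (cen_iff_le.1 (ab he) hq |> c1s.1)), eq_comm, mul_eq_right] at e1
      exact ine h.hz e1
    · exact h.comm_ne he (cen_iff_le.1 (ab he)) (hS.le hf) (e2_of_mem hS.isPGroup hf) hq e1
  have B : ∀ {f : G}, f ∈ Qz z → f * e * f⁻¹ ≠ z * e := fun {f} hf e1 => A (inv_mem hf) he (by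
    rw [← c1.1 (Qz_le z (inv_mem hf)), show z = f * e * f⁻¹ * e⁻¹ by rw [e1]; group]; group)
  intro e1
  by_cases h1 : e ∈ Qz z
  · exact A h1 hf e1
  by_cases h2 : f ∈ Qz z
  · exact B h2 e1
  refine B (h.idx' hS.isPGroup hS.le (inv_mem he) hf (out_inv h1) h2) ?_
  rw [show e⁻¹ * f * e * (e⁻¹ * f)⁻¹ = e⁻¹ * (f * e * f⁻¹) * e by group, e1, ← c1.1 (hS.le he), inv_mul_cancel_left, c1.1 (hS.le he)]

theorem ab_of {R : Subgroup G} {a e : G} (ha : a ∈ Qz z) (hc : Qz z ≤ Cen1 a) (az : a ∉ zpowers z)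
    (he : e ∈ Cen1 z) (e2 : E2 e) (hq : e ∉ Qz z) (h1 : R ≤ Cen1 e) (h2 : a ∈ R)
    (h3 : ∀ x ∈ Qz z, ∀ y ∈ Qz z, x ∉ R → y ∉ R → x * y ∈ R) : Qz z ≤ Cen (Qz z) := by
  have n := nQz z h.c
  have A : ∀ x ∈ Qz z, x ∈ R → w⁻¹ * x * w ∈ R → x ∈ zpowers z := fun x hx a1 a2 =>
    h.refl he e2 hq le_rfl (z_Qz h.hz) (nzz z) hx (Stb_of_cen (mzp he) (c1s.1 (h1 a1)))
      (Stb_of_cen (mzp he) (c1s.1 (h1 a2)))
  have zc : zpowers z ≤ Cen (Qz z) := zp_le_cen.2 (Qz_le z)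
  have B : ∀ x ∈ Qz z, x ∈ R → x ∈ Cen (Qz z) := fun x hx a1 => by
    by_cases a2 : w⁻¹ * x * w ∈ R
    · exact zc (A x hx a1 a2)
    · exact (mul_mem_cancel_right (cen_iff_le.2 hc)).1 (zc (A _ (mul_mem hx ha) (mul_mem a1 h2)
        (mem_of_eq (h3 _ (cmem' n hx) _ (cmem' n ha) a2 fun a3 => az (A a ha h2 a3)) (by group))))
  intro x hx
  by_cases a1 : x ∈ R
  · exact B x hx a1
  · refine (mul_mem_cancel_right (cen_iff_le.2 (le_cen_conj n hc))).1 (B _ (mul_mem hx (cmem n ha))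
      (h3 _ hx _ (cmem n ha) a1 fun a2 => az ?_))
    simpa [mul_assoc] using cmem' (mzp h.c) (A _ (cmem n ha) a2 (by simpa [mul_assoc] using h2))

theorem step {S : Subgroup G} (hS : IsSylowOf 2 S (Cen1 z)) (h4 : Nat.card S ≠ 4) {a : G}
    (ha : a ∈ ZS S) (az : a ∉ zpowers z) : ∃ e ∈ Qz z, Qz z ≤ Cen1 e ∧ ∃ c ∈ ZS S, c ∉ zpowers z ∧
      ∀ f ∈ S, f ∉ Qz z → f * e * f⁻¹ = c * e := by
  have n := nQz z h.c
  have l := Qz_le_syl hS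
  have aQ := h.cen_mem (h.nt hS h4) (hS.le ha.1) (e2_of_mem hS.isPGroup ha.1) fun q hq =>
    Stb_of_cen (mzp (hS.le ha.1)) (c1s.1 (ha.2.2 (l hq)))
  have e1 := cmem' n aQ
  have e2 := le_cen_conj (inv_mem n) (l.trans ha.2.2)
  have e3 := sq_conj ha.2.1 w⁻¹
  rw [inv_inv] at e2 e3
  obtain ⟨f, hf, hq⟩ := SetLike.not_le_iff_exists.1 (h.not_le hS)
  have e4 : f ∉ Cen1 (w⁻¹ * a * w) := fun e => az (h.refl (hS.le hf) (e2_of_mem hS.isPGroup hf) hq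
    le_rfl (z_Qz h.hz) (nzz z) aQ (Stb_of_cen (mzp (hS.le hf)) (ha.2.2 hf))
    (Stb_of_cen (mzp (hS.le hf)) e))
  generalize w⁻¹ * a * w = e at e1 e2 e3 e4
  have nf := nQz z (hS.le hf)
  have i : ∀ g ∈ S, g ∉ Qz z → f⁻¹ * g ∈ Qz z := fun g hg h1 =>
    h.idx' hS.isPGroup hS.le (inv_mem hf) hg (out_inv hq) h1
  have b1 := c1.1 (e2 (cmem nf e1))
  have b2 : Qz z ≤ Cen1 (f * e * f⁻¹ * e) := fun g hg =>
    c1s.1 (mul_mem (c1s.1 (le_cen_conj nf e2 hg)) (c1s.1 (e2 hg)))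
  have b3 : f ∈ Cen1 (f * e * f⁻¹ * e) := c1'.2 (by
    rw [show f * (f * e * f⁻¹ * e) * f⁻¹ = f * f * e * (f * f)⁻¹ * (f * e * f⁻¹) by group,
      c1'.1 (e2 (h.idx' hS.isPGroup hS.le hf hf hq hq)), b1])
  have b4 : f * e * f⁻¹ = f * e * f⁻¹ * e * e := by rw [mul_assoc _ e e, e3, mul_one]
  refine ⟨e, e1, e2, f * e * f⁻¹ * e, ⟨l (mul_mem (cmem nf e1) e1), ?_, fun g hg => ?_⟩, fun e5 => ?_,
    fun g hg h1 => ?_⟩
  · nth_rewrite 2 [b1]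
    rw [mul_assoc, ← mul_assoc e, e3, one_mul, sq_conj e3]
  · by_cases h1 : g ∈ Qz z
    · exact b2 h1
    · exact (mul_mem_cancel_left (inv_mem b3)).1 (b2 (i g hg h1))
  · rcases (mzi h.hz).1 e5 with e5 | e5
    · exact e4 (c1'.2 (by rw [b4, e5, one_mul]))
    · exact h.comm_ne e1 e2 (hS.le hf) (e2_of_mem hS.isPGroup hf) hq (by rw [b4, e5])
  · rw [← b4]; nth_rewrite 2 [← c1'.1 (e2 (i g hg h1))]; group

theorem uq {S : Subgroup G} (hS : IsSylowOf 2 S (Cen1 z)) (h4 : Nat.card S ≠ 4) :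
    ∀ y ∈ S, orderOf y = 2 → S ≤ Cen1 y → y = z := by
  intro y0 y1 y2 y3
  by_contra y4
  have zS : z ∈ ZS S := ⟨Qz_le_syl hS (z_Qz h.hz (mem_zpowers z)), ii h.hz, hS.le⟩
  have yS : y0 ∈ ZS S := ⟨y1, ii y2, y3⟩
  have T : ∀ y ∈ ZS S, y ≠ 1 → IsSylowOf 2 S (Cen1 y) ∧ ∃ w s, T3 y w s := fun y hy e =>
    ⟨(h.syl_cen hS).of_le hy.2.2 le_top, h.any (o2 hy.2.1 e)⟩
  have ne1 : ∀ {c y : G}, c ∉ zpowers y → c ≠ 1 := fun e e' => e (e' ▸ one_mem _)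
  have NA : ∀ y, orderOf y = 2 → ¬ Qz y ≤ Cen (Qz y) := fun y oy ab => by
    obtain ⟨e, e1, -, c, c1, c2, c3⟩ := h.step hS h4 yS fun e => ((mzi h.hz).1 e).elim (ine y2) y4
    obtain ⟨f, hf, hq⟩ := SetLike.not_le_iff_exists.1 (h.not_le hS)
    obtain ⟨s1, w', s', t⟩ := T c c1 (ne1 c2)
    obtain ⟨g, rfl⟩ := isConj_iff.1 ((h.one y oy).symm.trans (h.one c t.hz))
    refine t.abel s1 ?_ (Qz_le_syl hS e1) hf (c3 f hf hq)
    rw [← conj_Qz]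
    exact (conjS_mono g ab).trans (conjS_centralizer _ _).le
  have U : ∀ y ∈ ZS S, y ≠ 1 → ∃ c ∈ ZS S, c ∉ zpowers y ∧ Qz c ≠ Qz y ∧
      ∀ x ∈ ZS S, x ≠ 1 → Qz x ≠ Qz y → x = c := fun y hy e => by
    obtain ⟨s1, w1, s', t⟩ := T y hy e
    obtain ⟨a, ha, ay⟩ : ∃ a ∈ ZS S, a ∉ zpowers y := by
      by_cases e' : y = z
      · exact ⟨y0, yS, fun e => ((mzi t.hz).1 e).elim (ine y2) (e' ▸ y4)⟩
      · exact ⟨z, zS, fun e => ((mzi t.hz).1 e).elim (ine h.hz) (Ne.symm e')⟩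
    obtain ⟨e, e1, e2, c, c1, c2, c3⟩ := t.step s1 h4 ha ay
    obtain ⟨f, hf, hq⟩ := SetLike.not_le_iff_exists.1 (t.not_le s1)
    have eS := Qz_le_syl s1 e1
    refine ⟨c, c1, c2, fun e' => ?_, fun x hx x1 e' => ?_⟩
    · obtain ⟨s2, w2, s', t2⟩ := T c c1 (ne1 c2)
      exact t2.comm_ne (e' ▸ e1) (e' ▸ e2) (s2.le hf) (e2_of_mem hS.isPGroup hf) (e' ▸ hq) (c3 f hf hq)
    obtain ⟨s2, w2, s', t2⟩ := T x hx x1
    have l := Qz_le_syl s2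
    have yQ := t2.cen_mem (t2.nt s2 h4) (s2.le hy.1) (e2_of_mem hS.isPGroup hy.1) fun q hq =>
      Stb_of_cen (mzp (s2.le hy.1)) (c1s.1 (hy.2.2 (l hq)))
    have eQ : e ∈ Qz x := by
      by_contra hn
      exact NA x t2.hz (t2.ab_of yQ (l.trans hy.2.2) (fun e'' => ((mzi t2.hz).1 e'').elim (ine t.hz)
        fun e'' => e' (e'' ▸ rfl)) (s2.le eS) (e2_of_mem hS.isPGroup eS) hn e2
        (z_Qz t.hz (mem_zpowers y)) fun a ha b hb => t.idx' hS.isPGroup s1.le (l ha) (l hb))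
    obtain ⟨f', hf', hq'⟩ := SetLike.not_le_iff_exists.1 fun e'' : Qz x ≤ Qz y =>
      e' (eq_of_le_of_card_ge e'' (by
        have := t.card_syl s1
        have := t2.card_syl s2
        omega))
    have := (t2.fpQ.le_Stb eQ ((relIndex_dvd_of_le_left _ (show Qz y ≤ Stb (zpowers x) e from
      fun g hg => Stb_of_cen (mzp (s2.le (Qz_le_syl s1 hg))) (e2 hg))).trans
      (t.idx_dvd (two_Qz x) (l.trans s1.le))) hf').2
    rw [c3 f' (l hf') hq', mul_inv_cancel_right] at this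
    exact (((mzi t2.hz).1 this).resolve_left (ne1 c2)).symm
  obtain ⟨c, c1, c2, c3, c4⟩ := U z zS (ine h.hz)
  obtain ⟨c', -, -, -, c5⟩ := U c c1 (ne1 c2)
  have m1 : z * c ≠ 1 := fun e => c2 (by rw [eq_inv_of_mul_eq_one_right e]; exact inv_mem (mem_zpowers z))
  have m2 : Qz (z * c) = Qz z := by
    by_contra e
    exact ine h.hz (mul_eq_right.1 (c4 _ (mul_mem zS c1) m1 e))
  exact ne1 c2 (mul_eq_left.1 ((c5 _ (mul_mem zS c1) m1 (m2 ▸ c3.symm)).trans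
    (c5 z zS (ine h.hz) c3.symm).symm))

end T3

end Z6
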